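import Cfsg.Agent.H14.PSeries

set_option autoImplicit false
open Cfsg
open scoped commutatorElement

namespace Cfsg.Agent.H14

/-- One step of the upper `p`-series. -/
noncomputable def upsStep (p : ℕ) (G : Type*) [Group G] (n : ℕ)
    (U : {H : Subgroup G // H.Normal}) : {H : Subgroup G // H.Normal} :=
  haveI : U.1.Normal := U.2
  if Even n then ⟨(pPrimeCore p (G ⧸ U.1)).comap (QuotientGroup.mk' _), inferInstance⟩
  else ⟨(pCore p (G ⧸ U.1)).comap (QuotientGroup.mk' _), inferInstance⟩

theorem upperPSeries_succ_eq (p : ℕ) (G : Type*) [Group G] (n : ℕ) :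
    upperPSeries p G (n + 1) = upsStep p G n (upperPSeries p G n) := by
  rw [upperPSeries]; rfl

/-- The upper `p`-series started at a normal subgroup `M`. -/
noncomputable def relSeries (p : ℕ) (G : Type*) [Group G] (M : {H : Subgroup G // H.Normal}) :
    ℕ → {H : Subgroup G // H.Normal}
  | 0 => M
  | n + 1 => upsStep p G n (relSeries p G M n)

theorem relSeries_bot (p : ℕ) (G : Type*) [Group G] :
    ∀ n, relSeries p G ⟨⊥, inferInstance⟩ n = upperPSeries p G n
  | 0 => by rw [relSeries, upperPSeries]
  | n + 1 => by rw [relSeries, relSeries_bot p G n, upperPSeries_succ_eq]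

theorem upsStep_add_two (p : ℕ) (G : Type*) [Group G] (n : ℕ)
    (U : {H : Subgroup G // H.Normal}) : upsStep p G (n + 2) U = upsStep p G n U := by
  have h : Even (n + 2) ↔ Even n := by
    rw [Nat.even_add]; simp
  unfold upsStep
  simp only [h]

theorem relSeries_add_two (p : ℕ) (G : Type*) [Group G] (M : {H : Subgroup G // H.Normal}) :
    ∀ n, relSeries p G M (n + 2) = relSeries p G (relSeries p G M 2) n
  | 0 => rfl
  | n + 1 => by
    show upsStep p G (n + 2) (relSeries p G M (n + 2)) =
      upsStep p G n (relSeries p G (relSeries p G M 2) n)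
    rw [upsStep_add_two, relSeries_add_two p G M n]

theorem relSeries_one (p : ℕ) (G : Type*) [Group G] (M : {H : Subgroup G // H.Normal}) :
    haveI : M.1.Normal := M.2
    (relSeries p G M 1).1 = (pPrimeCore p (G ⧸ M.1)).comap (QuotientGroup.mk' _) := by
  show (upsStep p G 0 M).1 = _
  unfold upsStep
  simp

theorem relSeries_two (p : ℕ) (G : Type*) [Group G] (M : {H : Subgroup G // H.Normal}) :
    haveI : (relSeries p G M 1).1.Normal := (relSeries p G M 1).2
    (relSeries p G M 2).1 =
      (pCore p (G ⧸ (relSeries p G M 1).1)).comap (QuotientGroup.mk' _) := by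
  show (upsStep p G 1 (relSeries p G M 1)).1 = _
  unfold upsStep
  simp

theorem relSeries_eq_top_of_lcs_le {G : Type*} [Group G] [Finite G] (p : ℕ) [Fact p.Prime]
    (hsol : IsPSolvable p G) (S : Sylow p G) :
    ∀ (c : ℕ) (M : {H : Subgroup G // H.Normal}), (S : Subgroup G).lowerCentralSeries c ≤ M.1 →
      (relSeries p G M (2 * c + 1)).1 = ⊤ := by
  intro c
  induction c with
  | zero =>
    intro M hM
    haveI : M.1.Normal := M.2
    rw [relSeries_one]
    have hS : (S : Subgroup G) ≤ M.1 := hM
    have hcop : (Nat.card (G ⧸ M.1)).Coprime p := by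
      rw [← Subgroup.index_eq_card]
      have h1 : M.1.index ∣ (S : Subgroup G).index := Subgroup.index_dvd_of_le hS
      have h2 : ¬ p ∣ (S : Subgroup G).index := S.not_dvd_index
      have h3 : ¬ p ∣ M.1.index := fun h => h2 (h.trans h1)
      exact ((Nat.Prime.coprime_iff_not_dvd Fact.out).mpr h3).symm
    have htop : pPrimeCore p (G ⧸ M.1) = ⊤ := by
      rw [eq_top_iff]
      apply le_pPrimeCore inferInstance
      rw [Subgroup.card_top]; exact hcop
    rw [htop, Subgroup.comap_top]
  | succ c ih =>
    intro M hM
    haveI : M.1.Normal := M.2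
    haveI : (relSeries p G M 1).1.Normal := (relSeries p G M 1).2
    have hN := relSeries_one p G M
    have hQ := relSeries_two p G M
    have hHH := centralizer_pCore_quotient_le p hsol M.1 (relSeries p G M 1).1 hN
    have hMN : M.1 ≤ (relSeries p G M 1).1 := by rw [hN]; exact le_comap_mk' _ _
    rw [Subgroup.lowerCentralSeries_succ] at hM
    have key : (S : Subgroup G).lowerCentralSeries c ≤ (relSeries p G M 2).1 := by
      intro x hx
      rw [hQ, Subgroup.mem_comap]
      apply hHH
      rw [Subgroup.mem_centralizer_iff]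
      intro y hy
      have hsurj : Function.Surjective (QuotientGroup.mk' (relSeries p G M 1).1) :=
        QuotientGroup.mk'_surjective _
      have hle := (pCore_isPGroup p (G ⧸ (relSeries p G M 1).1)).le_sylow_of_normal
        (Sylow.mapSurjective hsurj S)
      have hy' : y ∈ (S : Subgroup G).map (QuotientGroup.mk' (relSeries p G M 1).1) := by
        rw [← Sylow.coe_mapSurjective hsurj S]
        exact hle hy
      obtain ⟨s, hs, rfl⟩ := hy'
      have hcomm : ⁅x, s⁆ ∈ (relSeries p G M 1).1 :=
        hMN (hM (Subgroup.commutator_mem_commutator hx hs))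
      have h1 : (QuotientGroup.mk' (relSeries p G M 1).1) ⁅x, s⁆ = 1 :=
        (QuotientGroup.eq_one_iff _).mpr hcomm
      rw [map_commutatorElement, commutatorElement_eq_one_iff_commute] at h1
      exact h1.eq.symm
    have h2 := ih (relSeries p G M 2) key
    have h3 : 2 * (c + 1) + 1 = (2 * c + 1) + 2 := by ring
    rw [h3, relSeries_add_two]
    exact h2

/-- The `p`-length of a `p`-soluble group is at most the class of its Sylow `p`-subgroups. -/
theorem pLengthLE_nilpotencyClass {G : Type*} [Group G] [Finite G] (p : ℕ) [Fact p.Prime]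
    (hsol : IsPSolvable p G) (S : Sylow p G) :
    PLengthLE p (Group.nilpotencyClass ↥(S : Subgroup G)) G := by
  haveI : Group.IsNilpotent ↥(S : Subgroup G) := S.isPGroup'.isNilpotent
  unfold PLengthLE
  rw [← relSeries_bot]
  apply relSeries_eq_top_of_lcs_le p hsol S
  rw [← Subgroup.top_subtype_lowerCentralSeries, Subgroup.lowerCentralSeries_nilpotencyClass,
    Subgroup.map_bot]

end Cfsg.Agent.H14
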