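import Cfsg.Agent.H14.Thompson

set_option autoImplicit false
open Cfsg
open scoped commutatorElement Pointwise

namespace Cfsg.Agent.H14

universe u

theorem sylow_smul_coe {G : Type u} [Group G] {p : ℕ} (g : G) (T : Sylow p G) :
    ((g • T : Sylow p G) : Subgroup G) = (T : Subgroup G).map (MulAut.conj g).toMonoidHom := by
  rw [Sylow.coe_subgroup_smul]
  rfl

/-- The subgroup generated by all `Ω₁(Z(S))`, `S` Sylow. -/
def sylowCenterV (p : ℕ) (G : Type u) [Group G] : Subgroup G :=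
  ⨆ S : Sylow p G, Cfsg.omegaOne p ((S : Subgroup G) ⊓ Subgroup.centralizer ((S : Subgroup G) : Set G))

theorem sylowCenterV_normal (p : ℕ) (G : Type u) [Group G] : (sylowCenterV p G).Normal := by
  constructor
  intro n hn g
  have h1 : (sylowCenterV p G).map (MulAut.conj g).toMonoidHom ≤ sylowCenterV p G := by
    unfold sylowCenterV
    rw [Subgroup.map_iSup]
    apply iSup_le
    intro S
    rw [omegaOne_center_conj, ← sylow_smul_coe]
    exact le_iSup (fun S : Sylow p G => Cfsg.omegaOne p ((S : Subgroup G) ⊓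
      Subgroup.centralizer ((S : Subgroup G) : Set G))) (g • S)
  exact h1 ⟨n, hn, rfl⟩

/-- Thompson factorization (with trivial `p'`-core) forces `J(T)` to centralize every `Ω₁(Z(S))`. -/
theorem thompsonOf_le_centralizer_of_factorizable {G : Type u} [Group G] [Finite G] {p : ℕ}
    [Fact p.Prime] (hO : Cfsg.pPrimeCore p G = ⊥) (hF : Cfsg.IsThompsonFactorizable p G)
    (S T : Sylow p G) :
    Cfsg.thompsonSubgroupOf p (T : Subgroup G) ≤ Subgroup.centralizer
      (Cfsg.omegaOne p ((S : Subgroup G) ⊓ Subgroup.centralizer ((S : Subgroup G) : Set G)) : Set G) := by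
  obtain ⟨g, hg⟩ := MulAction.exists_smul_eq G T S
  obtain ⟨x, hx, c, hc, n, hn, hgcn⟩ := hF T g⁻¹
  rw [hO, Subgroup.mem_bot] at hx
  subst hx
  rw [one_mul] at hgcn
  have hgeq : g = n⁻¹ * c⁻¹ := by
    rw [← inv_inv g, hgcn]; group
  have hS : (S : Subgroup G) = (T : Subgroup G).map (MulAut.conj g).toMonoidHom := by
    rw [← hg, sylow_smul_coe]
  rw [hS, ← omegaOne_center_conj]
  intro j hj
  rw [Subgroup.mem_centralizer_iff]
  rintro _ ⟨z₀, hz₀, rfl⟩
  have hj' : n * j * n⁻¹ ∈ Cfsg.thompsonSubgroupOf p (T : Subgroup G) :=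
    (Subgroup.mem_normalizer_iff.mp hn j).mp hj
  have hcz : c * z₀ = z₀ * c := by
    rw [Subgroup.mem_centralizer_iff] at hc
    exact (hc z₀ hz₀).symm
  have hjz : z₀ * (n * j * n⁻¹) = (n * j * n⁻¹) * z₀ := by
    have h1 := omegaOne_center_le_centralizer p (T : Subgroup G) hz₀
    rw [Subgroup.mem_centralizer_iff] at h1
    exact (h1 _ (thompsonSubgroupOf_le p _ hj')).symm
  have hcz' : c⁻¹ * z₀ * c = z₀ := by rw [mul_assoc, ← hcz, ← mul_assoc, inv_mul_cancel, one_mul]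
  show (MulAut.conj g) z₀ * j = j * (MulAut.conj g) z₀
  rw [MulAut.conj_apply, hgeq]
  have e1 : n⁻¹ * c⁻¹ * z₀ * (n⁻¹ * c⁻¹)⁻¹ = n⁻¹ * (c⁻¹ * z₀ * c) * n := by group
  rw [e1, hcz']
  calc n⁻¹ * z₀ * n * j = n⁻¹ * (z₀ * (n * j * n⁻¹)) * n := by group
    _ = n⁻¹ * ((n * j * n⁻¹) * z₀) * n := by rw [hjz]
    _ = j * (n⁻¹ * z₀ * n) := by group

theorem thompson_le_centralizer_of_factorizable {G : Type u} [Group G] [Finite G] {p : ℕ}
    [Fact p.Prime] (hO : Cfsg.pPrimeCore p G = ⊥) (hF : Cfsg.IsThompsonFactorizable p G) :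
    Cfsg.thompsonSubgroup p G ≤ Subgroup.centralizer (sylowCenterV p G : Set G) := by
  unfold Cfsg.thompsonSubgroup
  apply sSup_le
  intro A hA
  obtain ⟨T, hT⟩ := exists_sylow_le_thompsonSubgroupOf hA
  refine hT.trans ?_
  rw [Subgroup.le_centralizer_iff]
  unfold sylowCenterV
  apply iSup_le
  intro S
  rw [← Subgroup.le_centralizer_iff]
  exact thompsonOf_le_centralizer_of_factorizable hO hF S T

/-- If `J(G)` centralizes `V`, then `G = C_G(V) N_G(J(S))` for every Sylow `S`. -/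
theorem factorizable_of_thompson_le_centralizer {G : Type u} [Group G] [Finite G] {p : ℕ}
    [Fact p.Prime]
    (hJ : Cfsg.thompsonSubgroup p G ≤ Subgroup.centralizer (sylowCenterV p G : Set G))
    (S : Sylow p G) (g : G) :
    ∃ c ∈ Subgroup.centralizer (sylowCenterV p G : Set G),
      ∃ n ∈ Subgroup.normalizer (Cfsg.thompsonSubgroupOf p (S : Subgroup G) : Set G), g = c * n := by
  haveI := sylowCenterV_normal p G
  set C := Subgroup.centralizer (sylowCenterV p G : Set G) with hC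
  haveI : C.Normal := Subgroup.normal_centralizer
  let P₀ : Sylow p ↥C := default
  set T₀ : Subgroup G := (P₀ : Subgroup ↥C).map C.subtype with hT₀
  have hT₀p : IsPGroup p T₀ := P₀.2.map _
  obtain ⟨S₀, hS₀⟩ := hT₀p.exists_le_sylow
  have hT₀C : T₀ ≤ C := Subgroup.map_subtype_le _
  have hinf : (S₀ : Subgroup G) ⊓ C = T₀ := by
    have h1 : IsPGroup p ↥(((S₀ : Subgroup G) ⊓ C).subgroupOf C) :=
      (S₀.2.to_le inf_le_left).comap_subtype
    have h2 : (P₀ : Subgroup ↥C) ≤ ((S₀ : Subgroup G) ⊓ C).subgroupOf C := by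
      intro x hx
      rw [Subgroup.mem_subgroupOf]
      exact ⟨hS₀ ⟨x, hx, rfl⟩, x.2⟩
    have h3 := P₀.is_maximal' h1 h2
    rw [hT₀, ← h3, Subgroup.map_subgroupOf_eq_of_le inf_le_right]
  have hex := exists_maxElAb_le_sylow S₀
  have hJS₀ : Cfsg.thompsonSubgroupOf p (S₀ : Subgroup G) ≤ T₀ := by
    rw [← hinf]
    exact le_inf (thompsonSubgroupOf_le p _)
      ((thompsonSubgroupOf_le_thompsonSubgroup _ hex).trans hJ)
  have hJeq : Cfsg.thompsonSubgroupOf p T₀ = Cfsg.thompsonSubgroupOf p (S₀ : Subgroup G) :=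
    thompsonSubgroupOf_eq_of_le _ _ hex hS₀ hJS₀
  have hfr : Subgroup.normalizer (T₀ : Set G) ⊔ C = ⊤ := Sylow.normalizer_sup_eq_top P₀
  have hNle : Subgroup.normalizer (T₀ : Set G) ≤
      Subgroup.normalizer (Cfsg.thompsonSubgroupOf p (S₀ : Subgroup G) : Set G) := by
    intro n hn
    rw [Subgroup.mem_normalizer_iff_map_conj_eq] at hn ⊢
    have h1 := thompsonSubgroupOf_conj p n T₀
    have hn' : T₀.map (MulAut.conj n).toMonoidHom = T₀ := hn
    rw [hn', hJeq] at h1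
    exact h1
  obtain ⟨h, hh⟩ := MulAction.exists_smul_eq G S₀ S
  have hS : (S : Subgroup G) = (S₀ : Subgroup G).map (MulAut.conj h).toMonoidHom := by
    rw [← hh, sylow_smul_coe]
  have hmem : h⁻¹ * g * h ∈ Subgroup.normalizer (T₀ : Set G) ⊔ C := by rw [hfr]; trivial
  obtain ⟨n₀, hn₀, c₀, hc₀, hnc⟩ := Subgroup.mem_sup_of_normal_right.mp hmem
  have hn₀' := hNle hn₀
  -- g = h n₀ c₀ h⁻¹ = (h n₀ c₀ n₀⁻¹ h⁻¹) (h n₀ h⁻¹)
  refine ⟨h * n₀ * c₀ * n₀⁻¹ * h⁻¹, ?_, h * n₀ * h⁻¹, ?_, ?_⟩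
  · have : h * n₀ * c₀ * n₀⁻¹ * h⁻¹ = (h * n₀) * c₀ * (h * n₀)⁻¹ := by group
    rw [this]
    exact ‹C.Normal›.conj_mem c₀ hc₀ _
  · rw [hS, ← thompsonSubgroupOf_conj]
    have h1 : (Subgroup.normalizer (Cfsg.thompsonSubgroupOf p (S₀ : Subgroup G) : Set G)).map
        (MulAut.conj h).toMonoidHom ≤ _ := Subgroup.le_normalizer_map (MulAut.conj h).toMonoidHom
    exact h1 ⟨n₀, hn₀', rfl⟩
  · have : g = h * (h⁻¹ * g * h) * h⁻¹ := by group
    rw [this, ← hnc]; group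

end Cfsg.Agent.H14
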