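/-
helper14 library for helper87's S5201 (piece PPRIME): an automorphism in `Aut_F(R)`,
`T ≤ R ≤ T C_S(T)`, of order prime to `p` that is the identity on `T` is trivial.
-/
import Cfsg.Agent.H87.CenDefs

set_option autoImplicit false

namespace Cfsg.Agent.H14.Cen

open Cfsg Cfsg.FusionSystem Cfsg.Agent.H86 Cfsg.Agent.H87

universe u

/-- Elements of `A ⊔ B` for elementwise commuting subgroups. -/
theorem mem_sup_of_commute {G : Type*} [Group G] {A B : Subgroup G}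
    (hAB : ∀ a ∈ A, ∀ b ∈ B, a * b = b * a) {x : G} (hx : x ∈ A ⊔ B) :
    ∃ a ∈ A, ∃ b ∈ B, x = a * b := by
  let M : Subgroup G :=
    { carrier := {x | ∃ a ∈ A, ∃ b ∈ B, x = a * b}
      mul_mem' := by
        rintro _ _ ⟨a, ha, b, hb, rfl⟩ ⟨a', ha', b', hb', rfl⟩
        refine ⟨a * a', A.mul_mem ha ha', b * b', B.mul_mem hb hb', ?_⟩
        calc a * b * (a' * b') = a * (b * a') * b' := by group
          _ = a * (a' * b) * b' := by rw [hAB a' ha' b hb]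
          _ = a * a' * (b * b') := by group
      one_mem' := ⟨1, A.one_mem, 1, B.one_mem, by simp⟩
      inv_mem' := by
        rintro _ ⟨a, ha, b, hb, rfl⟩
        refine ⟨a⁻¹, A.inv_mem ha, b⁻¹, B.inv_mem hb, ?_⟩
        rw [mul_inv_rev]
        exact (hAB a⁻¹ (A.inv_mem ha) b⁻¹ (B.inv_mem hb)).symm }
  have h1 : A ⊔ B ≤ M :=
    sup_le (fun a ha => ⟨a, ha, 1, B.one_mem, by simp⟩) (fun b hb => ⟨1, A.one_mem, b, hb, by simp⟩)
  exact h1 hx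

theorem inv_maps {P : Type*} [Group P] (X : Subgroup P) [Finite X] (β : MulAut P)
    (h : ∀ x ∈ X, β x ∈ X) : ∀ x ∈ X, β⁻¹ x ∈ X := by
  intro r hr
  have hinj : Function.Injective (fun r : X => (⟨β r, h r r.2⟩ : X)) := by
    intro x y hxy
    have := congrArg Subtype.val hxy
    exact Subtype.ext (β.injective this)
  obtain ⟨r', hr'⟩ := Finite.surjective_of_injective hinj ⟨r, hr⟩
  have h1 : β r' = r := congrArg Subtype.val hr'
  rw [← h1, MulAut.inv_apply_self]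
  exact r'.2

theorem maps_center {P : Type*} [Group P] (Q : Subgroup P) (β : MulAut P)
    (h : ∀ x ∈ Q, β x ∈ Q) (h' : ∀ x ∈ Q, β⁻¹ x ∈ Q) :
    ∀ ζ ∈ Q ⊓ Subgroup.centralizer (Q : Set P), β ζ ∈ Q ⊓ Subgroup.centralizer (Q : Set P) := by
  intro ζ hζ
  refine ⟨h ζ hζ.1, Subgroup.mem_centralizer_iff.2 ?_⟩
  intro q hq
  have h1 := Subgroup.mem_centralizer_iff.1 hζ.2 (β⁻¹ q) (h' q hq)
  have h2 := congrArg β h1
  rw [map_mul, map_mul, MulAut.apply_inv_self] at h2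
  exact h2

/-- The averaging step, for an abstract finite group `P = Q · RC`. -/
theorem exists_aut_fix {P : Type u} [Group P] [Finite P] {p : ℕ} [Fact p.Prime]
    (Q RC : Subgroup P) (hgen : Q ⊔ RC = ⊤) (hcomm : ∀ q ∈ Q, ∀ r ∈ RC, q * r = r * q)
    (hQp : IsPGroup p Q)
    (𝒜 : Subgroup (MulAut P)) (H A : MulAut P) (hH : H ∈ 𝒜) (hA : A ∈ 𝒜)
    (n : ℕ) (hn : H ^ n = 1) (hcop : n.Coprime p)
    (hHQ : ∀ x ∈ Q, H x = x) (hHR : ∀ r ∈ RC, H r ∈ RC)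
    (hAQ : ∀ x ∈ Q, A x ∈ Q)
    (hAR : ∀ r ∈ RC, r⁻¹ * A r ∈ Q ⊓ Subgroup.centralizer (Q : Set P))
    (hAvg : ∀ (G : Type u) [Group G] (K : Subgroup G) [Finite K],
      (∀ x ∈ K, ∀ y ∈ K, x * y = y * x) → ∀ (h a : G) (n : ℕ), h ^ n = 1 →
      n.Coprime (Nat.card K) → (∀ x ∈ K, h * x * h⁻¹ ∈ K) → a⁻¹ * h * a * h⁻¹ ∈ K →
      ∃ κ ∈ K, h * (a * κ) = a * κ * h) :
    ∃ B ∈ 𝒜, (∀ x ∈ Q, B x = A x) ∧ ∀ r ∈ RC, B (r⁻¹ * H r) = r⁻¹ * H r := by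
  classical
  have hZc : ∀ ζ ∈ Q ⊓ Subgroup.centralizer (Q : Set P), ∀ q ∈ Q, q * ζ = ζ * q :=
    fun ζ h q hq => Subgroup.mem_centralizer_iff.1 h.2 q hq
  have hHinvQ : ∀ x ∈ Q, H⁻¹ x = x := by
    intro x hx
    have h1 := hHQ x hx
    calc H⁻¹ x = H⁻¹ (H x) := by rw [h1]
      _ = x := MulAut.inv_apply_self _ H x
  have hHinvR : ∀ r ∈ RC, H⁻¹ r ∈ RC := inv_maps RC H hHR
  have hAinvQ : ∀ x ∈ Q, A⁻¹ x ∈ Q := inv_maps Q A hAQ
  have hAZ := maps_center Q A hAQ hAinvQ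
  have hAinvZ := maps_center Q A⁻¹ hAinvQ (by rw [inv_inv]; exact hAQ)
  -- extensionality
  have hext : ∀ β γ : MulAut P, (∀ x ∈ Q, β x = γ x) → (∀ r ∈ RC, β r = γ r) → β = γ := by
    intro β γ h1 h2
    have h3 : Q ⊔ RC ≤ MonoidHom.eqLocus β.toMonoidHom γ.toMonoidHom :=
      sup_le (fun x hx => h1 x hx) (fun r hr => h2 r hr)
    rw [hgen] at h3
    ext x
    exact h3 (Subgroup.mem_top x)
  -- the group K
  let K : Subgroup (MulAut P) :=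
    { carrier := {κ | κ ∈ 𝒜 ∧ (∀ x ∈ Q, κ x = x) ∧
        ∀ r ∈ RC, r⁻¹ * κ r ∈ Q ⊓ Subgroup.centralizer (Q : Set P)}
      mul_mem' := by
        rintro κ₁ κ₂ ⟨h1, h1Q, h1R⟩ ⟨h2, h2Q, h2R⟩
        refine ⟨𝒜.mul_mem h1 h2, fun x hx => ?_, fun r hr => ?_⟩
        · rw [MulAut.mul_apply, h2Q x hx, h1Q x hx]
        · obtain ⟨ζ, hζ, e1⟩ : ∃ ζ ∈ Q ⊓ Subgroup.centralizer (Q : Set P), κ₂ r = r * ζ :=
            ⟨_, h2R r hr, by group⟩
          have e : r⁻¹ * (κ₁ * κ₂) r = (r⁻¹ * κ₁ r) * ζ := by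
            rw [MulAut.mul_apply, e1, map_mul, h1Q _ hζ.1, mul_assoc]
          rw [e]
          exact Subgroup.mul_mem _ (h1R r hr) hζ
      one_mem' := ⟨𝒜.one_mem, fun x _ => rfl, fun r _ => by
        rw [MulAut.one_apply, inv_mul_cancel]; exact Subgroup.one_mem _⟩
      inv_mem' := by
        rintro κ ⟨h1, h1Q, h1R⟩
        have hQ' : ∀ x ∈ Q, κ⁻¹ x = x := by
          intro x hx
          calc κ⁻¹ x = κ⁻¹ (κ x) := by rw [h1Q x hx]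
            _ = x := MulAut.inv_apply_self _ κ x
        refine ⟨𝒜.inv_mem h1, hQ', fun r hr => ?_⟩
        obtain ⟨ζ, hζ, e1⟩ : ∃ ζ ∈ Q ⊓ Subgroup.centralizer (Q : Set P), κ r = r * ζ :=
          ⟨_, h1R r hr, by group⟩
        have e2 : r = κ⁻¹ r * ζ := by
          have : κ⁻¹ (κ r) = κ⁻¹ (r * ζ) := by rw [e1]
          rw [MulAut.inv_apply_self, map_mul, hQ' _ hζ.1] at this
          exact this
        have e3 : κ⁻¹ r = r * ζ⁻¹ := eq_mul_inv_of_mul_eq e2.symm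
        rw [e3, inv_mul_cancel_left]
        exact Subgroup.inv_mem _ hζ }
  have hKcomm : ∀ x ∈ K, ∀ y ∈ K, x * y = y * x := by
    rintro κ₁ ⟨-, h1Q, h1R⟩ κ₂ ⟨-, h2Q, h2R⟩
    apply hext
    · intro x hx
      rw [MulAut.mul_apply, MulAut.mul_apply, h2Q x hx, h1Q x hx, h2Q x hx]
    · intro r hr
      obtain ⟨ζ₁, hζ₁, e1⟩ : ∃ ζ ∈ Q ⊓ Subgroup.centralizer (Q : Set P), κ₁ r = r * ζ :=
        ⟨_, h1R r hr, by group⟩
      obtain ⟨ζ₂, hζ₂, e2⟩ : ∃ ζ ∈ Q ⊓ Subgroup.centralizer (Q : Set P), κ₂ r = r * ζ :=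
        ⟨_, h2R r hr, by group⟩
      have c := hZc ζ₂ hζ₂ ζ₁ hζ₁.1
      rw [MulAut.mul_apply, MulAut.mul_apply, e2, e1, map_mul, map_mul, h1Q _ hζ₂.1, h2Q _ hζ₁.1,
        e1, e2, mul_assoc, mul_assoc, c]
  have hKpow : ∀ κ ∈ K, ∀ k : ℕ, ∀ r ∈ RC, (κ ^ k) r = r * (r⁻¹ * κ r) ^ k := by
    rintro κ ⟨-, hκQ, hκR⟩ k
    induction k with
    | zero => intro r hr; simp
    | succ k ih =>
      intro r hr
      rw [pow_succ', MulAut.mul_apply, ih r hr, map_mul, hκQ _ (Q.pow_mem (hκR r hr).1 k),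
        pow_succ', ← mul_assoc r, mul_inv_cancel_left]
  obtain ⟨m, hm⟩ := IsPGroup.iff_card.mp hQp
  have hKp : ∀ κ ∈ K, κ ^ p ^ m = 1 := by
    intro κ hκ
    apply hext
    · intro x hx
      exact (K.pow_mem hκ (p ^ m)).2.1 x hx
    · intro r hr
      rw [hKpow κ hκ _ r hr, MulAut.one_apply]
      have hζ : r⁻¹ * κ r ∈ Q := (hκ.2.2 r hr).1
      have h1 : (⟨r⁻¹ * κ r, hζ⟩ : Q) ^ Nat.card Q = 1 := pow_card_eq_one'
      have h2 : (r⁻¹ * κ r) ^ p ^ m = 1 := by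
        rw [hm] at h1
        have := congrArg Subtype.val h1
        simpa using this
      rw [h2, mul_one]
  have hKpg : IsPGroup p K := fun g => ⟨m, Subtype.ext (by simpa using hKp g.1 g.2)⟩
  obtain ⟨j, hj⟩ := IsPGroup.iff_card.mp hKpg
  have hcopK : n.Coprime (Nat.card K) := by
    rw [hj]; exact Nat.Coprime.pow_right j hcop
  have hKnorm : ∀ x ∈ K, H * x * H⁻¹ ∈ K := by
    rintro κ ⟨h1, h1Q, h1R⟩
    refine ⟨𝒜.mul_mem (𝒜.mul_mem hH h1) (𝒜.inv_mem hH), fun x hx => ?_, fun r hr => ?_⟩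
    · rw [MulAut.mul_apply, MulAut.mul_apply, hHinvQ x hx, h1Q x hx, hHQ x hx]
    · have hr' := hHinvR r hr
      obtain ⟨ζ, hζ, e1⟩ : ∃ ζ ∈ Q ⊓ Subgroup.centralizer (Q : Set P), κ (H⁻¹ r) = H⁻¹ r * ζ :=
        ⟨_, h1R _ hr', by group⟩
      rw [MulAut.mul_apply, MulAut.mul_apply, e1, map_mul, MulAut.apply_inv_self, hHQ _ hζ.1,
        inv_mul_cancel_left]
      exact hζ
  have hmemK : A⁻¹ * H * A * H⁻¹ ∈ K := by
    refine ⟨𝒜.mul_mem (𝒜.mul_mem (𝒜.mul_mem (𝒜.inv_mem hA) hH) hA) (𝒜.inv_mem hH),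
      fun x hx => ?_, fun r hr => ?_⟩
    · rw [MulAut.mul_apply, MulAut.mul_apply, MulAut.mul_apply, hHinvQ x hx, hHQ _ (hAQ x hx),
        MulAut.inv_apply_self]
    · have hr' := hHinvR r hr
      obtain ⟨ζ', hζ', e1⟩ : ∃ ζ' ∈ Q ⊓ Subgroup.centralizer (Q : Set P),
          A (H⁻¹ r) = H⁻¹ r * ζ' := ⟨_, hAR _ hr', by group⟩
      obtain ⟨ζ, hζ, e2⟩ : ∃ ζ ∈ Q ⊓ Subgroup.centralizer (Q : Set P), A r = r * ζ :=
        ⟨_, hAR _ hr, by group⟩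
      have e3 : A⁻¹ r = r * (A⁻¹ ζ)⁻¹ := by
        have : A⁻¹ (A r) = A⁻¹ (r * ζ) := by rw [e2]
        rw [MulAut.inv_apply_self, map_mul] at this
        exact eq_mul_inv_of_mul_eq this.symm
      have e4 : (A⁻¹ * H * A * H⁻¹) r = r * ((A⁻¹ ζ)⁻¹ * A⁻¹ ζ') := by
        rw [MulAut.mul_apply, MulAut.mul_apply, MulAut.mul_apply, e1, map_mul,
          MulAut.apply_inv_self, hHQ _ hζ'.1, map_mul, e3, mul_assoc]
      rw [e4, inv_mul_cancel_left]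
      exact Subgroup.mul_mem _ (Subgroup.inv_mem _ (hAinvZ ζ hζ)) (hAinvZ ζ' hζ')
  obtain ⟨κ, hκ, hκc⟩ := hAvg (MulAut P) K hKcomm H A n hn hcopK hKnorm hmemK
  obtain ⟨hκ𝒜, hκQ, hκR⟩ := hκ
  refine ⟨A * κ, 𝒜.mul_mem hA hκ𝒜, fun x hx => ?_, fun r hr => ?_⟩
  · rw [MulAut.mul_apply, hκQ x hx]
  · obtain ⟨ζ, hζ, e1⟩ : ∃ ζ ∈ Q ⊓ Subgroup.centralizer (Q : Set P), κ r = r * ζ :=
      ⟨_, hκR _ hr, by group⟩
    obtain ⟨ζ₀, hζ₀, e2⟩ : ∃ ζ₀ ∈ Q ⊓ Subgroup.centralizer (Q : Set P), A r = r * ζ₀ :=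
      ⟨_, hAR _ hr, by group⟩
    have e3 : (A * κ) r = r * (ζ₀ * A ζ) := by
      rw [MulAut.mul_apply, e1, map_mul, e2, mul_assoc]
    have hζ'' : ζ₀ * A ζ ∈ Q := Q.mul_mem hζ₀.1 (hAZ ζ hζ).1
    have e4 : (A * κ) (H r) = H ((A * κ) r) := by
      have := congrArg (fun β : MulAut P => β r) hκc
      simp only [MulAut.mul_apply] at this ⊢
      exact this.symm
    have e5 : H ((A * κ) r) = H r * (ζ₀ * A ζ) := by
      rw [e3, map_mul, hHQ _ hζ'']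
    rw [map_mul, map_inv, e4, e5, e3]
    have c := hcomm _ hζ'' (r⁻¹ * H r) (RC.mul_mem (RC.inv_mem hr) (hHR r hr))
    calc (r * (ζ₀ * A ζ))⁻¹ * (H r * (ζ₀ * A ζ))
        = (ζ₀ * A ζ)⁻¹ * ((r⁻¹ * H r) * (ζ₀ * A ζ)) := by group
      _ = (ζ₀ * A ζ)⁻¹ * ((ζ₀ * A ζ) * (r⁻¹ * H r)) := by rw [c]
      _ = r⁻¹ * H r := by group

variable {Ω : Type u} [Group Ω] {S T : Subgroup Ω}

/-- The hypothesis of `hCen` for `Y = ⟨r⁻¹ h(r) | r ∈ R ∩ C_S(T)⟩`. -/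
theorem pprime_claim [Finite S] {p : ℕ} [Fact p.Prime] (hS : IsPGroup p S) {F : FusionSystem S}
    {E : FusionSystem T}
    (hL : ∀ Q : Subgroup Ω, E.IsCentric Q → ∀ α ∈ E.autGroup Q,
      ∃ a : Ω → Ω, Mor F (Q ⊔ centralizerIn S T) a ∧ (∀ x ∈ Q, a x = autFun Q α x) ∧
        ∀ c ∈ centralizerIn S T, c⁻¹ * a c ∈ T)
    (hAvg : ∀ (G : Type u) [Group G] (K : Subgroup G) [Finite K],
      (∀ x ∈ K, ∀ y ∈ K, x * y = y * x) → ∀ (h a : G) (n : ℕ), h ^ n = 1 →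
      n.Coprime (Nat.card K) → (∀ x ∈ K, h * x * h⁻¹ ∈ K) → a⁻¹ * h * a * h⁻¹ ∈ K →
      ∃ κ ∈ K, h * (a * κ) = a * κ * h)
    {R : Subgroup Ω} (hTR : T ≤ R) (hRS : R ≤ S) (h : MulAut R)
    (hm : Mor F R (autFun R h)) (hT : ∀ x ∈ T, autFun R h x = x)
    (hcop : (orderOf h).Coprime p)
    (hRCinv : ∀ r ∈ R ⊓ centralizerIn S T, autFun R h r ∈ R ⊓ centralizerIn S T)
    (Q : Subgroup Ω) (hQ : E.IsCentric Q) (α : MulAut Q) (hα : α ∈ E.autGroup Q) :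
    ∃ a : Ω → Ω,
      Mor F (Q ⊔ Subgroup.closure
        {y | ∃ r ∈ R ⊓ centralizerIn S T, y = r⁻¹ * autFun R h r}) a ∧
      (∀ x ∈ Q, a x = autFun Q α x) ∧
      ∀ y ∈ Subgroup.closure {y | ∃ r ∈ R ⊓ centralizerIn S T, y = r⁻¹ * autFun R h r},
        a y = y := by
  classical
  have hQT : Q ≤ T := hQ.1
  have hQcen : centralizerIn T Q ≤ Q := hQ.2 Q (isConj_refl E hQT)
  obtain ⟨a0, ha0, ha0Q, ha0C⟩ := hL Q hQ α hα
  have hQRC : ∀ q ∈ Q, ∀ r ∈ R ⊓ centralizerIn S T, q * r = r * q :=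
    fun q hq r hr => (mem_centralizerIn_iff.1 hr.2).2 q (hQT hq)
  have hQP : Q ≤ Q ⊔ R ⊓ centralizerIn S T := le_sup_left
  have hRCP : R ⊓ centralizerIn S T ≤ Q ⊔ R ⊓ centralizerIn S T := le_sup_right
  have hPR : Q ⊔ R ⊓ centralizerIn S T ≤ R := sup_le (hQT.trans hTR) inf_le_left
  have hPS : Q ⊔ R ⊓ centralizerIn S T ≤ S := hPR.trans hRS
  haveI : Finite ↥(Q ⊔ R ⊓ centralizerIn S T) := finite_of_le hPS
  have hPQC : Q ⊔ R ⊓ centralizerIn S T ≤ Q ⊔ centralizerIn S T :=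
    sup_le le_sup_left (inf_le_right.trans le_sup_right)
  have hQQC : Q ≤ Q ⊔ centralizerIn S T := le_sup_left
  have hCQC : centralizerIn S T ≤ Q ⊔ centralizerIn S T := le_sup_right
  -- `z_c = c⁻¹ a0(c) ∈ Z(Q)`
  have hz : ∀ c ∈ centralizerIn S T, c⁻¹ * a0 c ∈ Q ∧
      ∀ q ∈ Q, q * (c⁻¹ * a0 c) = (c⁻¹ * a0 c) * q := by
    intro c hc
    have hcomm : ∀ q ∈ Q, q * (c⁻¹ * a0 c) = (c⁻¹ * a0 c) * q := by
      intro q hq
      have hq' : autFun Q α⁻¹ q ∈ Q := autFun_mem _ hq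
      have e1 : a0 (autFun Q α⁻¹ q) = q := by rw [ha0Q _ hq', autFun_apply_inv α hq]
      have e2 : autFun Q α⁻¹ q * c = c * autFun Q α⁻¹ q :=
        (mem_centralizerIn_iff.1 hc).2 _ (hQT hq')
      have e3 := congrArg a0 e2
      rw [ha0.map_mul (hQQC hq') (hCQC hc), ha0.map_mul (hCQC hc) (hQQC hq'), e1] at e3
      have e4 : q * c = c * q := (mem_centralizerIn_iff.1 hc).2 q (hQT hq)
      calc q * (c⁻¹ * a0 c) = c⁻¹ * (c * q) * c⁻¹ * a0 c := by group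
        _ = c⁻¹ * (q * c) * c⁻¹ * a0 c := by rw [e4]
        _ = c⁻¹ * (q * a0 c) := by group
        _ = c⁻¹ * (a0 c * q) := by rw [e3]
        _ = c⁻¹ * a0 c * q := by group
    exact ⟨hQcen (mem_centralizerIn_iff.2 ⟨ha0C c hc, hcomm⟩), hcomm⟩
  -- `a0` maps `P` into `P`
  have ha0P : ∀ x ∈ Q ⊔ R ⊓ centralizerIn S T, a0 x ∈ Q ⊔ R ⊓ centralizerIn S T := by
    intro x hx
    obtain ⟨q, hq, r, hr, rfl⟩ := mem_sup_of_commute hQRC hx
    rw [ha0.map_mul (hQQC hq) (hCQC hr.2)]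
    refine Subgroup.mul_mem _ (hQP ?_) ?_
    · rw [ha0Q q hq]; exact autFun_mem α hq
    · have : a0 r = r * (r⁻¹ * a0 r) := by group
      rw [this]
      exact Subgroup.mul_mem _ (hRCP hr) (hQP (hz r hr.2).1)
  have ha0m : Mor F (Q ⊔ R ⊓ centralizerIn S T) a0 := ha0.restrict hPQC
  have himgA : imgS (Q ⊔ R ⊓ centralizerIn S T) a0 = Q ⊔ R ⊓ centralizerIn S T :=
    imgS_eq_of_maps ha0m ha0P
  -- `h` maps `P` into `P`
  have hhP : ∀ x ∈ Q ⊔ R ⊓ centralizerIn S T, autFun R h x ∈ Q ⊔ R ⊓ centralizerIn S T := by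
    intro x hx
    obtain ⟨q, hq, r, hr, rfl⟩ := mem_sup_of_commute hQRC hx
    rw [hm.map_mul (hTR (hQT hq)) hr.1, hT q (hQT hq)]
    exact Subgroup.mul_mem _ (hQP hq) (hRCP (hRCinv r hr))
  have hmP : Mor F (Q ⊔ R ⊓ centralizerIn S T) (autFun R h) := hm.restrict hPR
  have himgH : imgS (Q ⊔ R ⊓ centralizerIn S T) (autFun R h) = Q ⊔ R ⊓ centralizerIn S T :=
    imgS_eq_of_maps hmP hhP
  have hAapp : ∀ x : ↥(Q ⊔ R ⊓ centralizerIn S T), ((mkAut ha0m himgA) x : Ω) = a0 x :=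
    fun x => rfl
  have hHapp : ∀ x : ↥(Q ⊔ R ⊓ centralizerIn S T),
      ((mkAut hmP himgH) x : Ω) = autFun R h x := fun x => rfl
  -- powers of `H`
  have hHpow : ∀ k : ℕ, ∀ x : ↥(Q ⊔ R ⊓ centralizerIn S T),
      (((mkAut hmP himgH) ^ k) x : Ω) = autFun R (h ^ k) x := by
    intro k
    induction k with
    | zero => intro x; rw [pow_zero, pow_zero, autFun_one (hPR x.2)]; rfl
    | succ k ih =>
      intro x
      rw [pow_succ', pow_succ', MulAut.mul_apply, hHapp, ih x, autFun_mul h (h ^ k) (hPR x.2)]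
  have hHn : (mkAut hmP himgH) ^ orderOf h = 1 := by
    refine MulEquiv.ext (fun x => Subtype.ext ?_)
    rw [hHpow, pow_orderOf_eq_one, autFun_one (hPR x.2)]
    rfl
  have hgen : Q.subgroupOf (Q ⊔ R ⊓ centralizerIn S T) ⊔
      (R ⊓ centralizerIn S T).subgroupOf (Q ⊔ R ⊓ centralizerIn S T) = ⊤ := by
    rw [← Subgroup.subgroupOf_sup hQP hRCP]
    exact Subgroup.subgroupOf_self _
  have hcomm' : ∀ q ∈ Q.subgroupOf (Q ⊔ R ⊓ centralizerIn S T),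
      ∀ r ∈ (R ⊓ centralizerIn S T).subgroupOf (Q ⊔ R ⊓ centralizerIn S T), q * r = r * q :=
    fun q hq r hr => Subtype.ext (hQRC q (Subgroup.mem_subgroupOf.1 hq) r
      (Subgroup.mem_subgroupOf.1 hr))
  have hQp : IsPGroup p (Q.subgroupOf (Q ⊔ R ⊓ centralizerIn S T)) := by
    intro g
    obtain ⟨k, hk⟩ := hS ⟨((g : ↥(Q ⊔ R ⊓ centralizerIn S T)) : Ω), hPS (g : ↥(Q ⊔ R ⊓ centralizerIn S T)).2⟩
    refine ⟨k, ?_⟩
    apply Subtype.ext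
    apply Subtype.ext
    have := congrArg Subtype.val hk
    simpa using this
  have hHQ' : ∀ x ∈ Q.subgroupOf (Q ⊔ R ⊓ centralizerIn S T), (mkAut hmP himgH) x = x :=
    fun x hx => Subtype.ext (by rw [hHapp]; exact hT _ (hQT (Subgroup.mem_subgroupOf.1 hx)))
  have hHR' : ∀ r ∈ (R ⊓ centralizerIn S T).subgroupOf (Q ⊔ R ⊓ centralizerIn S T),
      (mkAut hmP himgH) r ∈ (R ⊓ centralizerIn S T).subgroupOf (Q ⊔ R ⊓ centralizerIn S T) :=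
    fun r hr => Subgroup.mem_subgroupOf.2
      (by rw [hHapp]; exact hRCinv _ (Subgroup.mem_subgroupOf.1 hr))
  have hAQ' : ∀ x ∈ Q.subgroupOf (Q ⊔ R ⊓ centralizerIn S T),
      (mkAut ha0m himgA) x ∈ Q.subgroupOf (Q ⊔ R ⊓ centralizerIn S T) :=
    fun x hx => Subgroup.mem_subgroupOf.2
      (by rw [hAapp, ha0Q _ (Subgroup.mem_subgroupOf.1 hx)]
          exact autFun_mem α (Subgroup.mem_subgroupOf.1 hx))
  have hAR' : ∀ r ∈ (R ⊓ centralizerIn S T).subgroupOf (Q ⊔ R ⊓ centralizerIn S T),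
      r⁻¹ * (mkAut ha0m himgA) r ∈ Q.subgroupOf (Q ⊔ R ⊓ centralizerIn S T) ⊓
        Subgroup.centralizer
          (Q.subgroupOf (Q ⊔ R ⊓ centralizerIn S T) : Set ↥(Q ⊔ R ⊓ centralizerIn S T)) := by
    intro r hr
    have hr' : (r : Ω) ∈ R ⊓ centralizerIn S T := Subgroup.mem_subgroupOf.1 hr
    have e : ((r⁻¹ * (mkAut ha0m himgA) r : ↥(Q ⊔ R ⊓ centralizerIn S T)) : Ω)
        = (r : Ω)⁻¹ * a0 r := rfl
    refine ⟨Subgroup.mem_subgroupOf.2 (by rw [e]; exact (hz _ hr'.2).1),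
      Subgroup.mem_centralizer_iff.2 ?_⟩
    intro q hq
    apply Subtype.ext
    show (q : Ω) * ((r : Ω)⁻¹ * a0 r) = ((r : Ω)⁻¹ * a0 r) * (q : Ω)
    exact (hz _ hr'.2).2 q (Subgroup.mem_subgroupOf.1 hq)
  obtain ⟨B, hB, hBQ, hBR⟩ := exists_aut_fix (p := p)
    (Q.subgroupOf (Q ⊔ R ⊓ centralizerIn S T))
    ((R ⊓ centralizerIn S T).subgroupOf (Q ⊔ R ⊓ centralizerIn S T)) hgen hcomm' hQp
    (F.autGroup (Q ⊔ R ⊓ centralizerIn S T)) (mkAut hmP himgH) (mkAut ha0m himgA)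
    (mkAut_mem hmP himgH) (mkAut_mem ha0m himgA) (orderOf h) hHn hcop hHQ' hHR' hAQ' hAR' hAvg
  have hBm : Mor F (Q ⊔ R ⊓ centralizerIn S T) (autFun _ B) := (mem_autGroup_iff hPS B).1 hB
  have hYP : Subgroup.closure {y | ∃ r ∈ R ⊓ centralizerIn S T, y = r⁻¹ * autFun R h r}
      ≤ Q ⊔ R ⊓ centralizerIn S T := by
    rw [Subgroup.closure_le]
    rintro _ ⟨r, hr, rfl⟩
    exact Subgroup.mul_mem _ (Subgroup.inv_mem _ (hRCP hr)) (hRCP (hRCinv r hr))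
  refine ⟨autFun _ B, hBm.restrict (sup_le hQP hYP), fun x hx => ?_, fun y hy => ?_⟩
  · rw [autFun_of_mem B (hQP hx), hBQ ⟨x, hQP hx⟩ (Subgroup.mem_subgroupOf.2 hx), hAapp,
      ha0Q x hx]
  · induction hy using Subgroup.closure_induction with
    | mem y hy =>
      obtain ⟨r, hr, rfl⟩ := hy
      have hrP : r ∈ Q ⊔ R ⊓ centralizerIn S T := hRCP hr
      have hyP : r⁻¹ * autFun R h r ∈ Q ⊔ R ⊓ centralizerIn S T :=
        Subgroup.mul_mem _ (Subgroup.inv_mem _ hrP) (hhP r hrP)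
      rw [autFun_of_mem B hyP]
      have e : (⟨r⁻¹ * autFun R h r, hyP⟩ : ↥(Q ⊔ R ⊓ centralizerIn S T))
          = (⟨r, hrP⟩ : ↥(Q ⊔ R ⊓ centralizerIn S T))⁻¹ * (mkAut hmP himgH) ⟨r, hrP⟩ :=
        Subtype.ext rfl
      rw [e, hBR ⟨r, hrP⟩ (Subgroup.mem_subgroupOf.2 hr)]
      rfl
    | one => exact hBm.map_one
    | mul x y hx hy ihx ihy => rw [hBm.map_mul (hYP hx) (hYP hy), ihx, ihy]
    | inv x hx ihx => rw [hBm.map_inv (hYP hx), ihx]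

theorem pprime_trivial [Finite S] {p : ℕ} [Fact p.Prime] (hS : IsPGroup p S) {F : FusionSystem S}
    {E : FusionSystem T} {D : FusionSystem (T ⊔ centralizerIn S T)} (hC : CCfg p F E D)
    (hL : ∀ Q : Subgroup Ω, E.IsCentric Q → ∀ α ∈ E.autGroup Q,
      ∃ a : Ω → Ω, Mor F (Q ⊔ centralizerIn S T) a ∧ (∀ x ∈ Q, a x = autFun Q α x) ∧
        ∀ c ∈ centralizerIn S T, c⁻¹ * a c ∈ T)
    (hCen : ∀ Y : Subgroup Ω, Y ≤ centralizerIn S T →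
      (∀ Q : Subgroup Ω, E.IsCentric Q → ∀ α ∈ E.autGroup Q,
        ∃ a : Ω → Ω, Mor F (Q ⊔ Y) a ∧ (∀ x ∈ Q, a x = autFun Q α x) ∧ ∀ y ∈ Y, a y = y) →
      Y ≤ T)
    (hAvg : ∀ (G : Type u) [Group G] (K : Subgroup G) [Finite K],
      (∀ x ∈ K, ∀ y ∈ K, x * y = y * x) → ∀ (h a : G) (n : ℕ), h ^ n = 1 →
      n.Coprime (Nat.card K) → (∀ x ∈ K, h * x * h⁻¹ ∈ K) → a⁻¹ * h * a * h⁻¹ ∈ K →
      ∃ κ ∈ K, h * (a * κ) = a * κ * h)
    {R : Subgroup Ω} (hTR : T ≤ R) (hR : R ≤ T ⊔ centralizerIn S T) (h : MulAut R)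
    (hh : h ∈ F.autGroup R) (hT : ∀ x ∈ T, autFun R h x = x) (hcop : (orderOf h).Coprime p) :
    h = 1 := by
  classical
  have hTS : T ≤ S := hC.sc.1
  have hCS : centralizerIn S T ≤ S := inf_le_left
  have hRS : R ≤ S := hR.trans (sup_le hTS hCS)
  have hm : Mor F R (autFun R h) := (mem_autGroup_iff hRS h).1 hh
  have hTC : ∀ t ∈ T, ∀ c ∈ centralizerIn S T, t * c = c * t :=
    fun t ht c hc => (mem_centralizerIn_iff.1 hc).2 t ht
  have hRCinv : ∀ r ∈ R ⊓ centralizerIn S T, autFun R h r ∈ R ⊓ centralizerIn S T := by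
    intro r hr
    refine ⟨autFun_mem h hr.1,
      mem_centralizerIn_iff.2 ⟨hRS (autFun_mem h hr.1), fun x hx => ?_⟩⟩
    have h1 := hTC x hx r hr.2
    have h2 := congrArg (autFun R h) h1
    rw [hm.map_mul (hTR hx) hr.1, hm.map_mul hr.1 (hTR hx), hT x hx] at h2
    exact h2
  have hYRC : Subgroup.closure {y | ∃ r ∈ R ⊓ centralizerIn S T, y = r⁻¹ * autFun R h r}
      ≤ R ⊓ centralizerIn S T := by
    rw [Subgroup.closure_le]
    rintro _ ⟨r, hr, rfl⟩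
    exact Subgroup.mul_mem _ (Subgroup.inv_mem _ hr) (hRCinv r hr)
  have hYT : Subgroup.closure {y | ∃ r ∈ R ⊓ centralizerIn S T, y = r⁻¹ * autFun R h r} ≤ T :=
    hCen _ (hYRC.trans inf_le_right)
      (fun Q hQ α hα => pprime_claim hS hL hAvg hTR hRS h hm hT hcop hRCinv Q hQ α hα)
  have hfix : ∀ r ∈ R ⊓ centralizerIn S T, autFun R h r = r := by
    intro r hr
    have hzT : r⁻¹ * autFun R h r ∈ T := hYT (Subgroup.subset_closure ⟨r, hr, rfl⟩)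
    have hfr : autFun R h r = r * (r⁻¹ * autFun R h r) := by group
    have hpow : ∀ k : ℕ, autFun R (h ^ k) r = r * (r⁻¹ * autFun R h r) ^ k := by
      intro k
      induction k with
      | zero => rw [pow_zero, pow_zero, mul_one, autFun_one hr.1]
      | succ k ih =>
        rw [pow_succ', autFun_mul h (h ^ k) hr.1, ih,
          hm.map_mul hr.1 (hTR (T.pow_mem hzT k)), hT _ (T.pow_mem hzT k), pow_succ',
          ← mul_assoc r, mul_inv_cancel_left]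
    have h1 := hpow (orderOf h)
    rw [pow_orderOf_eq_one, autFun_one hr.1] at h1
    have h2 : (r⁻¹ * autFun R h r) ^ orderOf h = 1 := by
      have : r * 1 = r * (r⁻¹ * autFun R h r) ^ orderOf h := by rw [mul_one]; exact h1
      exact (mul_left_cancel this).symm
    obtain ⟨k, hk⟩ := hS ⟨r⁻¹ * autFun R h r, hTS hzT⟩
    have h3 : (r⁻¹ * autFun R h r) ^ p ^ k = 1 := by
      have := congrArg Subtype.val hk
      simpa using this
    have h4 : orderOf (r⁻¹ * autFun R h r) ∣ Nat.gcd (orderOf h) (p ^ k) :=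
      Nat.dvd_gcd (orderOf_dvd_of_pow_eq_one h2) (orderOf_dvd_of_pow_eq_one h3)
    rw [(Nat.Coprime.pow_right k hcop).gcd_eq_one, Nat.dvd_one, orderOf_eq_one_iff] at h4
    rw [hfr, h4, mul_one]
  apply autFun_ext
  intro x hx
  rw [autFun_one hx]
  obtain ⟨t, ht, c, hc, rfl⟩ := mem_sup_of_commute hTC (hR hx)
  have hcR : c ∈ R := by
    have : c = t⁻¹ * (t * c) := by group
    rw [this]
    exact R.mul_mem (R.inv_mem (hTR ht)) hx
  rw [hm.map_mul (hTR ht) hcR, hT t ht, hfix c ⟨hcR, hc⟩]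

end Cfsg.Agent.H14.Cen
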