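import Mathlib
import Cfsg.Agent.H14.CqDefs

/-!
# Pieces CQ-CNTPM and CQ-CNTM (helper14): divisibility of the number of totally singular
`m`-spaces of the minus space (ports of helper72's H72/TiCntP.lean, TiCnt.lean)
-/

set_option autoImplicit false

namespace Cfsg.Agent.H14.Cq

open Cfsg.Agent.H77.Tq Cfsg.Agent.H77.Tm Module

universe u

/-- The cancelled form of the count of totally singular `m`-spaces of the minus space. -/
theorem cancelM (hC : StCardM.{u}) (F : Type u) [Field F] [Fintype F] (k : ℕ) (a b : F)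
    (m : ℕ) (hab : Aniso a b) (hm : m ≤ k) :
    NM F k a b m * ∏ j ∈ Finset.range m, (Fintype.card F ^ (m - j) - 1) =
      ∏ j ∈ Finset.range m,
        ((Fintype.card F ^ (k + 1 - j) + 1) * (Fintype.card F ^ (k - j) - 1)) := by
  have e2 := hC F k a b m hab hm
  set q := Fintype.card F with hq
  have hq0 : 0 < q := Fintype.card_pos
  have hA : ∏ j ∈ Finset.range m, (q ^ m - q ^ j) =
      (∏ j ∈ Finset.range m, q ^ j) * ∏ j ∈ Finset.range m, (q ^ (m - j) - 1) := by
    rw [← Finset.prod_mul_distrib]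
    refine Finset.prod_congr rfl ?_
    intro j hj
    have hj' : j < m := Finset.mem_range.mp hj
    rw [Nat.mul_sub, mul_one, ← pow_add]
    congr 2
    omega
  have hB : ∏ j ∈ Finset.range m, (q ^ j * ((q ^ (k + 1 - j) + 1) * (q ^ (k - j) - 1))) =
      (∏ j ∈ Finset.range m, q ^ j) *
        ∏ j ∈ Finset.range m, ((q ^ (k + 1 - j) + 1) * (q ^ (k - j) - 1)) := by
    rw [← Finset.prod_mul_distrib]
  rw [hA, hB] at e2
  have hP : 0 < ∏ j ∈ Finset.range m, q ^ j :=
    Finset.prod_pos (fun j _ => pow_pos hq0 j)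
  have e3 : (∏ j ∈ Finset.range m, q ^ j) *
      (NM F k a b m * ∏ j ∈ Finset.range m, (q ^ (m - j) - 1)) =
      (∏ j ∈ Finset.range m, q ^ j) *
        ∏ j ∈ Finset.range m, ((q ^ (k + 1 - j) + 1) * (q ^ (k - j) - 1)) := by
    rw [← e2]; ring
  exact Nat.eq_of_mul_eq_mul_left hP e3

theorem cntPM (hC : StCardM.{u}) : Cfsg.Agent.H77.Tm.StCntP.{u} := by
  intro F _ _ p _ _ k a b m hab hm hdvd
  have hp : p.Prime := Fact.out
  have hc := cancelM hC F k a b m hab hm
  have h3 : p ∣ ∏ j ∈ Finset.range m,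
      ((Fintype.card F ^ (k + 1 - j) + 1) * (Fintype.card F ^ (k - j) - 1)) := by
    rw [← hc]
    exact Dvd.dvd.mul_right hdvd _
  obtain ⟨j, hj, hjd⟩ := (Prime.dvd_finsetProd_iff hp.prime _).mp h3
  have hj' : j < m := Finset.mem_range.mp hj
  obtain ⟨n, _, hn⟩ := FiniteField.card F p
  have hpq : p ∣ Fintype.card F := by
    rw [hn]
    exact dvd_pow_self p n.pos.ne'
  rcases (Nat.Prime.dvd_mul hp).mp hjd with h | h
  · have hpe : p ∣ Fintype.card F ^ (k + 1 - j) := by
      refine Dvd.dvd.trans hpq (dvd_pow_self _ ?_)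
      omega
    have h1' : p ∣ 1 := (Nat.dvd_add_right hpe).mp h
    exact hp.one_lt.ne' (Nat.dvd_one.mp h1')
  · have hpe : p ∣ Fintype.card F ^ (k - j) := by
      refine Dvd.dvd.trans hpq (dvd_pow_self _ ?_)
      omega
    have hpos : 0 < Fintype.card F ^ (k - j) := pow_pos Fintype.card_pos _
    have h1' : p ∣ 1 := by
      have := (Nat.dvd_sub hpe h)
      rwa [Nat.sub_sub_self hpos] at this
    exact hp.one_lt.ne' (Nat.dvd_one.mp h1')

theorem cntM (hC : StCardM.{u}) : Cfsg.Agent.H77.Tm.StCnt.{u} := by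
  intro F _ _ p _ _ k a b m r hab hm hr _ hdvd
  have hc := cancelM hC F k a b m hab hm
  have h3 : r ∣ ∏ j ∈ Finset.range m,
      ((Fintype.card F ^ (k + 1 - j) + 1) * (Fintype.card F ^ (k - j) - 1)) := by
    rw [← hc]
    exact Dvd.dvd.mul_right hdvd _
  obtain ⟨j, hj, hjd⟩ := (Prime.dvd_finsetProd_iff hr.prime _).mp h3
  have hj' : j < m := Finset.mem_range.mp hj
  exact ⟨j, hj', (Nat.Prime.dvd_mul hr).mp hjd⟩

example (hC : StCardM.{u}) : Cfsg.Agent.H77.Tm.StCntP.{u} := cntPM hC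
example (hC : StCardM.{u}) : Cfsg.Agent.H77.Tm.StCnt.{u} := cntM hC

end Cfsg.Agent.H14.Cq
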