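import Mathlib
import Cfsg.Agent.H14.CqDefs
import Cfsg.Agent.H14.CqFib
import Cfsg.Agent.H14.CqCntM
import Cfsg.Agent.H87.CqPerp
import Cfsg.Agent.H87.CqAvg
import Cfsg.Agent.H25.CqExt
import Cfsg.Agent.H25.CqTuples
import Cfsg.Agent.H84.CqHypC
import Cfsg.Agent.H84.CqZPlus
import Cfsg.Agent.H84.CqZMinus
import Cfsg.Agent.H38.CqCardM
import Cfsg.Agent.H38.CqCardP
import Cfsg.Agent.H3.CqCntPP
import Cfsg.Agent.H3.CqCntPl
import Cfsg.Agent.H49.PtDefs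

/-!
# COUNT sub-tree of S5987 / S5973 (helper14): final wiring

Pieces: helper87 (PERP, AVG), helper25 (EXT, TUPLES), helper84 (HYPC, ZPLUS, ZMINUS),
helper38 (CARDM, CARDP), helper3 (CNTPP, CNTPL), helper14 (FIB, CNTPM, CNTM).
-/

set_option autoImplicit false

namespace Cfsg.Agent.H14.Cq

universe u v

/-- The number of linearly independent totally singular `m`-tuples of a quadratic space. -/
theorem tuplesAll : StTuples.{u, v} :=
  Cfsg.Agent.H25.Cq.tuples (Cfsg.Agent.H25.Cq.ext (Cfsg.Agent.H87.Cq.avg Cfsg.Agent.H87.Cq.perp))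

theorem cardMAll : StCardM.{u} :=
  Cfsg.Agent.H38.Cq.cardM tuplesAll fib
    (Cfsg.Agent.H84.Cq.zMinus Cfsg.Agent.H84.Cq.zPlus Cfsg.Agent.H84.Cq.hypC)

theorem cardPAll : StCardP.{u} :=
  Cfsg.Agent.H38.Cq.cardP tuplesAll fib Cfsg.Agent.H84.Cq.zPlus

/-- S5987 (helper77): `StCntP`. -/
theorem tmCntP : Cfsg.Agent.H77.Tm.StCntP.{u} := cntPM cardMAll

/-- S5987 (helper77): `StCnt`. -/
theorem tmCnt : Cfsg.Agent.H77.Tm.StCnt.{u} := cntM cardMAll

/-- S5973 (helper49): `StCntP`. -/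
theorem ptCntP : Cfsg.Agent.H49.Pt.StCntP.{u} := by
  intro F _ _ p _ _ d m hm
  exact Cfsg.Agent.H3.Cq.cntPP cardPAll F p d m (by omega)

/-- S5973 (helper49): `StCnt`. -/
theorem ptCnt : Cfsg.Agent.H49.Pt.StCnt.{u} := by
  intro F _ _ p _ _ d m r hm hr hrp hdvd
  exact Cfsg.Agent.H3.Cq.cntPl cardPAll F p d m r (by omega) hr hrp hdvd

example : Cfsg.Agent.H77.Tm.StCntP.{u} := tmCntP
example : Cfsg.Agent.H77.Tm.StCnt.{u} := tmCnt
example : Cfsg.Agent.H49.Pt.StCntP.{u} := ptCntP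
example : Cfsg.Agent.H49.Pt.StCnt.{u} := ptCnt

end Cfsg.Agent.H14.Cq
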