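/-
helper14 library for helper84's S4482 (piece QIOTA): the number of involutions `v` with
`g t g⁻¹ v ∈ π X`, for `t ∈ {τ, στ}` and `π ∈ {J, σ}`, times the order of `C_X(t')`, is `|X|`.
-/
import Mathlib
import Cfsg.Agent.H84.DihDefs
import Cfsg.Agent.H24.DihBASIC
import Cfsg.Agent.H71.DihFUS

set_option autoImplicit false

namespace Cfsg.Agent.H14.Dih

open Cfsg.Agent.H84.Dih

universe u

variable {G : Type u} [Group G] [Finite G] {n : ℕ} {P : Sylow 2 G} {σ τ : G} {X : Subgroup G}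

/-- Involutions of the coset `t X` (for an involution `t` normalizing the odd-order subgroup `X`)
are the `X`-conjugates of `t`. -/
theorem iota0 (hodd : Odd (Nat.card X)) {t : G} (ht : orderOf t = 2)
    (hn : ∀ x ∈ X, t * x * t⁻¹ ∈ X) :
    Nat.card {v : G // orderOf v = 2 ∧ ∃ ρ ∈ X, v = t * ρ} *
      Nat.card ↥(X ⊓ Subgroup.centralizer ({t} : Set G)) = Nat.card X := by
  classical
  have htt : t * t = 1 := by
    have := pow_orderOf_eq_one t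
    rwa [ht, pow_two] at this
  have htinv : t⁻¹ = t := inv_eq_of_mul_eq_one_left htt
  letI : MulAction X G := MulAction.compHom G ((MulAut.conj : G →* MulAut G).comp X.subtype)
  have hsmul : ∀ (x : X) (a : G), x • a = (x : G) * a * (x : G)⁻¹ := fun x a => rfl
  have h1 := Nat.card_congr (MulAction.orbitProdStabilizerEquivGroup X t)
  rw [Nat.card_prod] at h1
  rw [← h1]
  congr 1
  · -- the orbit
    apply Nat.card_congr
    apply Equiv.subtypeEquivRight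
    intro v
    constructor
    · rintro ⟨hv, ρ, hρ, rfl⟩
      -- `t ρ` an involution: `ρ⁻¹ t = t ρ`
      have h2 : t * ρ * (t * ρ) = 1 := by
        have := pow_orderOf_eq_one (t * ρ)
        rwa [hv, pow_two] at this
      have h3 : SemiconjBy t ρ ρ⁻¹ := by
        show t * ρ = ρ⁻¹ * t
        have : ρ * (t * ρ) = t := by
          calc ρ * (t * ρ) = t * (t * ρ * (t * ρ)) := by
                rw [mul_assoc t ρ, ← mul_assoc t t, htt, one_mul]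
            _ = t := by rw [h2, mul_one]
        rw [eq_inv_mul_iff_mul_eq]
        exact this
      have hρo : Odd (orderOf ρ) := by
        have h4 : orderOf ρ ∣ Nat.card X := by
          have := orderOf_dvd_natCard (⟨ρ, hρ⟩ : X)
          rwa [Subgroup.orderOf_mk] at this
        exact Odd.of_dvd_nat hodd h4
      obtain ⟨m, hm⟩ := hρo
      have h5 : SemiconjBy t (ρ ^ (m + 1)) (ρ⁻¹ ^ (m + 1)) := h3.pow_right (m + 1)
      have h6 : ρ ^ (m + 1) * ρ ^ (m + 1) = ρ := by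
        rw [← pow_add]
        have : m + 1 + (m + 1) = orderOf ρ + 1 := by omega
        rw [this, pow_succ, pow_orderOf_eq_one, one_mul]
      refine ⟨⟨ρ⁻¹ ^ (m + 1), X.pow_mem (X.inv_mem hρ) _⟩, ?_⟩
      show ρ⁻¹ ^ (m + 1) * t * (ρ⁻¹ ^ (m + 1))⁻¹ = t * ρ
      have h7 : ρ⁻¹ ^ (m + 1) * t = t * ρ ^ (m + 1) := h5.eq.symm
      rw [h7, inv_pow, inv_inv, mul_assoc, h6]
    · rintro ⟨x, rfl⟩
      show orderOf ((x : G) * t * (x : G)⁻¹) = 2 ∧ ∃ ρ ∈ X, (x : G) * t * (x : G)⁻¹ = t * ρ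
      refine ⟨?_, t⁻¹ * (x : G) * t * (x : G)⁻¹, ?_, by group⟩
      · have : SemiconjBy (x : G) t ((x : G) * t * (x : G)⁻¹) := by
          show (x : G) * t = (x : G) * t * (x : G)⁻¹ * (x : G)
          group
        rw [← this.orderOf_eq, ht]
      · have h2 : t * (x : G) * t⁻¹ ∈ X := hn _ x.2
        rw [htinv] at h2 ⊢
        exact X.mul_mem h2 (X.inv_mem x.2)
  · -- the stabilizer
    apply Nat.card_congr
    refine
      { toFun := fun y => ⟨⟨(y : G), y.2.1⟩, ?_⟩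
        invFun := fun x => ⟨((x : X) : G), ⟨(x : X).2, ?_⟩⟩
        left_inv := fun y => rfl
        right_inv := fun x => rfl }
    · rw [MulAction.mem_stabilizer_iff, hsmul]
      have h2 : (y : G) ∈ Subgroup.centralizer ({t} : Set G) := y.2.2
      rw [Subgroup.mem_centralizer_iff] at h2
      have h3 := h2 t rfl
      show (y : G) * t * (y : G)⁻¹ = t
      rw [← h3, mul_inv_cancel_right]
    · show ((x : X) : G) ∈ Subgroup.centralizer ({t} : Set G)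
      rw [Subgroup.mem_centralizer_iff]
      intro a ha
      rw [Set.mem_singleton_iff] at ha
      subst ha
      have h2 : (x : X) • a = a := x.2
      rw [hsmul] at h2
      exact (mul_inv_eq_iff_eq_mul.mp h2).symm

/-- Transport along conjugation by `w`: involutions `v` with `c v ∈ π X`, when
`c⁻¹ π ∈ (w u w⁻¹) X`. -/
theorem iota_conj (hodd : Odd (Nat.card X)) {u w c π : G} (hu : orderOf u = 2)
    (hun : ∀ x ∈ X, u * x * u⁻¹ ∈ X)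
    (hwn : ∀ x ∈ X, w * x * w⁻¹ ∈ X) (hwn' : ∀ x ∈ X, w⁻¹ * x * w ∈ X)
    (hc : ∃ ρ₀ ∈ X, c⁻¹ * π = w * u * w⁻¹ * ρ₀) :
    Nat.card {v : G // orderOf v = 2 ∧ ∃ ρ ∈ X, c * v = π * ρ} *
      Nat.card ↥(X ⊓ Subgroup.centralizer ({u} : Set G)) = Nat.card X := by
  rw [← iota0 hodd hu hun]
  congr 1
  obtain ⟨ρ₀, hρ₀, hc⟩ := hc
  apply Nat.card_congr
  refine Equiv.subtypeEquiv (MulAut.conj w⁻¹).toEquiv ?_
  intro v
  have hord : orderOf (w⁻¹ * v * w⁻¹⁻¹) = orderOf v := by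
    have : SemiconjBy w⁻¹ v (w⁻¹ * v * w⁻¹⁻¹) := by
      show w⁻¹ * v = w⁻¹ * v * w⁻¹⁻¹ * w⁻¹
      group
    exact this.orderOf_eq.symm
  show (orderOf v = 2 ∧ ∃ ρ ∈ X, c * v = π * ρ) ↔
    (orderOf (w⁻¹ * v * w⁻¹⁻¹) = 2 ∧ ∃ ρ ∈ X, w⁻¹ * v * w⁻¹⁻¹ = u * ρ)
  rw [hord]
  refine and_congr_right fun _ => ?_
  have hπ : π = c * (w * u * w⁻¹ * ρ₀) := by rw [← hc]; group
  constructor
  · rintro ⟨ρ, hρ, hv⟩
    refine ⟨w⁻¹ * (ρ₀ * ρ) * w, hwn' _ (X.mul_mem hρ₀ hρ), ?_⟩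
    have hv' : v = w * u * w⁻¹ * ρ₀ * ρ := by
      have : c * v = c * (w * u * w⁻¹ * ρ₀ * ρ) := by rw [hv, hπ]; group
      exact mul_left_cancel this
    rw [hv']
    group
  · rintro ⟨ρ, hρ, hv⟩
    refine ⟨ρ₀⁻¹ * (w * ρ * w⁻¹), X.mul_mem (X.inv_mem hρ₀) (hwn _ hρ), ?_⟩
    have hv' : v = w * (u * ρ) * w⁻¹ := by rw [← hv]; group
    rw [hv', hπ]
    group

omit [Finite G] in
/-- `σ ^ k * τ` is an involution. -/
theorem orderOf_zpow_mul_tau (h : Hyp n P σ τ) (k : ℤ) : orderOf (σ ^ k * τ) = 2 := by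
  haveI : Fact (Nat.Prime 2) := ⟨Nat.prime_two⟩
  apply orderOf_eq_prime
  · rw [pow_two, mul_assoc, ← mul_assoc τ, Cfsg.Agent.H24.Dih.tau_mul_zpow h, mul_assoc,
      Cfsg.Agent.H24.Dih.tau_sq h, mul_one, ← zpow_add, add_neg_cancel, zpow_zero]
  · intro h1
    have h2 : τ = σ ^ (-k) := by
      rw [zpow_neg]
      exact (inv_eq_of_mul_eq_one_right h1).symm
    have h3 : τ * σ * τ⁻¹ = σ := by
      rw [h2]
      have : Commute (σ ^ (-k)) σ := (Commute.refl σ).zpow_left _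
      rw [this.eq, mul_inv_cancel_right]
    rw [h.hrel] at h3
    have h4 : σ ^ 2 = 1 := by
      rw [pow_two]
      nth_rewrite 1 [← h3]
      exact inv_mul_cancel σ
    have h5 : orderOf σ ∣ 2 := orderOf_dvd_of_pow_eq_one h4
    rw [h.hσo] at h5
    have h6 : 2 ^ (n - 1) ≤ 2 := Nat.le_of_dvd (by norm_num) h5
    have hn := h.hn
    have h7 : 2 ^ 2 ≤ 2 ^ (n - 1) := Nat.pow_le_pow_right (by norm_num) (by omega)
    omega

omit [Finite G] in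
theorem orderOf_sigma_tau (h : Hyp n P σ τ) : orderOf (σ * τ) = 2 := by
  have := orderOf_zpow_mul_tau h 1
  rwa [zpow_one] at this

omit [Finite G] in
theorem sigma_tau_inv (h : Hyp n P σ τ) : (σ * τ)⁻¹ = σ * τ := by
  have := pow_orderOf_eq_one (σ * τ)
  rw [orderOf_sigma_tau h, pow_two] at this
  exact inv_eq_of_mul_eq_one_left this

/-- The specialization of `iota_conj` to the setting of S4482. -/
theorem iota_core (h : Hyp n P σ τ) (hX : Core n P σ X) {u w c π : G} (hu : orderOf u = 2)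
    (huH : u ∈ Subgroup.centralizer ({σ ^ (2 ^ (n - 2))} : Set G))
    (hwH : w ∈ Subgroup.centralizer ({σ ^ (2 ^ (n - 2))} : Set G))
    (hc : ∃ ρ₀ ∈ X, c⁻¹ * π = w * u * w⁻¹ * ρ₀) :
    Nat.card {v : G // orderOf v = 2 ∧ ∃ ρ ∈ X, c * v = π * ρ} *
      Nat.card ↥(X ⊓ Subgroup.centralizer ({u} : Set G)) = Nat.card X := by
  refine iota_conj hX.odd hu (hX.norm u huH) (hX.norm w hwH) ?_ hc
  intro x hx
  have := hX.norm w⁻¹ (inv_mem hwH) x hx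
  rwa [inv_inv] at this

/-- For `g ∈ C(J)`: `g⁻¹ σ g ∈ σ X ∪ σ⁻¹ X`. -/
theorem conj_sigma_mem (h : Hyp n P σ τ) (hX : Core n P σ X) (g : G)
    (hg : g ∈ Subgroup.centralizer ({σ ^ (2 ^ (n - 2))} : Set G)) :
    ∃ ρ ∈ X, g⁻¹ * σ * g = σ * ρ ∨ g⁻¹ * σ * g = σ⁻¹ * ρ := by
  obtain ⟨x, hx, p, hp, rfl⟩ := hX.mul g hg
  have hPH := Cfsg.Agent.H24.Dih.P_le h
  have hσH : σ ∈ Subgroup.centralizer ({σ ^ (2 ^ (n - 2))} : Set G) := hPH h.hσ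
  have hpH : p ∈ Subgroup.centralizer ({σ ^ (2 ^ (n - 2))} : Set G) := hPH hp
  -- `ρ₁ = σ⁻¹ x⁻¹ σ x ∈ X`
  have h1 : σ⁻¹ * x⁻¹ * σ * x ∈ X := by
    have := hX.norm σ⁻¹ (inv_mem hσH) x⁻¹ (X.inv_mem hx)
    rw [inv_inv] at this
    exact X.mul_mem this hx
  have h2 : p⁻¹ * (σ⁻¹ * x⁻¹ * σ * x) * p ∈ X := by
    have := hX.norm p⁻¹ (inv_mem hpH) _ h1
    rwa [inv_inv] at this
  refine ⟨p⁻¹ * (σ⁻¹ * x⁻¹ * σ * x) * p, h2, ?_⟩
  have h3 : (x * p)⁻¹ * σ * (x * p) = (p⁻¹ * σ * p⁻¹⁻¹) * (p⁻¹ * (σ⁻¹ * x⁻¹ * σ * x) * p) := by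
    group
  rcases Cfsg.Agent.H71.DihC.conj_σ h p⁻¹ (inv_mem hp) with h4 | h4
  · left; rw [h3, h4]
  · right; rw [h3, h4]

omit [Finite G] in
theorem two_pow_add (h : Hyp n P σ τ) : 2 ^ (n - 3) + 2 ^ (n - 3) = 2 ^ (n - 2) := by
  have hn := h.hn
  have : n - 2 = (n - 3) + 1 := by omega
  rw [this, pow_succ]
  ring

omit [Finite G] in
/-- `σ^k τ σ^(-k) = J τ` for `k = 2 ^ (n - 3)`. -/
theorem conj_tau_eq (h : Hyp n P σ τ) :
    σ ^ (2 ^ (n - 3)) * τ * (σ ^ (2 ^ (n - 3)))⁻¹ = σ ^ (2 ^ (n - 2)) * τ := by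
  rw [mul_assoc, Cfsg.Agent.H24.Dih.tau_mul_pow_inv h, ← mul_assoc, ← pow_add, two_pow_add h]

theorem J_comm_tau (h : Hyp n P σ τ) : σ ^ (2 ^ (n - 2)) * τ = τ * σ ^ (2 ^ (n - 2)) := by
  have := Cfsg.Agent.H24.Dih.P_le h h.hτ
  rw [Subgroup.mem_centralizer_iff] at this
  exact this _ rfl

theorem iota_J_τ (h : Hyp n P σ τ) (hX : Core n P σ X) (g : G)
    (hg : g ∈ Subgroup.centralizer ({σ ^ (2 ^ (n - 2))} : Set G)) :
    Nat.card {v : G // orderOf v = 2 ∧ ∃ ρ ∈ X, g * τ * g⁻¹ * v = σ ^ (2 ^ (n - 2)) * ρ} *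
      Nat.card ↥(X ⊓ Subgroup.centralizer ({τ} : Set G)) = Nat.card X := by
  have hPH := Cfsg.Agent.H24.Dih.P_le h
  have hσH : σ ∈ Subgroup.centralizer ({σ ^ (2 ^ (n - 2))} : Set G) := hPH h.hσ
  have hg' := hg
  rw [Subgroup.mem_centralizer_iff] at hg'
  have hgJ : σ ^ (2 ^ (n - 2)) * g = g * σ ^ (2 ^ (n - 2)) := hg' _ rfl
  refine iota_core h hX (w := g * σ ^ (2 ^ (n - 3))) h.hτo (hPH h.hτ)
    (mul_mem hg (pow_mem hσH _)) ⟨1, X.one_mem, ?_⟩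
  rw [mul_one]
  have e1 : g * σ ^ (2 ^ (n - 3)) * τ * (g * σ ^ (2 ^ (n - 3)))⁻¹
      = g * (σ ^ (2 ^ (n - 3)) * τ * (σ ^ (2 ^ (n - 3)))⁻¹) * g⁻¹ := by group
  rw [e1, conj_tau_eq h]
  have e2 : (g * τ * g⁻¹)⁻¹ = g * τ⁻¹ * g⁻¹ := by group
  rw [e2, Cfsg.Agent.H24.Dih.tau_inv h, J_comm_tau h]
  have e3 : g * τ * g⁻¹ * σ ^ (2 ^ (n - 2)) = g * τ * (g⁻¹ * (σ ^ (2 ^ (n - 2)) * g)) * g⁻¹ := by
    group
  rw [e3, hgJ]
  group

theorem iota_J_στ (h : Hyp n P σ τ) (hX : Core n P σ X) (g : G)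
    (hg : g ∈ Subgroup.centralizer ({σ ^ (2 ^ (n - 2))} : Set G)) :
    Nat.card {v : G // orderOf v = 2 ∧ ∃ ρ ∈ X, g * (σ * τ) * g⁻¹ * v = σ ^ (2 ^ (n - 2)) * ρ} *
      Nat.card ↥(X ⊓ Subgroup.centralizer ({σ * τ} : Set G)) = Nat.card X := by
  have hPH := Cfsg.Agent.H24.Dih.P_le h
  have hσH : σ ∈ Subgroup.centralizer ({σ ^ (2 ^ (n - 2))} : Set G) := hPH h.hσ
  have hg' := hg
  rw [Subgroup.mem_centralizer_iff] at hg'
  have hgJ : σ ^ (2 ^ (n - 2)) * g = g * σ ^ (2 ^ (n - 2)) := hg' _ rfl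
  refine iota_core h hX (w := g * σ ^ (2 ^ (n - 3))) (orderOf_sigma_tau h)
    (hPH (mul_mem h.hσ h.hτ)) (mul_mem hg (pow_mem hσH _)) ⟨1, X.one_mem, ?_⟩
  rw [mul_one]
  have hc1 : σ ^ (2 ^ (n - 3)) * σ = σ * σ ^ (2 ^ (n - 3)) := (pow_mul_comm' σ _)
  have hc2 : σ ^ (2 ^ (n - 2)) * σ = σ * σ ^ (2 ^ (n - 2)) := (pow_mul_comm' σ _)
  have e1 : g * σ ^ (2 ^ (n - 3)) * (σ * τ) * (g * σ ^ (2 ^ (n - 3)))⁻¹
      = g * (σ * (σ ^ (2 ^ (n - 3)) * τ * (σ ^ (2 ^ (n - 3)))⁻¹)) * g⁻¹ := by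
    have : g * σ ^ (2 ^ (n - 3)) * (σ * τ) * (g * σ ^ (2 ^ (n - 3)))⁻¹
      = g * ((σ ^ (2 ^ (n - 3)) * σ) * τ * (σ ^ (2 ^ (n - 3)))⁻¹) * g⁻¹ := by group
    rw [this, hc1]
    group
  rw [e1, conj_tau_eq h]
  have e2 : (g * (σ * τ) * g⁻¹)⁻¹ = g * (σ * τ)⁻¹ * g⁻¹ := by group
  rw [e2, sigma_tau_inv h]
  have e3 : g * (σ * τ) * g⁻¹ * σ ^ (2 ^ (n - 2))
      = g * (σ * τ) * (g⁻¹ * (σ ^ (2 ^ (n - 2)) * g)) * g⁻¹ := by
    group
  rw [e3, hgJ, J_comm_tau h]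
  group

theorem iota_σ_τ (h : Hyp n P σ τ) (hX : Core n P σ X) (g : G)
    (hg : g ∈ Subgroup.centralizer ({σ ^ (2 ^ (n - 2))} : Set G)) :
    Nat.card {v : G // orderOf v = 2 ∧ ∃ ρ ∈ X, g * τ * g⁻¹ * v = σ * ρ} *
      Nat.card ↥(X ⊓ Subgroup.centralizer ({σ * τ} : Set G)) = Nat.card X := by
  have hPH := Cfsg.Agent.H24.Dih.P_le h
  have hσH : σ ∈ Subgroup.centralizer ({σ ^ (2 ^ (n - 2))} : Set G) := hPH h.hσ
  have e2 : (g * τ * g⁻¹)⁻¹ = g * τ⁻¹ * g⁻¹ := by group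
  obtain ⟨ρ, hρ, hc | hc⟩ := conj_sigma_mem h hX g hg
  · -- `g⁻¹ σ g = σ ρ`: `w = g σ⁻¹`
    refine iota_core h hX (w := g * σ⁻¹) (orderOf_sigma_tau h)
      (hPH (mul_mem h.hσ h.hτ)) (mul_mem hg (inv_mem hσH)) ⟨g * ρ * g⁻¹, hX.norm g hg ρ hρ, ?_⟩
    rw [e2, Cfsg.Agent.H24.Dih.tau_inv h]
    have e3 : g * τ * g⁻¹ * σ = g * τ * (g⁻¹ * σ * g) * g⁻¹ := by group
    rw [e3, hc]
    group
  · -- `g⁻¹ σ g = σ⁻¹ ρ`: `w = g`
    refine iota_core h hX (w := g) (orderOf_sigma_tau h)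
      (hPH (mul_mem h.hσ h.hτ)) hg ⟨g * ρ * g⁻¹, hX.norm g hg ρ hρ, ?_⟩
    rw [e2, Cfsg.Agent.H24.Dih.tau_inv h]
    have e3 : g * τ * g⁻¹ * σ = g * τ * (g⁻¹ * σ * g) * g⁻¹ := by group
    have e4 : τ * σ⁻¹ = σ * τ := by
      have := Cfsg.Agent.H24.Dih.tau_mul_pow_inv h 1
      rwa [pow_one] at this
    rw [e3, hc]
    have e5 : g * τ * (σ⁻¹ * ρ) * g⁻¹ = g * (τ * σ⁻¹) * ρ * g⁻¹ := by group
    rw [e5, e4]
    group

theorem iota_σ_στ (h : Hyp n P σ τ) (hX : Core n P σ X) (g : G)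
    (hg : g ∈ Subgroup.centralizer ({σ ^ (2 ^ (n - 2))} : Set G)) :
    Nat.card {v : G // orderOf v = 2 ∧ ∃ ρ ∈ X, g * (σ * τ) * g⁻¹ * v = σ * ρ} *
      Nat.card ↥(X ⊓ Subgroup.centralizer ({τ} : Set G)) = Nat.card X := by
  have hPH := Cfsg.Agent.H24.Dih.P_le h
  have hσH : σ ∈ Subgroup.centralizer ({σ ^ (2 ^ (n - 2))} : Set G) := hPH h.hσ
  have e2 : (g * (σ * τ) * g⁻¹)⁻¹ = g * (σ * τ)⁻¹ * g⁻¹ := by group
  have e4 : τ * σ⁻¹ = σ * τ := by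
    have := Cfsg.Agent.H24.Dih.tau_mul_pow_inv h 1
    rwa [pow_one] at this
  have e6 : σ * τ * σ = τ := by
    rw [← e4]
    group
  obtain ⟨ρ, hρ, hc | hc⟩ := conj_sigma_mem h hX g hg
  · -- `g⁻¹ σ g = σ ρ`: `w = g`
    refine iota_core h hX (w := g) h.hτo (hPH h.hτ) hg ⟨g * ρ * g⁻¹, hX.norm g hg ρ hρ, ?_⟩
    rw [e2, sigma_tau_inv h]
    have e3 : g * (σ * τ) * g⁻¹ * σ = g * (σ * τ) * (g⁻¹ * σ * g) * g⁻¹ := by group
    rw [e3, hc]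
    have e5 : g * (σ * τ) * (σ * ρ) * g⁻¹ = g * (σ * τ * σ) * ρ * g⁻¹ := by group
    rw [e5, e6]
    group
  · -- `g⁻¹ σ g = σ⁻¹ ρ`: `w = g σ`
    refine iota_core h hX (w := g * σ) h.hτo (hPH h.hτ) (mul_mem hg hσH)
      ⟨g * ρ * g⁻¹, hX.norm g hg ρ hρ, ?_⟩
    rw [e2, sigma_tau_inv h]
    have e3 : g * (σ * τ) * g⁻¹ * σ = g * (σ * τ) * (g⁻¹ * σ * g) * g⁻¹ := by group
    rw [e3, hc]
    group

end Cfsg.Agent.H14.Dih
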