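import Mathlib
import Cfsg.Agent.H77.FxDefs
import Cfsg.Agent.H42.ElusSpA
import Cfsg.Agent.H45.SpInvol
import Cfsg.Agent.H45.IsoSp

/-!
# helper14: S5975-CONJ1 -- non-scalar involutions of `Sp_4(F)` are conjugate (`2 ≠ 0`)
-/

set_option autoImplicit false

namespace Cfsg.Agent.H14.Fx

open Cfsg.Agent.H45 Cfsg.Agent.H42.Spd Cfsg.Agent.H77.Fx Module Polynomial

universe u

/-- If `det B ≠ 0` and `B * C = 0` then `C = 0`. -/
theorem eq_zero_of_det_ne_zero {F : Type u} [Field F] {ι : Type} [Fintype ι] [DecidableEq ι]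
    (B C : Matrix ι ι F) (hB : B.det ≠ 0) (h : B * C = 0) : C = 0 := by
  have hu : IsUnit B.det := isUnit_iff_ne_zero.mpr hB
  have h1 : B⁻¹ * (B * C) = C := by
    rw [← mul_assoc, Matrix.nonsing_inv_mul B hu, one_mul]
  rw [h, mul_zero] at h1
  exact h1.symm

/-- The characteristic polynomial of a non-scalar symplectic involution in dimension four. -/
theorem invol_charpoly {F : Type u} [Field F] (h2 : (2 : F) ≠ 0)
    (A : Matrix (Fin 2 ⊕ Fin 2) (Fin 2 ⊕ Fin 2) F) (hA : A ∈ Matrix.symplecticGroup (Fin 2) F)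
    (hAA : A * A = 1) (hns : ∀ z : F, A ≠ z • (1 : Matrix (Fin 2 ⊕ Fin 2) (Fin 2 ⊕ Fin 2) F)) :
    A.charpoly = (X - C (1 : F)) ^ 2 * (X - C (-1 : F)) ^ 2 := by
  obtain ⟨hcp, hsum, heven⟩ := sp_invol_charpoly h2 2 A hA hAA
  have hle : rootMultiplicity (1 : F) A.charpoly ≤ 4 := by omega
  have h16 : ((1 : F) + 1) ^ 4 ≠ 0 := by
    apply pow_ne_zero
    rw [one_add_one_eq_two]
    exact h2
  obtain ⟨j, hj⟩ := heven
  have hcases : rootMultiplicity (1 : F) A.charpoly = 0 ∨ rootMultiplicity (1 : F) A.charpoly = 2 ∨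
      rootMultiplicity (1 : F) A.charpoly = 4 := by omega
  rcases hcases with h0 | h0 | h0
  · -- charpoly = (X + 1)^4: then A = -1
    exfalso
    rw [h0] at hcp
    have hev : A.charpoly.eval 1 = ((1 : F) + 1) ^ 4 := by
      rw [hcp]
      simp
    rw [Matrix.eval_charpoly] at hev
    have hdet : (1 - A).det ≠ 0 := by
      have e : (Matrix.scalar (Fin 2 ⊕ Fin 2) (1 : F) - A) = 1 - A := by
        rw [map_one]
      rw [← e, hev]
      exact h16
    have hprod : (1 - A) * (1 + A) = 0 := by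
      simp only [sub_mul, mul_add, one_mul, mul_one, hAA]
      abel
    have hz := eq_zero_of_det_ne_zero _ _ hdet hprod
    apply hns (-1)
    rw [neg_smul, one_smul]
    exact eq_neg_of_add_eq_zero_right hz
  · rw [h0] at hcp
    exact hcp
  · -- charpoly = (X - 1)^4: then A = 1
    exfalso
    rw [h0] at hcp
    have hev : A.charpoly.eval (-1) = ((1 : F) + 1) ^ 4 := by
      rw [hcp]
      simp
      ring
    rw [Matrix.eval_charpoly] at hev
    have hdet : (-1 - A).det ≠ 0 := by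
      have e : (Matrix.scalar (Fin 2 ⊕ Fin 2) (-1 : F) - A) = -1 - A := by
        rw [map_neg, map_one]
      rw [← e, hev]
      exact h16
    have hprod : (-1 - A) * (1 - A) = 0 := by
      simp only [sub_mul, mul_sub, neg_mul, one_mul, mul_one, hAA]
      abel
    have hz := eq_zero_of_det_ne_zero _ _ hdet hprod
    apply hns 1
    rw [one_smul]
    exact (sub_eq_zero.mp hz).symm

theorem conj1 : StConj1.{u} := by
  intro F _ _ h2 x y hx hy hxx hyy hxns hyns
  classical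
  have hA : (x : Mat 2 F) ∈ Matrix.symplecticGroup (Fin 2) F :=
    (Cfsg.Agent.H17.mem_symplecticGroup_iff_form 2 _).2 ((Cfsg.Agent.H42.mem_spGL_iff' x).1 hx)
  have hA' : (y : Mat 2 F) ∈ Matrix.symplecticGroup (Fin 2) F :=
    (Cfsg.Agent.H17.mem_symplecticGroup_iff_form 2 _).2 ((Cfsg.Agent.H42.mem_spGL_iff' y).1 hy)
  have hc : (x : Mat 2 F).charpoly = (y : Mat 2 F).charpoly := by
    rw [invol_charpoly h2 _ hA hxx hxns, invol_charpoly h2 _ hA' hyy hyns]
  obtain ⟨p, hp⟩ := CharP.exists F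
  haveI := hp
  have hpp : p.Prime := CharP.char_is_prime F p
  haveI : Fact p.Prime := ⟨hpp⟩
  have hp2 : ¬ p ∣ 2 := by
    intro hdvd
    have h3 : p = 2 := (Nat.prime_dvd_prime_iff_eq hpp Nat.prime_two).mp hdvd
    apply h2
    have h4 : ((p : ℕ) : F) = 0 := CharP.cast_eq_zero F p
    rw [h3] at h4
    exact_mod_cast h4
  obtain ⟨P, hP, hPA⟩ := sp_conj p (x : Mat 2 F) (y : Mat 2 F) hA hA' 2 2 hp2
    (by rw [pow_two, hxx]) hp2 (by rw [pow_two, hyy]) hc
  -- `P` as an element of `spGL`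
  obtain ⟨G, hG⟩ : ∃ G : ↥(Cfsg.spGL 2 F),
      ((G : Matrix.GeneralLinearGroup (Fin 2 ⊕ Fin 2) F) : Mat 2 F) = P := by
    refine ⟨Cfsg.Agent.H42.spGLEquiv.symm ⟨P, hP⟩, ?_⟩
    rw [← Cfsg.Agent.H42.spGLEquiv_coe, Equiv.apply_symm_apply]
  have hGx : (G : Matrix.GeneralLinearGroup (Fin 2 ⊕ Fin 2) F) * x =
      y * (G : Matrix.GeneralLinearGroup (Fin 2 ⊕ Fin 2) F) := by
    apply Units.ext
    rw [Units.val_mul, Units.val_mul, hG]
    exact hPA
  refine ⟨(G : Matrix.GeneralLinearGroup (Fin 2 ⊕ Fin 2) F)⁻¹, (Cfsg.spGL 2 F).inv_mem G.2, ?_⟩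
  rw [inv_inv, hGx, mul_assoc, mul_inv_cancel, mul_one]

example : Cfsg.Agent.H77.Fx.StConj1.{u} := conj1

end Cfsg.Agent.H14.Fx
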