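import Mathlib
import Cfsg.Agent.H77.FxDefs
import Cfsg.Agent.H42.ElusSpA

/-!
# helper14: S5975-INVB -- the normalizer of `K` in `Sp` contains an element of square `-1`
-/

set_option autoImplicit false
set_option linter.style.haveILetI false

namespace Cfsg.Agent.H14.Fx

open Cfsg.Agent.H45 Cfsg.Agent.H42.Spd Cfsg.Agent.H77.Fx Module

universe u

/-- An invertible matrix commuting with every element of `K` normalizes `K`. -/
theorem mem_normalizer_of_commute {F : Type u} [Field F] {d : ℕ} (K : Subalgebra F (Mat d F))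
    (U : Matrix.GeneralLinearGroup (Fin d ⊕ Fin d) F)
    (hc : ∀ a ∈ K, (U : Mat d F) * a = a * (U : Mat d F)) :
    U ∈ Cfsg.Geo.subalgebraNormalizer K := by
  have hUU : (U : Mat d F) * ((U⁻¹ : Matrix.GeneralLinearGroup (Fin d ⊕ Fin d) F) : Mat d F)
      = 1 := by
    rw [← Units.val_mul, mul_inv_cancel, Units.val_one]
  have hUU' : ((U⁻¹ : Matrix.GeneralLinearGroup (Fin d ⊕ Fin d) F) : Mat d F) * (U : Mat d F)
      = 1 := by
    rw [← Units.val_mul, inv_mul_cancel, Units.val_one]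
  have key : ∀ a ∈ K, (U : Mat d F) * a *
      ((U⁻¹ : Matrix.GeneralLinearGroup (Fin d ⊕ Fin d) F) : Mat d F) = a := by
    intro a ha
    rw [hc a ha, mul_assoc, hUU, mul_one]
  intro a
  constructor
  · intro ha
    rw [key a ha]
    exact ha
  · intro hb
    have h1 := key _ hb
    have h2 : a = (U : Mat d F) * a *
        ((U⁻¹ : Matrix.GeneralLinearGroup (Fin d ⊕ Fin d) F) : Mat d F) := by
      have h3 : ((U⁻¹ : Matrix.GeneralLinearGroup (Fin d ⊕ Fin d) F) : Mat d F) *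
          ((U : Mat d F) * ((U : Mat d F) * a *
            ((U⁻¹ : Matrix.GeneralLinearGroup (Fin d ⊕ Fin d) F) : Mat d F)) *
            ((U⁻¹ : Matrix.GeneralLinearGroup (Fin d ⊕ Fin d) F) : Mat d F)) * (U : Mat d F) =
          ((U⁻¹ : Matrix.GeneralLinearGroup (Fin d ⊕ Fin d) F) : Mat d F) *
          ((U : Mat d F) * a *
            ((U⁻¹ : Matrix.GeneralLinearGroup (Fin d ⊕ Fin d) F) : Mat d F)) * (U : Mat d F) := by
        rw [h1]
      have e1 : ((U⁻¹ : Matrix.GeneralLinearGroup (Fin d ⊕ Fin d) F) : Mat d F) *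
          ((U : Mat d F) * ((U : Mat d F) * a *
            ((U⁻¹ : Matrix.GeneralLinearGroup (Fin d ⊕ Fin d) F) : Mat d F)) *
            ((U⁻¹ : Matrix.GeneralLinearGroup (Fin d ⊕ Fin d) F) : Mat d F)) * (U : Mat d F) =
          (((U⁻¹ : Matrix.GeneralLinearGroup (Fin d ⊕ Fin d) F) : Mat d F) * (U : Mat d F)) *
          ((U : Mat d F) * a *
            ((U⁻¹ : Matrix.GeneralLinearGroup (Fin d ⊕ Fin d) F) : Mat d F)) *
          (((U⁻¹ : Matrix.GeneralLinearGroup (Fin d ⊕ Fin d) F) : Mat d F) * (U : Mat d F)) := by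
        simp only [mul_assoc]
      have e2 : ((U⁻¹ : Matrix.GeneralLinearGroup (Fin d ⊕ Fin d) F) : Mat d F) *
          ((U : Mat d F) * a *
            ((U⁻¹ : Matrix.GeneralLinearGroup (Fin d ⊕ Fin d) F) : Mat d F)) * (U : Mat d F) =
          (((U⁻¹ : Matrix.GeneralLinearGroup (Fin d ⊕ Fin d) F) : Mat d F) * (U : Mat d F)) * a *
          (((U⁻¹ : Matrix.GeneralLinearGroup (Fin d ⊕ Fin d) F) : Mat d F) * (U : Mat d F)) := by
        simp only [mul_assoc]
      rw [e1, e2, hUU', one_mul, mul_one, one_mul, mul_one] at h3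
      exact h3.symm
    rw [h2]
    exact hb

theorem invB (hS : StStruct.{u}) : StInvB.{u} := by
  intro F _ _ d k K hK hk
  obtain ⟨m, L, instL, instFL, instAlg, ψ, φ, hdkm, hcard, hψK, hKψ, hφ, hform⟩ := hS F d k K hK hk
  classical
  letI : Field L := instL
  letI : Fintype L := instFL
  letI : Algebra F L := instAlg
  -- the `L`-linear map `J` restricted to `F`-scalars
  let S : (Fin m ⊕ Fin m → L) →ₗ[F] (Fin m ⊕ Fin m → L) :=
    (Matrix.toLin' (Matrix.J (Fin m) L)).restrictScalars F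
  have hS_apply : ∀ w, S w = Matrix.toLin' (Matrix.J (Fin m) L) w := fun w => rfl
  have hSS : ∀ w, S (S w) = -w := by
    intro w
    rw [hS_apply, hS_apply, Matrix.toLin'_apply, Matrix.toLin'_apply, Matrix.mulVec_mulVec,
      Matrix.J_squared, Matrix.neg_mulVec, Matrix.one_mulVec]
  have hSsmul : ∀ (c : L) w, S (c • w) = c • S w := by
    intro c w
    rw [hS_apply, hS_apply, map_smul]
  have hSform : ∀ w w', Cfsg.sympForm m L (S w) (S w') = Cfsg.sympForm m L w w' := by
    intro w w'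
    rw [← stdB_apply, ← stdB_apply, hS_apply, hS_apply]
    exact stdB_isom m _ (SymplecticGroup.J_mem (Fin m) L) w w'
  -- the transported map
  let f : Vec d F →ₗ[F] Vec d F :=
    (φ : (Fin m ⊕ Fin m → L) →ₗ[F] Vec d F) ∘ₗ S ∘ₗ (φ.symm : Vec d F →ₗ[F] (Fin m ⊕ Fin m → L))
  have hf_apply : ∀ v, f v = φ (S (φ.symm v)) := fun v => rfl
  have hff : ∀ v, f (f v) = -v := by
    intro v
    rw [hf_apply, hf_apply, LinearEquiv.symm_apply_apply, hSS, map_neg,
      LinearEquiv.apply_symm_apply]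
  obtain ⟨U, hU⟩ := Cfsg.Agent.H42.gl_of_maps f (-f)
    (by intro x; rw [LinearMap.neg_apply, map_neg, hff, neg_neg])
    (by intro x; rw [LinearMap.neg_apply, hff, neg_neg])
  have hUφ : ∀ w, (U : Mat d F).mulVec (φ w) = φ (S w) := by
    intro w
    rw [hU, hf_apply, LinearEquiv.symm_apply_apply]
  refine ⟨U, ?_, ?_, ?_⟩
  · rw [Cfsg.Agent.H42.mem_spGL_iff']
    intro u v
    obtain ⟨w, rfl⟩ := φ.surjective u
    obtain ⟨w', rfl⟩ := φ.surjective v
    rw [hUφ, hUφ, hform, hform, hSform]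
  · apply mem_normalizer_of_commute
    intro a ha
    obtain ⟨c, rfl⟩ := hKψ a ha
    apply Cfsg.Agent.H42.mat_ext_mulVecG
    intro x
    obtain ⟨w, rfl⟩ := φ.surjective x
    rw [← Matrix.mulVec_mulVec, ← Matrix.mulVec_mulVec, ← hφ, hUφ, hUφ, hSsmul, hφ]
  · apply Cfsg.Agent.H42.mat_ext_mulVecG
    intro x
    rw [← Matrix.mulVec_mulVec, hU, hU, hff, Matrix.neg_mulVec, Matrix.one_mulVec]

example (hS : StStruct.{u}) : Cfsg.Agent.H77.Fx.StInvB.{u} := invB hS

end Cfsg.Agent.H14.Fx
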