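import Cfsg.Agent.H14.GReplace
import Cfsg.Agent.S0649

set_option autoImplicit false
open Cfsg
open scoped commutatorElement Pointwise

namespace Cfsg.Agent.H14

theorem gStar_le_of_normal {S : Type*} [Group S] (D : Subgroup S) [hD : D.Normal] {A : Subgroup S}
    (hAD : A ≤ D) (b : S) : gStar A b ≤ D := by
  apply sup_le (inf_le_left.trans hAD)
  rw [Subgroup.closure_le]
  rintro _ ⟨a, ha, rfl⟩
  have e : a * b⁻¹ * a⁻¹ * b = a * (b⁻¹ * a⁻¹ * b⁻¹⁻¹) := by group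
  rw [e]
  exact mul_mem (hAD ha) (hD.conj_mem _ (inv_mem (hAD ha)) _)

/-- Glauberman replacement for a family of abelian subgroups of a normal subgroup `D` closed
under passing to abelian subgroups of `D` of the same order and no larger exponent. -/
theorem replacement_family {S : Type*} [Group S] [Finite S] {p : ℕ} [Fact p.Prime]
    (hS : IsPGroup p S) (hp : p ≠ 2) (D : Subgroup S) [D.Normal] (F : Set (Subgroup S))
    (hF1 : ∀ A ∈ F, IsMulCommutative A)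
    (hF2 : ∀ A ∈ F, ∀ A' : Subgroup S, A' ≤ D → IsMulCommutative A' → Nat.card A' = Nat.card A →
      Monoid.exponent A' ∣ Monoid.exponent A → A' ∈ F)
    (hF3 : ∀ A ∈ F, A ≤ D)
    (B : Subgroup S) [B.Normal] (hex : ∃ U ∈ F, ⁅B, B⁆ ≤ U ∧ ¬ B ≤ U) :
    ∃ A ∈ F, ⁅B, B⁆ ≤ A ∧ ¬ B ≤ A ∧ B ≤ Subgroup.normalizer (A : Set S) := by
  have hne : {A | A ∈ F ∧ ⁅B, B⁆ ≤ A ∧ ¬ B ≤ A}.Nonempty := by
    obtain ⟨U, hU, h1, h2⟩ := hex
    exact ⟨U, hU, h1, h2⟩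
  obtain ⟨A, hAG, hmax⟩ := Set.exists_max_image {A | A ∈ F ∧ ⁅B, B⁆ ≤ A ∧ ¬ B ≤ A}
    (fun A => Nat.card ↥(A ⊓ B)) (Set.toFinite _) hne
  obtain ⟨hAF, hBA, hnBA⟩ := hAG
  refine ⟨A, hAF, hBA, hnBA, ?_⟩
  by_contra hnot
  obtain ⟨b, hb, hbN, hbA⟩ := Cfsg.Agent.S0649.exists_mem_normalizer_not_mem hS B _ hnot
  have h : GRS A B b := ⟨hF1 A hAF, inferInstance, hBA, hb, hbN⟩
  have hB2 : p = 2 → IsMulCommutative B := fun e => absurd e hp
  have hstar : gStar A b ∈ {A | A ∈ F ∧ ⁅B, B⁆ ≤ A ∧ ¬ B ≤ A} := by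
    refine ⟨hF2 A hAF _ (gStar_le_of_normal D (hF3 A hAF) b) (h.gStar_comm hS hB2) h.card_gStar
      (h.exponent_gStar_dvd hS hp), h.derived_B_le_inf.trans le_sup_left, ?_⟩
    intro hle
    exact (h.gStar_inf_B_lt hnot).ne (inf_eq_right.mpr hle)
  have h1 := hmax _ hstar
  have h2 := h.inf_B_lt hbA
  have h3 := Subgroup.eq_of_le_of_card_ge h2.le h1
  exact h2.ne h3

end Cfsg.Agent.H14
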