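import Cfsg.Agent.H86.GsDefs

set_option autoImplicit false
set_option linter.unusedSectionVars false
set_option linter.unusedVariables false

/-! GS-PROP (helper14, for helper86's S5665 team project): one good transvection centre
spreads to all vectors. -/

namespace Cfsg.Agent.H14.Gs

open Cfsg Cfsg.Geo Cfsg.Agent.H95 Cfsg.Agent.H86.Gs
open scoped MatrixGroups Matrix

universe u

section

variable {m : ℕ} {F : Type u} [Field F] {J : Mat m F} {δ : F}

/-- Hyperbolic line closure of the set of transvection centres. -/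
lemma gpHl {M : Subgroup (GL (Fin m ⊕ Fin m) F)} {w u : V m F}
    (hw : w ∈ transvCenters M) (hu : u ∈ transvCenters M) (hne : sympForm m F w u ≠ 0)
    (s t : F) : s • w + t • u ∈ transvCenters M := by
  by_cases hs : s = 0
  · subst hs
    rw [zero_smul, zero_add]
    exact transvCenters_smul hu t
  · have h1 := transvCenters_transv hu hw (t / s / sympForm m F w u)
    rw [div_mul_cancel₀ _ hne] at h1
    have h2 := transvCenters_smul h1 s
    have e : s • (w + (t / s) • u) = s • w + t • u := by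
      rw [smul_add, smul_smul, mul_div_cancel₀ _ hs]
    rwa [e] at h2

lemma gpJJ (C : Ctx J δ) (x : V m F) : J *ᵥ (J *ᵥ x) = (-δ) • x := by rw [C.sq, neg_smul]

lemma gpSwap (C : Ctx J δ) (x y : V m F) :
    sympForm m F y (J *ᵥ x) = sympForm m F x (J *ᵥ y) := by
  rw [C.skew' y x, sympForm_skew (J *ᵥ y) x, neg_neg]

lemma gpPsiAdd (C : Ctx J δ) (x y : V m F) (s : F) :
    psi J (x + s • y) = psi J x + s * s * psi J y + 2 * s * sympForm m F x (J *ᵥ y) := by
  have h := gpSwap C x y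
  unfold psi
  rw [Matrix.mulVec_add, Matrix.mulVec_smul]
  simp only [sympForm_add_left, sympForm_add_right, sympForm_smul_left, sympForm_smul_right, h]
  ring

lemma gpNorm (C : Ctx J δ) {a b : F} (h : a ≠ 0 ∨ b ≠ 0) : a * a + δ * b * b ≠ 0 := by
  by_cases hb : b = 0
  · subst hb
    have ha : a ≠ 0 := by
      rcases h with h | h
      · exact h
      · exact absurd rfl h
    simpa using ha
  · intro h0
    apply C.irr (a / b)
    field_simp
    linear_combination h0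

lemma gpProjSelf (e : V m F) (he : psi J e ≠ 0) : proj J e e = e := by
  unfold proj
  rw [sympForm_self, zero_smul, sub_zero]
  show (psi J e)⁻¹ • (psi J e • e) = e
  rw [smul_smul, inv_mul_cancel₀ he, one_smul]

lemma gpTorSelf (e : V m F) (he : psi J e ≠ 0) (α β : F) :
    tor J e α β e = α • e + β • (J *ᵥ e) := by
  unfold tor
  rw [gpProjSelf e he]
  module

/-- A good centre gives its whole `K`-line. -/
lemma gpLine (hTor : StTor.{u}) (C : Ctx J δ) {M : Subgroup (GL (Fin m ⊕ Fin m) F)}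
    (hM : M ≤ spGL m F) (hT : HasTor J δ M)
    {w : V m F} (hw : psi J w ≠ 0) (hwX : w ∈ transvCenters M) (a b : F) :
    a • w + b • (J *ᵥ w) ∈ transvCenters M := by
  have h1δ : (1 : F) + δ ≠ 0 := by
    have := C.irr 1
    simpa using this
  obtain ⟨α₁, hα⟩ : ∃ α₁ : F, α₁ = (1 - δ) / (1 + δ) := ⟨_, rfl⟩
  obtain ⟨β₁, hβ⟩ : ∃ β₁ : F, β₁ = 2 / (1 + δ) := ⟨_, rfl⟩
  have hn : α₁ * α₁ + δ * β₁ * β₁ = 1 := by
    rw [hα, hβ]
    field_simp
    ring
  have hβ0 : β₁ ≠ 0 := by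
    rw [hβ]
    exact div_ne_zero C.two h1δ
  obtain ⟨c, hcSp, -, hc⟩ := hTor J δ C w α₁ β₁ hw hn
  have hcM : c ∈ M := hT w α₁ β₁ hw hn c hc
  have hu := transvCenters_mulVec hcM hcSp hwX
  rw [hc, gpTorSelf w hw] at hu
  have hne : sympForm m F w (α₁ • w + β₁ • (J *ᵥ w)) ≠ 0 := by
    rw [sympForm_add_right, sympForm_smul_right, sympForm_smul_right, sympForm_self, mul_zero,
      zero_add]
    exact mul_ne_zero hβ0 hw
  have h3 := gpHl hwX hu hne (a - b * α₁ / β₁) (b / β₁)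
  have e : (a - b * α₁ / β₁) • w + (b / β₁) • (α₁ • w + β₁ • (J *ᵥ w))
      = a • w + b • (J *ᵥ w) := by
    rw [smul_add, smul_smul, smul_smul, div_mul_cancel₀ _ hβ0, ← add_assoc, ← add_smul]
    congr 2
    field_simp
    ring
  rwa [e] at h3

/-- Step (b): a good centre `z` and a good `e'` not `K`-orthogonal to it. -/
lemma gpStepB (hTor : StTor.{u}) (C : Ctx J δ) {M : Subgroup (GL (Fin m ⊕ Fin m) F)}
    (hM : M ≤ spGL m F) (hT : HasTor J δ M)
    {z e' : V m F} (hz : psi J z ≠ 0) (hzX : z ∈ transvCenters M) (he' : psi J e' ≠ 0)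
    (hne : ¬ (sympForm m F z e' = 0 ∧ sympForm m F z (J *ᵥ e') = 0)) :
    e' ∈ transvCenters M := by
  have h1δ : (1 : F) + δ ≠ 0 := by
    have := C.irr 1
    simpa using this
  obtain ⟨α₁, hα⟩ : ∃ α₁ : F, α₁ = (1 - δ) / (1 + δ) := ⟨_, rfl⟩
  obtain ⟨β₁, hβ⟩ : ∃ β₁ : F, β₁ = 2 / (1 + δ) := ⟨_, rfl⟩
  have hn : α₁ * α₁ + δ * β₁ * β₁ = 1 := by
    rw [hα, hβ]
    field_simp
    ring
  have hβ0 : β₁ ≠ 0 := by
    rw [hβ]
    exact div_ne_zero C.two h1δ
  obtain ⟨c, hcSp, -, hc⟩ := hTor J δ C e' α₁ β₁ he' hn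
  have hcM : c ∈ M := hT e' α₁ β₁ he' hn c hc
  obtain ⟨p, hp⟩ : ∃ p : F, p = sympForm m F z e' := ⟨_, rfl⟩
  obtain ⟨r, hr⟩ : ∃ r : F, r = sympForm m F z (J *ᵥ e') := ⟨_, rfl⟩
  obtain ⟨ψ, hψ⟩ : ∃ ψ : F, ψ = psi J e' := ⟨_, rfl⟩
  have hψ0 : ψ ≠ 0 := by rw [hψ]; exact he'
  obtain ⟨a₀, ha₀⟩ : ∃ a₀ : F, a₀ = ((α₁ - 1) * r + β₁ * δ * p) / ψ := ⟨_, rfl⟩
  obtain ⟨b₀, hb₀⟩ : ∃ b₀ : F, b₀ = (β₁ * r - (α₁ - 1) * p) / ψ := ⟨_, rfl⟩
  have hcz : (c : Mat m F) *ᵥ z = z + (a₀ • e' + b₀ • (J *ᵥ e')) := by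
    rw [hc]
    unfold tor proj
    rw [← hp, ← hr, ← hψ, Matrix.mulVec_smul, Matrix.mulVec_sub, Matrix.mulVec_smul,
      Matrix.mulVec_smul, gpJJ C, ha₀, hb₀]
    congr 1
    have e1 : ψ⁻¹ * ψ = 1 := inv_mul_cancel₀ hψ0
    match_scalars <;> field_simp <;> ring
  have hpr : p ≠ 0 ∨ r ≠ 0 := by
    by_contra hcon
    push Not at hcon
    exact hne ⟨hp ▸ hcon.1, hr ▸ hcon.2⟩
  have hN : r * r + δ * p * p ≠ 0 := gpNorm C (hpr.symm)
  -- the value `f z (c z)`
  have hfz : sympForm m F z ((c : Mat m F) *ᵥ z) = β₁ * (r * r + δ * p * p) / ψ := by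
    rw [hcz, sympForm_add_right, sympForm_add_right, sympForm_smul_right, sympForm_smul_right,
      sympForm_self, ← hp, ← hr, ha₀, hb₀]
    field_simp
    ring
  have hfz0 : sympForm m F z ((c : Mat m F) *ᵥ z) ≠ 0 := by
    rw [hfz]
    exact div_ne_zero (mul_ne_zero hβ0 hN) hψ0
  have hczX := transvCenters_mulVec hcM hcSp hzX
  -- `w₁ := c z - z ∈ X`
  have hw₁X : a₀ • e' + b₀ • (J *ᵥ e') ∈ transvCenters M := by
    have h3 := gpHl hzX hczX hfz0 (-1) 1
    have e : (-1 : F) • z + (1 : F) • ((c : Mat m F) *ᵥ z) = a₀ • e' + b₀ • (J *ᵥ e') := by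
      rw [hcz]
      module
    rwa [e] at h3
  have hab : a₀ ≠ 0 ∨ b₀ ≠ 0 := by
    by_contra hcon
    push Not at hcon
    apply hfz0
    rw [hcz, hcon.1, hcon.2, zero_smul, zero_smul, add_zero, add_zero, sympForm_self]
  have hN₀ : a₀ * a₀ + δ * b₀ * b₀ ≠ 0 := gpNorm C hab
  have hw₁ : psi J (a₀ • e' + b₀ • (J *ᵥ e')) ≠ 0 := by
    rw [C.psi_comb]
    exact mul_ne_zero hN₀ he'
  have h4 := gpLine hTor C hM hT hw₁ hw₁X (a₀ / (a₀ * a₀ + δ * b₀ * b₀))
    (-b₀ / (a₀ * a₀ + δ * b₀ * b₀))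
  have e : (a₀ / (a₀ * a₀ + δ * b₀ * b₀)) • (a₀ • e' + b₀ • (J *ᵥ e'))
      + (-b₀ / (a₀ * a₀ + δ * b₀ * b₀)) • (J *ᵥ (a₀ • e' + b₀ • (J *ᵥ e'))) = e' := by
    rw [Matrix.mulVec_add, Matrix.mulVec_smul, Matrix.mulVec_smul, gpJJ C]
    have e2 : (a₀ / (a₀ * a₀ + δ * b₀ * b₀)) • (a₀ • e' + b₀ • (J *ᵥ e'))
        + (-b₀ / (a₀ * a₀ + δ * b₀ * b₀)) • (a₀ • (J *ᵥ e') + b₀ • ((-δ) • e'))
        = ((a₀ * a₀ + δ * b₀ * b₀) / (a₀ * a₀ + δ * b₀ * b₀)) • e' := by
      match_scalars <;> field_simp <;> ring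
    rw [e2, div_self hN₀, one_smul]
  rwa [e] at h4

/-- Step (c): a good `e'` that is `K`-orthogonal to the good centre `z`. -/
lemma gpStepC (hTor : StTor.{u}) (C : Ctx J δ) {M : Subgroup (GL (Fin m ⊕ Fin m) F)}
    (hM : M ≤ spGL m F) (hT : HasTor J δ M)
    {z e' : V m F} (hz : psi J z ≠ 0) (hzX : z ∈ transvCenters M) (he' : psi J e' ≠ 0)
    (h1 : sympForm m F z e' = 0) (h2 : sympForm m F z (J *ᵥ e') = 0) :
    e' ∈ transvCenters M := by
  -- `y = e' + b J e'` with `b ∈ {0, 1}` and `psi z + psi y ≠ 0`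
  obtain ⟨b, hb⟩ : ∃ b : F, psi J z + (1 * 1 + δ * b * b) * psi J e' ≠ 0 := by
    by_cases h : psi J z + psi J e' = 0
    · refine ⟨1, ?_⟩
      intro h'
      have : δ * psi J e' = 0 := by linear_combination h' - h
      rcases mul_eq_zero.mp this with h0 | h0
      · exact C.delta_ne h0
      · exact he' h0
    · refine ⟨0, ?_⟩
      simpa using h
  obtain ⟨y, hy⟩ : ∃ y : V m F, y = (1 : F) • e' + b • (J *ᵥ e') := ⟨_, rfl⟩
  have hzJy : sympForm m F z (J *ᵥ y) = 0 := by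
    rw [hy, Matrix.mulVec_add, Matrix.mulVec_smul, Matrix.mulVec_smul, gpJJ C,
      sympForm_add_right, sympForm_smul_right, sympForm_smul_right, sympForm_smul_right, h1, h2]
    ring
  have hzy : sympForm m F z y = 0 := by
    rw [hy, sympForm_add_right, sympForm_smul_right, sympForm_smul_right, h1, h2]
    ring
  have hpsi : psi J (z + y) ≠ 0 := by
    have := gpPsiAdd C z y 1
    rw [one_smul] at this
    rw [this, hzJy, hy, C.psi_comb]
    simpa using hb
  -- `e'' = z + y ∈ X`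
  have he''X : z + y ∈ transvCenters M := by
    apply gpStepB hTor C hM hT hz hzX hpsi
    rintro ⟨-, h4⟩
    rw [Matrix.mulVec_add, sympForm_add_right, hzJy, add_zero] at h4
    exact hz h4
  apply gpStepB hTor C hM hT hpsi he''X he'
  rintro ⟨-, h4⟩
  rw [sympForm_add_left, h2, zero_add, hy, sympForm_add_left, sympForm_smul_left,
    sympForm_smul_left, C.formJJ, sympForm_self] at h4
  apply he'
  show sympForm m F e' (J *ᵥ e') = 0
  linear_combination h4

end

/-- GS-PROP. -/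
theorem gsProp (hTor : StTor.{u}) (hGood : StGood.{u}) : StProp.{u} := by
  intro m F _ J δ C hm M hM hT z hz hzX v
  have good : ∀ e' : V m F, psi J e' ≠ 0 → e' ∈ transvCenters M := by
    intro e' he'
    by_cases h : sympForm m F z e' = 0 ∧ sympForm m F z (J *ᵥ e') = 0
    · exact gpStepC hTor C hM hT hz hzX he' h.1 h.2
    · exact gpStepB hTor C hM hT hz hzX he' h
  by_cases hv : psi J v = 0
  · by_cases hv0 : v = 0
    · subst hv0
      have := transvCenters_smul hzX 0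
      rwa [zero_smul] at this
    · obtain ⟨x, hx⟩ := H17.sympForm_exists_ne m v hv0
      obtain ⟨y₁, y₂, hy₁, hy₂, -, -, -, -, rfl⟩ := hGood J δ C hm 0 x (sympForm_zero_right _)
        (by rw [Matrix.mulVec_zero]; exact sympForm_zero_right _)
      obtain ⟨e₀, he₀, hve₀⟩ : ∃ e₀, psi J e₀ ≠ 0 ∧ sympForm m F v e₀ ≠ 0 := by
        by_cases h1 : sympForm m F v y₁ = 0
        · refine ⟨y₂, hy₂, ?_⟩
          rw [sympForm_add_right, h1, zero_add] at hx
          exact hx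
        · exact ⟨y₁, hy₁, h1⟩
      have hp := gpPsiAdd C v e₀ 1
      have hq := gpPsiAdd C v e₀ (-1)
      rw [hv] at hp hq
      by_cases hs : psi J (v + (1 : F) • e₀) = 0
      · have hq0 : psi J (v + (-1 : F) • e₀) ≠ 0 := by
          intro h0
          rw [h0] at hq
          rw [hs] at hp
          have : (2 : F) * psi J e₀ = 0 := by linear_combination -hp - hq
          rcases mul_eq_zero.mp this with h2 | h2
          · exact C.two h2
          · exact he₀ h2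
        have hw := good _ hq0
        have hu := good _ he₀
        have hne : sympForm m F (v + (-1 : F) • e₀) e₀ ≠ 0 := by
          rw [sympForm_add_left, sympForm_smul_left, sympForm_self, mul_zero, add_zero]
          exact hve₀
        have h3 := gpHl hw hu hne 1 1
        have e : (1 : F) • (v + (-1 : F) • e₀) + (1 : F) • e₀ = v := by module
        rwa [e] at h3
      · have hw := good _ hs
        have hu := good _ he₀
        have hne : sympForm m F (v + (1 : F) • e₀) e₀ ≠ 0 := by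
          rw [sympForm_add_left, sympForm_smul_left, sympForm_self, mul_zero, add_zero]
          exact hve₀
        have h3 := gpHl hw hu hne 1 (-1)
        have e : (1 : F) • (v + (1 : F) • e₀) + (-1 : F) • e₀ = v := by module
        rwa [e] at h3
  · exact good v hv

example (hTor : Cfsg.Agent.H86.Gs.StTor.{u}) (hGood : Cfsg.Agent.H86.Gs.StGood.{u}) :
    Cfsg.Agent.H86.Gs.StProp.{u} := gsProp hTor hGood

end Cfsg.Agent.H14.Gs

#print axioms Cfsg.Agent.H14.Gs.gsProp
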