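import Mathlib
import Cfsg.Agent.H76.NCZDefs

/-!
# S1353 team project (helper76): piece NCZ-FREEABS (helper14)

The abstract freeness count: a finite abelian group `M`, a finite group `D` acting on it, an
endomorphism `β` whose conjugates `x_d = ρ_d β ρ_d⁻¹` commute pairwise and differ injectively;
then `|M| = |M^D| ^ |D|`.

The Vandermonde argument is done with Horner evaluation of coefficient lists (`hEval`) and
synthetic division (`hQuot`), by induction on the list of evaluation points.
-/

set_option autoImplicit false

namespace Cfsg.Agent.H14.NCKill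

universe u

section horner

variable {M : Type u} [AddCommGroup M]

/-- Horner evaluation of the "polynomial" with coefficient list `L` at the endomorphism `z`. -/
def hEval (z : AddMonoid.End M) : List M → M
  | [] => 0
  | a :: L => a + z (hEval z L)

/-- synthetic division by `X - y` -/
def hQuot (y : AddMonoid.End M) : List M → List M
  | [] => []
  | [_] => []
  | _ :: b :: L => hEval y (b :: L) :: hQuot y (b :: L)

theorem hEval_nil (z : AddMonoid.End M) : hEval z ([] : List M) = 0 := rfl

theorem hEval_cons (z : AddMonoid.End M) (a : M) (L : List M) :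
    hEval z (a :: L) = a + z (hEval z L) := rfl

theorem hQuot_cons_cons (y : AddMonoid.End M) (a b : M) (L : List M) :
    hQuot y (a :: b :: L) = hEval y (b :: L) :: hQuot y (b :: L) := rfl

theorem hQuot_length (y : AddMonoid.End M) : ∀ L : List M, (hQuot y L).length = L.length - 1
  | [] => rfl
  | [_] => rfl
  | a :: b :: L => by
      rw [hQuot_cons_cons, List.length_cons, hQuot_length y (b :: L)]
      simp

theorem hEval_sub_hEval (y z : AddMonoid.End M) (hc : Commute y z) :
    ∀ L : List M, hEval z L - hEval y L = (z - y) (hEval z (hQuot y L))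
  | [] => by
      show (0 : M) - 0 = (z - y) 0
      rw [map_zero, sub_zero]
  | [a] => by
      show (a + z 0) - (a + y 0) = (z - y) 0
      rw [map_zero, map_zero, map_zero, sub_self]
  | a :: b :: L => by
      have ih := hEval_sub_hEval y z hc (b :: L)
      rw [hQuot_cons_cons, hEval_cons, hEval_cons z (hEval y (b :: L)), hEval_cons y a]
      have hcz : (z - y) * z = z * (z - y) := ((Commute.refl z).sub_left hc).eq
      have h1 : (z - y) (z (hEval z (hQuot y (b :: L)))) =
          z ((z - y) (hEval z (hQuot y (b :: L)))) :=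
        DFunLike.congr_fun hcz (hEval z (hQuot y (b :: L)))
      have hzy : ∀ u : M, (z - y) u = z u - y u := fun u => rfl
      rw [map_add, h1, ← ih, map_sub, hzy]
      abel

theorem all_zero_of_hQuot (y : AddMonoid.End M) :
    ∀ L : List M, (∀ a ∈ hQuot y L, a = 0) → hEval y L = 0 → ∀ a ∈ L, a = 0
  | [], _, _ => by simp
  | [a], _, h => by
      intro c hc
      rw [List.mem_singleton] at hc
      subst hc
      have h' : c + y 0 = 0 := h
      rwa [map_zero, add_zero] at h'
  | a :: b :: L, hq, h => by
      rw [hQuot_cons_cons] at hq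
      have hq' : ∀ c ∈ hQuot y (b :: L), c = 0 := fun c hc => hq c (List.mem_cons_of_mem _ hc)
      have hQ : hEval y (b :: L) = 0 := hq _ List.mem_cons_self
      have ih := all_zero_of_hQuot y (b :: L) hq' hQ
      have ha : a = 0 := by
        rw [hEval_cons, hQ, map_zero, add_zero] at h
        exact h
      intro c hc
      rcases List.mem_cons.mp hc with rfl | hc'
      · exact ha
      · exact ih c hc'

/-- generalized Vandermonde: a coefficient list no longer than the list of (pairwise commuting,
pairwise injectively different) evaluation points at which it vanishes is zero -/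
theorem vand (xs : List (AddMonoid.End M)) :
    xs.Pairwise (fun (y z : AddMonoid.End M) => Commute y z ∧ Function.Injective (⇑(z - y))) →
    ∀ L : List M, L.length ≤ xs.length → (∀ z ∈ xs, hEval z L = 0) → ∀ a ∈ L, a = 0 := by
  induction xs with
  | nil =>
    intro _ L hL _ a ha
    have : L = [] := List.eq_nil_of_length_eq_zero (Nat.le_zero.mp hL)
    subst this
    simp at ha
  | cons y xs ih =>
    intro hp L hL hz
    rw [List.pairwise_cons] at hp
    obtain ⟨hy, hp'⟩ := hp
    have hq : ∀ a ∈ hQuot y L, a = 0 := by
      apply ih hp' (hQuot y L)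
      · rw [hQuot_length]
        rw [List.length_cons] at hL
        omega
      · intro z hzmem
        have h1 := hEval_sub_hEval y z (hy z hzmem).1 L
        rw [hz z (List.mem_cons_of_mem _ hzmem), hz y List.mem_cons_self, sub_zero] at h1
        exact (hy z hzmem).2 (by rw [← h1, map_zero])
    exact all_zero_of_hQuot y L hq (hz y List.mem_cons_self)

theorem hEval_ofFn_sub (z : AddMonoid.End M) : ∀ (n : ℕ) (w w' : Fin n → M),
    hEval z (List.ofFn (fun i => w i - w' i)) = hEval z (List.ofFn w) - hEval z (List.ofFn w')
  | 0, _, _ => by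
      simp [hEval_nil]
  | n + 1, w, w' => by
      rw [List.ofFn_succ, List.ofFn_succ, List.ofFn_succ, hEval_cons, hEval_cons, hEval_cons,
        hEval_ofFn_sub z n (fun i => w i.succ) (fun i => w' i.succ), map_sub]
      abel

theorem hEval_fixed {D : Type u} [Group D] (ρ : D →* AddMonoid.End M) (β : AddMonoid.End M)
    (d : D) : ∀ L : List M, (∀ a ∈ L, ρ d a = a) →
      hEval (ρ d * β * ρ d⁻¹) L = ρ d (hEval β L)
  | [], _ => by
      rw [hEval_nil, hEval_nil, map_zero]
  | a :: L, h => by
      have ih := hEval_fixed ρ β d L (fun c hc => h c (List.mem_cons_of_mem _ hc))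
      rw [hEval_cons, hEval_cons, ih, map_add, h a List.mem_cons_self]
      congr 1
      have h1 : ρ d⁻¹ * ρ d = 1 := by rw [← map_mul, inv_mul_cancel, map_one]
      have e : (ρ d * β * ρ d⁻¹) * ρ d = ρ d * β := by rw [mul_assoc, h1, mul_one]
      exact DFunLike.congr_fun e (hEval β L)

theorem hEval_map {D : Type u} [Group D] (ρ : D →* AddMonoid.End M) (β : AddMonoid.End M)
    (d d' : D) : ∀ L : List M, hEval (ρ d * β * ρ d⁻¹) (L.map (ρ d')) =
      ρ d' (hEval (ρ (d'⁻¹ * d) * β * ρ (d'⁻¹ * d)⁻¹) L)
  | [] => by
      rw [List.map_nil, hEval_nil, hEval_nil, map_zero]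
  | a :: L => by
      rw [List.map_cons, hEval_cons, hEval_cons, hEval_map ρ β d d' L, map_add]
      congr 1
      have e : (ρ d * β * ρ d⁻¹) * ρ d' =
          ρ d' * (ρ (d'⁻¹ * d) * β * ρ (d'⁻¹ * d)⁻¹) := by
        have h1 : ρ d' * ρ (d'⁻¹ * d) = ρ d := by rw [← map_mul, mul_inv_cancel_left]
        have h2 : ρ (d'⁻¹ * d)⁻¹ = ρ d⁻¹ * ρ d' := by rw [← map_mul, mul_inv_rev, inv_inv]
        rw [h2, ← mul_assoc, ← mul_assoc, ← mul_assoc, h1]
      exact DFunLike.congr_fun e _

end horner

theorem freeAbs : Cfsg.Agent.H76.NCKill.StFreeAbs.{u} := by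
  intro M _ _ D _ _ ρ β hc hf
  classical
  let n := Nat.card D
  let e : Fin n ≃ D := (Finite.equivFin D).symm
  let x : D → AddMonoid.End M := fun d => ρ d * β * ρ d⁻¹
  let xs : List (AddMonoid.End M) := List.ofFn (fun k : Fin n => x (e k))
  have hxs : xs.Pairwise (fun (y z : AddMonoid.End M) => Commute y z ∧ Function.Injective (⇑(z - y))) := by
    rw [List.pairwise_ofFn]
    intro i j hij
    refine ⟨hc _ _, ?_⟩
    rw [injective_iff_map_eq_zero]
    intro v hv
    have hne : e j ≠ e i := fun h => (ne_of_gt hij) (e.injective h)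
    apply hf (e j) (e i) hne v
    have hv' : x (e j) v - x (e i) v = 0 := hv
    exact sub_eq_zero.mp hv'
  let Φ : (Fin n → M) → (D → M) := fun w d => hEval (x d) (List.ofFn w)
  have hΦinj : Function.Injective Φ := by
    intro w w' h
    have h0 : ∀ a ∈ List.ofFn (fun i => w i - w' i), a = 0 := by
      apply vand xs hxs
      · simp [xs]
      · intro z hz
        obtain ⟨k, rfl⟩ := (List.mem_ofFn' _ _).mp hz
        rw [hEval_ofFn_sub]
        exact sub_eq_zero.mpr (congrFun h (e k))
    funext i
    have := h0 (w i - w' i) ((List.mem_ofFn' _ _).mpr ⟨i, rfl⟩)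
    exact sub_eq_zero.mp this
  have hΦbij : Function.Bijective Φ := by
    apply hΦinj.bijective_of_nat_card_le
    rw [Nat.card_fun, Nat.card_fun, Nat.card_fin]
  let θ : (Fin n → {v : M // ∀ d : D, ρ d v = v}) → M :=
    fun w => hEval β (List.ofFn (fun i => (w i).1))
  have hΦθ : ∀ (w : Fin n → {v : M // ∀ d : D, ρ d v = v}) (d : D),
      Φ (fun i => (w i).1) d = ρ d (θ w) := by
    intro w d
    apply hEval_fixed
    intro a ha
    obtain ⟨i, rfl⟩ := (List.mem_ofFn' _ _).mp ha
    exact (w i).2 d
  have hθbij : Function.Bijective θ := by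
    constructor
    · intro w w' h
      have : (fun i => (w i).1) = (fun i => (w' i).1) := by
        apply hΦinj
        funext d
        rw [hΦθ, hΦθ, h]
      funext i
      exact Subtype.ext (congrFun this i)
    · intro v
      obtain ⟨w, hw⟩ := hΦbij.2 (fun d => ρ d v)
      have hfix : ∀ (d' : D) (i : Fin n), ρ d' (w i) = w i := by
        intro d' i
        have : (fun i => ρ d' (w i)) = w := by
          apply hΦinj
          funext d
          show hEval (x d) (List.ofFn (fun i => ρ d' (w i))) = Φ w d
          have e1 : List.ofFn (fun i => ρ d' (w i)) = (List.ofFn w).map (ρ d') := by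
            rw [List.map_ofFn]
            rfl
          rw [e1, hEval_map]
          have h3 := congrFun hw (d'⁻¹ * d)
          have h4 := congrFun hw d
          show ρ d' (Φ w (d'⁻¹ * d)) = Φ w d
          rw [h3, h4]
          have h5 : ρ d' * ρ (d'⁻¹ * d) = ρ d := by rw [← map_mul, mul_inv_cancel_left]
          exact DFunLike.congr_fun h5 v
        exact congrFun this i
      refine ⟨fun i => ⟨w i, fun d => hfix d i⟩, ?_⟩
      have h1 := hΦθ (fun i => ⟨w i, fun d => hfix d i⟩) 1
      have h2 := congrFun hw 1
      rw [map_one] at h1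
      have h2' : Φ w 1 = v := by
        rw [h2, map_one]
        rfl
      exact (h1.symm.trans h2')
  rw [← Nat.card_congr (Equiv.ofBijective θ hθbij), Nat.card_fun, Nat.card_fin]

example : Cfsg.Agent.H76.NCKill.StFreeAbs.{u} := freeAbs

end Cfsg.Agent.H14.NCKill
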