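import Mathlib
import Cfsg.Agent.H76.NCZDefs

/-!
# S1353 team project (helper76): piece NCZ-FREEGRP (helper14)

The group form of the freeness count, from the abstract form `StFreeAbs`:
`V` abelian, `b` and `D` normalize `V`, `D` normalizes `⟨b⟩` and acts faithfully on it, the
non-identity elements of `⟨b⟩` have no fixed points on `V`; then `|V| = |C_V(D)| ^ |D|`.
-/

set_option autoImplicit false

namespace Cfsg.Agent.H14.NCKill

open Subgroup

universe u

theorem freeGrp {G : Type u} [Group G] [Finite G] (h : Cfsg.Agent.H76.NCKill.StFreeAbs.{u}) :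
    Cfsg.Agent.H76.NCKill.StFree G := by
  intro V D b hab hbN hDN hDb hfaith hfree
  classical
  let _ : CommGroup V :=
    { (inferInstance : Group V) with mul_comm := fun x y => Subtype.ext (hab x x.2 y y.2) }
  -- conjugation by an element of the normalizer, as an endomorphism of `Additive V`
  let A : normalizer (V : Set G) →* AddMonoid.End (Additive V) :=
    { toFun := fun g =>
        { toFun := fun v => Additive.ofMul
            ⟨(g : G) * ((Additive.toMul v : V) : G) * (g : G)⁻¹,
              (mem_normalizer_iff.mp g.2 _).mp (Additive.toMul v : V).2⟩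
          map_zero' := by
            apply Additive.toMul.injective
            apply Subtype.ext
            show (g : G) * ((1 : V) : G) * (g : G)⁻¹ = ((1 : V) : G)
            simp
          map_add' := fun v w => by
            apply Additive.toMul.injective
            apply Subtype.ext
            show (g : G) * (((Additive.toMul v : V) * (Additive.toMul w : V) : V) : G) * (g : G)⁻¹
              = ((g : G) * ((Additive.toMul v : V) : G) * (g : G)⁻¹) *
                ((g : G) * ((Additive.toMul w : V) : G) * (g : G)⁻¹)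
            rw [Subgroup.coe_mul]
            group }
      map_one' := by
        apply AddMonoidHom.ext
        intro v
        apply Additive.toMul.injective
        apply Subtype.ext
        show ((1 : normalizer (V : Set G)) : G) * ((Additive.toMul v : V) : G) *
          ((1 : normalizer (V : Set G)) : G)⁻¹ = ((Additive.toMul v : V) : G)
        simp
      map_mul' := fun g g' => by
        apply AddMonoidHom.ext
        intro v
        apply Additive.toMul.injective
        apply Subtype.ext
        show ((g * g' : normalizer (V : Set G)) : G) * ((Additive.toMul v : V) : G) *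
          ((g * g' : normalizer (V : Set G)) : G)⁻¹ =
          (g : G) * ((g' : G) * ((Additive.toMul v : V) : G) * (g' : G)⁻¹) * (g : G)⁻¹
        rw [Subgroup.coe_mul]
        group }
  have hA : ∀ (g : normalizer (V : Set G)) (v : Additive V),
      ((Additive.toMul (A g v) : V) : G) = (g : G) * ((Additive.toMul v : V) : G) * (g : G)⁻¹ :=
    fun g v => rfl
  let ρ : D →* AddMonoid.End (Additive V) := A.comp (Subgroup.inclusion hDN)
  let β : AddMonoid.End (Additive V) := A ⟨b, hbN⟩
  let gd : D → normalizer (V : Set G) := fun d =>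
    Subgroup.inclusion hDN d * ⟨b, hbN⟩ * (Subgroup.inclusion hDN d)⁻¹
  have hgd : ∀ d : D, ((gd d : normalizer (V : Set G)) : G) = (d : G) * b * (d : G)⁻¹ :=
    fun d => rfl
  have hx : ∀ d : D, ρ d * β * ρ d⁻¹ = A (gd d) := by
    intro d
    show A (Subgroup.inclusion hDN d) * A ⟨b, hbN⟩ * A (Subgroup.inclusion hDN d⁻¹) = A (gd d)
    rw [map_inv, ← map_mul, ← map_mul]
  have hgz : ∀ d : D, ((gd d : normalizer (V : Set G)) : G) ∈ zpowers b := by
    intro d
    rw [hgd]
    exact hDb d d.2
  have hc : ∀ d d' : D, (ρ d * β * ρ d⁻¹) * (ρ d' * β * ρ d'⁻¹) =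
      (ρ d' * β * ρ d'⁻¹) * (ρ d * β * ρ d⁻¹) := by
    intro d d'
    rw [hx, hx, ← map_mul, ← map_mul]
    congr 1
    apply Subtype.ext
    show ((gd d : normalizer (V : Set G)) : G) * ((gd d' : normalizer (V : Set G)) : G) =
      ((gd d' : normalizer (V : Set G)) : G) * ((gd d : normalizer (V : Set G)) : G)
    obtain ⟨k, hk⟩ := Subgroup.mem_zpowers_iff.mp (hgz d)
    obtain ⟨k', hk'⟩ := Subgroup.mem_zpowers_iff.mp (hgz d')
    rw [← hk, ← hk']
    exact zpow_mul_comm b k k'
  have hf : ∀ d d' : D, d ≠ d' → ∀ v : Additive V,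
      (ρ d * β * ρ d⁻¹) v = (ρ d' * β * ρ d'⁻¹) v → v = 0 := by
    intro d d' hne v hv
    rw [hx, hx] at hv
    have hv' : (d : G) * b * (d : G)⁻¹ * ((Additive.toMul v : V) : G) * ((d : G) * b * (d : G)⁻¹)⁻¹
        = (d' : G) * b * (d' : G)⁻¹ * ((Additive.toMul v : V) : G) *
          ((d' : G) * b * (d' : G)⁻¹)⁻¹ := by
      have := congrArg (fun u : Additive V => ((Additive.toMul u : V) : G)) hv
      simpa only [hA, hgd] using this
    set g : G := (d : G) * b * (d : G)⁻¹ with hg
    set g' : G := (d' : G) * b * (d' : G)⁻¹ with hg'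
    set w : G := ((Additive.toMul v : V) : G) with hw
    have hcomm : g'⁻¹ * g * w = w * (g'⁻¹ * g) := by
      calc g'⁻¹ * g * w = g'⁻¹ * (g * w * g⁻¹) * g := by group
        _ = g'⁻¹ * (g' * w * g'⁻¹) * g := by rw [hv']
        _ = w * (g'⁻¹ * g) := by group
    have hy : g'⁻¹ * g ∈ zpowers b := mul_mem (inv_mem (hDb d' d'.2)) (hDb d d.2)
    have hy1 : g'⁻¹ * g ≠ 1 := by
      intro h1
      have hgg : g' = g := inv_mul_eq_one.mp h1
      apply hne
      apply Subtype.ext
      have h2 : (d' : G)⁻¹ * (d : G) * b = b * ((d' : G)⁻¹ * (d : G)) := by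
        calc (d' : G)⁻¹ * (d : G) * b = (d' : G)⁻¹ * g * (d : G) := by rw [hg]; group
          _ = (d' : G)⁻¹ * g' * (d : G) := by rw [hgg]
          _ = b * ((d' : G)⁻¹ * (d : G)) := by rw [hg']; group
      have h3 := hfaith ((d' : G)⁻¹ * (d : G)) (mul_mem (inv_mem d'.2) d.2) h2
      exact (inv_mul_eq_one.mp h3).symm
    have hw1 : w = 1 := hfree _ hy hy1 w (Additive.toMul v : V).2 hcomm
    apply Additive.toMul.injective
    apply Subtype.ext
    exact hw1
  have key := h (Additive V) D ρ β hc hf
  have e1 : Nat.card (Additive V) = Nat.card V := Nat.card_congr Additive.toMul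
  have e2 : Nat.card {v : Additive V // ∀ d : D, ρ d v = v} =
      Nat.card ↥(V ⊓ centralizer (D : Set G)) := by
    apply Nat.card_congr
    exact
      { toFun := fun u => ⟨((Additive.toMul u.1 : V) : G), Subgroup.mem_inf.mpr
          ⟨(Additive.toMul u.1 : V).2, by
            rw [Subgroup.mem_centralizer_iff]
            intro d hd
            have h1 := congrArg (fun t : Additive V => ((Additive.toMul t : V) : G)) (u.2 ⟨d, hd⟩)
            have h2 : d * ((Additive.toMul u.1 : V) : G) * d⁻¹ = ((Additive.toMul u.1 : V) : G) :=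
              h1
            exact mul_inv_eq_iff_eq_mul.mp h2⟩⟩
        invFun := fun w => ⟨Additive.ofMul ⟨w.1, (Subgroup.mem_inf.mp w.2).1⟩, by
          intro d
          apply Additive.toMul.injective
          apply Subtype.ext
          show (d : G) * (w : G) * (d : G)⁻¹ = (w : G)
          have h1 := Subgroup.mem_centralizer_iff.mp (Subgroup.mem_inf.mp w.2).2 d d.2
          rw [h1, mul_inv_cancel_right]⟩
        left_inv := fun u => rfl
        right_inv := fun w => rfl }
  rw [← e1, key, e2]

example {G : Type u} [Group G] [Finite G] (h : Cfsg.Agent.H76.NCKill.StFreeAbs.{u}) :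
    Cfsg.Agent.H76.NCKill.StFree G := freeGrp h

end Cfsg.Agent.H14.NCKill
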