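import Cfsg.Agent.H80.PSolvable
import Cfsg.Agent.H14.Cores

set_option autoImplicit false
open Cfsg

namespace Cfsg.Agent.H14

theorem ups_succ_of_even (p : ℕ) (G : Type*) [Group G] (n : ℕ) (hn : Even n) :
    (upperPSeries p G (n + 1)).1 =
      (pPrimeCore p (G ⧸ (upperPSeries p G n).1)).comap (QuotientGroup.mk' _) := by
  rw [upperPSeries]
  simp only [if_pos hn]

theorem ups_succ_of_not_even (p : ℕ) (G : Type*) [Group G] (n : ℕ) (hn : ¬ Even n) :
    (upperPSeries p G (n + 1)).1 =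
      (pCore p (G ⧸ (upperPSeries p G n).1)).comap (QuotientGroup.mk' _) := by
  rw [upperPSeries]
  simp only [if_neg hn]

theorem le_comap_mk' {G : Type*} [Group G] (M : Subgroup G) [M.Normal] (R : Subgroup (G ⧸ M)) :
    M ≤ R.comap (QuotientGroup.mk' M) := by
  intro m hm
  rw [Subgroup.mem_comap]
  have : (QuotientGroup.mk' M) m = 1 := (QuotientGroup.eq_one_iff m).mpr hm
  rw [this]; exact one_mem _

/-- `O_{p'}(G/N) = 1` for `N` the preimage of `O_{p'}(G/M)`. -/
theorem pPrimeCore_quotient_eq_bot_of_comap {G : Type*} [Group G] [Finite G] (p : ℕ)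
    (M N : Subgroup G) [M.Normal] [N.Normal]
    (hN : N = (pPrimeCore p (G ⧸ M)).comap (QuotientGroup.mk' M)) :
    pPrimeCore p (G ⧸ N) = ⊥ := by
  have hMN : M ≤ N := by rw [hN]; exact le_comap_mk' M _
  have hNT' : N ≤ (pPrimeCore p (G ⧸ N)).comap (QuotientGroup.mk' N) := le_comap_mk' N _
  have hcardN : Nat.card N = Nat.card M * Nat.card (pPrimeCore p (G ⧸ M)) := by
    rw [hN]; exact H80.card_comap_mk' M _
  have hcardT' := H80.card_comap_mk' N (pPrimeCore p (G ⧸ N))
  have hT''n : (((pPrimeCore p (G ⧸ N)).comap (QuotientGroup.mk' N)).map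
      (QuotientGroup.mk' M)).Normal :=
    Subgroup.Normal.map inferInstance _ (QuotientGroup.mk'_surjective M)
  have hcomap : (((pPrimeCore p (G ⧸ N)).comap (QuotientGroup.mk' N)).map
      (QuotientGroup.mk' M)).comap (QuotientGroup.mk' M) =
      (pPrimeCore p (G ⧸ N)).comap (QuotientGroup.mk' N) := by
    rw [Subgroup.comap_map_eq, QuotientGroup.ker_mk']
    exact sup_eq_left.mpr (hMN.trans hNT')
  have hcardT'' := H80.card_comap_mk' M (((pPrimeCore p (G ⧸ N)).comap (QuotientGroup.mk' N)).map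
      (QuotientGroup.mk' M))
  rw [hcomap] at hcardT''
  have h1 : Nat.card (((pPrimeCore p (G ⧸ N)).comap (QuotientGroup.mk' N)).map
      (QuotientGroup.mk' M)) = Nat.card (pPrimeCore p (G ⧸ M)) * Nat.card (pPrimeCore p (G ⧸ N)) := by
    have hMpos : 0 < Nat.card M := Nat.card_pos
    apply Nat.eq_of_mul_eq_mul_left hMpos
    rw [← hcardT'', hcardT', hcardN, mul_assoc]
  have hcop : (Nat.card (((pPrimeCore p (G ⧸ N)).comap (QuotientGroup.mk' N)).map
      (QuotientGroup.mk' M))).Coprime p := by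
    rw [h1]; exact Nat.Coprime.mul_left (pPrimeCore_coprime p _) (pPrimeCore_coprime p _)
  have h2 := le_pPrimeCore hT''n hcop
  have h3 : (pPrimeCore p (G ⧸ N)).comap (QuotientGroup.mk' N) ≤ N := by
    rw [← hcomap]
    exact (Subgroup.comap_mono h2).trans (le_of_eq hN.symm)
  have h4 : pPrimeCore p (G ⧸ N) =
      ((pPrimeCore p (G ⧸ N)).comap (QuotientGroup.mk' N)).map (QuotientGroup.mk' N) :=
    (Subgroup.map_comap_eq_self_of_surjective (QuotientGroup.mk'_surjective N) _).symm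
  rw [h4, eq_bot_iff]
  calc ((pPrimeCore p (G ⧸ N)).comap (QuotientGroup.mk' N)).map (QuotientGroup.mk' N)
      ≤ N.map (QuotientGroup.mk' N) := Subgroup.map_mono h3
    _ = ⊥ := QuotientGroup.map_mk'_self N

/-- Hall–Higman 1.2.3 in the quotient by the preimage `N` of `O_{p'}(G/M)`. -/
theorem centralizer_pCore_quotient_le {G : Type*} [Group G] [Finite G] (p : ℕ) [Fact p.Prime]
    (hsol : IsPSolvable p G) (M N : Subgroup G) [M.Normal] [N.Normal]
    (hN : N = (pPrimeCore p (G ⧸ M)).comap (QuotientGroup.mk' M)) :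
    Subgroup.centralizer ((pCore p (G ⧸ N) : Subgroup (G ⧸ N)) : Set (G ⧸ N)) ≤ pCore p (G ⧸ N) :=
  H80.centralizer_pCore_le p (H80.isPSolvable_quotient p N hsol)
    (pPrimeCore_quotient_eq_bot_of_comap p M N hN)

end Cfsg.Agent.H14
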