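import Cfsg.Agent.H14.PSeries
import Cfsg.Agent.H14.Constrained

set_option autoImplicit false
open Cfsg

namespace Cfsg.Agent.H14

/-- Surjective images of `p`-solvable groups are `p`-solvable. -/
theorem isPSolvable_of_surjective {G G' : Type*} [Group G] [Group G'] (p : ℕ) [Fact p.Prime]
    (f : G →* G') (hf : Function.Surjective f) (h : IsPSolvable p G) : IsPSolvable p G' := by
  have hp : p.Prime := Fact.out
  obtain ⟨n, Hs, h0, hlast, hmono, hnorm, hfac⟩ := h
  refine ⟨n, fun i => (Hs i).map f, ?_, ?_, ?_, ?_, ?_⟩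
  · simp [h0]
  · simp only [hlast]
    exact Subgroup.map_top_of_surjective _ hf
  · intro i j hij
    exact Subgroup.map_mono (hmono hij)
  · intro i
    exact (hnorm i).map _ hf
  · intro i
    have hle : Hs i.castSucc ≤ Hs i.succ := hmono (Fin.castSucc_lt_succ).le
    haveI := hnorm i.castSucc
    have hdvd : ((Hs i.castSucc).map f).relIndex ((Hs i.succ).map f) ∣
        (Hs i.castSucc).relIndex (Hs i.succ) := by
      rw [Subgroup.relIndex_map_map]
      have e : Hs i.succ ⊔ f.ker = Hs i.succ ⊔ (Hs i.castSucc ⊔ f.ker) := by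
        rw [← sup_assoc, sup_eq_left.mpr hle]
      rw [e, Subgroup.relIndex_sup_right]
      exact Subgroup.relIndex_dvd_of_le_left _ le_sup_left
    rcases hfac i with ⟨m, hm⟩ | hcop
    · left
      rw [hm] at hdvd
      obtain ⟨j, _, hj⟩ := (Nat.dvd_prime_pow hp).mp hdvd
      exact ⟨j, hj⟩
    · right
      exact Nat.Coprime.coprime_dvd_left hdvd hcop

theorem pPrimeCore_map_equiv_le {G H : Type*} [Group G] [Group H] (p : ℕ) (e : G ≃* H) :
    (Cfsg.pPrimeCore p G).map e.toMonoidHom ≤ Cfsg.pPrimeCore p H := by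
  unfold Cfsg.pPrimeCore
  rw [Subgroup.map_le_iff_le_comap]
  apply sSup_le
  rintro N ⟨hN1, hN2⟩
  rw [← Subgroup.map_le_iff_le_comap]
  apply le_sSup
  refine ⟨Subgroup.Normal.map hN1 _ e.surjective, ?_⟩
  rw [Subgroup.card_map_of_injective e.injective]
  exact hN2

/-- `O_{p'}(N)` is normal in `X` for `N` normal in `X`. -/
theorem pPrimeCore_subgroup_normal {X : Type*} [Group X] (p : ℕ) (N : Subgroup X) [N.Normal] :
    ((Cfsg.pPrimeCore p ↥N).map N.subtype).Normal := by
  constructor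
  rintro _ ⟨t, ht, rfl⟩ g
  have h1 := pPrimeCore_map_equiv_le p (MulAut.conjNormal g : ↥N ≃* ↥N) ⟨t, ht, rfl⟩
  refine ⟨(MulAut.conjNormal g) t, h1, ?_⟩
  simp [MulAut.conjNormal_apply]

/-- `O_p(N)` is normal in `X` for `N` normal in `X`. -/
theorem pCore_subgroup_normal {X : Type*} [Group X] (p : ℕ) (N : Subgroup X) [N.Normal] :
    ((Cfsg.pCore p ↥N).map N.subtype).Normal := by
  constructor
  rintro _ ⟨t, ht, rfl⟩ g
  have h1 := pCore_map_equiv_le p (MulAut.conjNormal g : ↥N ≃* ↥N) ⟨t, ht, rfl⟩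
  refine ⟨(MulAut.conjNormal g) t, h1, ?_⟩
  simp [MulAut.conjNormal_apply]

/-- A normal `p`-solvable subgroup centralizing `O_p(X)` lies in `O_p(X)` when `O_{p'}(X) = 1`. -/
theorem le_pCore_of_isPSolvable_of_le_centralizer {X : Type*} [Group X] [Finite X] (p : ℕ)
    [Fact p.Prime] (hcore : Cfsg.pPrimeCore p X = ⊥) (C : Subgroup X) [C.Normal]
    (hCc : C ≤ Subgroup.centralizer (Cfsg.pCore p X : Set X))
    (hsol : IsPSolvable p ↥C) : C ≤ Cfsg.pCore p X := by
  have h1 : Cfsg.pPrimeCore p ↥C = ⊥ := by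
    have hn := pPrimeCore_subgroup_normal p C
    have hc : (Nat.card ((Cfsg.pPrimeCore p ↥C).map C.subtype)).Coprime p := by
      rw [Subgroup.card_map_of_injective C.subtype_injective]
      exact pPrimeCore_coprime p _
    have h2 := le_pPrimeCore hn hc
    rw [hcore, le_bot_iff] at h2
    exact (Subgroup.map_eq_bot_iff_of_injective _ C.subtype_injective).mp h2
  have h3 : (Cfsg.pCore p ↥C).map C.subtype ≤ Cfsg.pCore p X :=
    le_pCore (pCore_subgroup_normal p C) ((pCore_isPGroup p _).map _)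
  have hHH := H80.centralizer_pCore_le p hsol h1
  intro x hx
  have h4 : (⟨x, hx⟩ : ↥C) ∈ Subgroup.centralizer ((Cfsg.pCore p ↥C : Subgroup ↥C) : Set ↥C) := by
    rw [Subgroup.mem_centralizer_iff]
    intro y hy
    have hy' : (y : X) ∈ Cfsg.pCore p X := h3 ⟨y, hy, rfl⟩
    have hx' := hCc hx
    rw [Subgroup.mem_centralizer_iff] at hx'
    apply Subtype.ext
    exact hx' y hy'
  exact h3 ⟨⟨x, hx⟩, hHH h4, rfl⟩

/-- If the centralizer of a Sylow `p`-subgroup of `O_{p',p}(G)` is `p`-solvable then `G` is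
`p`-constrained. -/
theorem isPConstrained_of_centralizer_isPSolvable {G : Type*} [Group G] [Finite G] {p : ℕ}
    [Fact p.Prime] (P : Sylow p ↥(Cfsg.pPrimePCore p G))
    (hsol : Cfsg.IsPSolvable p ↥(Subgroup.centralizer
      (((P : Subgroup ↥(Cfsg.pPrimePCore p G)).map (Cfsg.pPrimePCore p G).subtype : Subgroup G) :
        Set G))) :
    Cfsg.IsPConstrained p G := by
  rw [isPConstrained_iff_quotient,
    isPConstrained_iff_of_pPrimeCore_eq_bot (pPrimeCore_quotient_eq_bot p G)]
  have hQ : IsPGroup p ↥((P : Subgroup ↥(Cfsg.pPrimePCore p G)).map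
      (Cfsg.pPrimePCore p G).subtype) := P.2.map _
  have hmap := sylow_pPrimePCore_map_mk P
  have hCeq : (Subgroup.centralizer
      (((P : Subgroup ↥(Cfsg.pPrimePCore p G)).map (Cfsg.pPrimePCore p G).subtype : Subgroup G) :
        Set G)).map (QuotientGroup.mk' (Cfsg.pPrimeCore p G)) =
      Subgroup.centralizer (Cfsg.pCore p (G ⧸ Cfsg.pPrimeCore p G) : Set (G ⧸ Cfsg.pPrimeCore p G)) := by
    apply le_antisymm
    · rintro _ ⟨c, hc, rfl⟩
      rw [← hmap, Subgroup.mem_centralizer_iff]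
      rintro _ ⟨y, hy, rfl⟩
      rw [SetLike.mem_coe, Subgroup.mem_centralizer_iff] at hc
      rw [← map_mul, ← map_mul, hc y hy]
    · intro x hx
      obtain ⟨g, rfl⟩ := QuotientGroup.mk'_surjective _ x
      rw [← hmap] at hx
      obtain ⟨c, hc, hcg⟩ := exists_mem_centralizer_of_mk_mem_centralizer hQ
        (pPrimeCore_coprime p G) g hx
      exact ⟨c, hc, hcg⟩
  have hsol' : Cfsg.IsPSolvable p ↥(Subgroup.centralizer
      (Cfsg.pCore p (G ⧸ Cfsg.pPrimeCore p G) : Set (G ⧸ Cfsg.pPrimeCore p G))) := by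
    rw [← hCeq]
    exact isPSolvable_of_surjective p _ (MonoidHom.subgroupMap_surjective _ _) hsol
  exact le_pCore_of_isPSolvable_of_le_centralizer p (pPrimeCore_quotient_eq_bot p G) _ le_rfl hsol'

end Cfsg.Agent.H14
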