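import Mathlib

set_option autoImplicit false

namespace Cfsg.Agent.H14.Suz

universe u

/-- regularity of a group of automorphisms on the involutions -/
def Reg {P : Type*} [Group P] (K : Subgroup (MulAut P)) : Prop :=
  ∀ x y : P, x ≠ 1 → x * x = 1 → y ≠ 1 → y * y = 1 → ∃! k : K, (k : MulAut P) x = y

/-- finite 2-group with at least two involutions and a cyclic group of automorphisms regular on
the involutions -/
def IsPair (P : Type*) [Group P] : Prop :=
  Finite P ∧ IsPGroup 2 P ∧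
    (∃ x y : P, x ≠ y ∧ x ≠ 1 ∧ x * x = 1 ∧ y ≠ 1 ∧ y * y = 1) ∧
    ∃ K : Subgroup (MulAut P), IsCyclic K ∧ Reg K

theorem exists_pow_invol {P : Type*} [Group P] (h2 : IsPGroup 2 P) (x : P) (hx : x ≠ 1) :
    ∃ n : ℕ, x ^ n ≠ 1 ∧ x ^ n * x ^ n = 1 := by
  obtain ⟨k, hk⟩ := h2 x
  induction k generalizing x with
  | zero => simp at hk; exact absurd hk hx
  | succ k ih =>
    by_cases h : x * x = 1
    · exact ⟨1, by simpa using hx, by simpa using h⟩
    · have : (x * x) ^ 2 ^ k = 1 := by rw [← pow_two, ← pow_mul, ← pow_succ']; exact hk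
      obtain ⟨n, hn1, hn2⟩ := ih (x * x) h this
      refine ⟨2 * n, ?_, ?_⟩
      · rw [pow_mul, pow_two]; exact hn1
      · rw [pow_mul, pow_two]; exact hn2

theorem exists_central_invol {P : Type*} [Group P] [Finite P] [Nontrivial P] (h2 : IsPGroup 2 P) :
    ∃ z ∈ Subgroup.center P, z ≠ 1 ∧ z * z = 1 := by
  haveI : Fact (Nat.Prime 2) := ⟨Nat.prime_two⟩
  haveI := h2.center_nontrivial
  obtain ⟨⟨z, hz⟩, hz1⟩ := exists_ne (1 : Subgroup.center P)
  have hz1' : z ≠ 1 := fun h => hz1 (Subtype.ext h)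
  obtain ⟨n, hn1, hn2⟩ := exists_pow_invol h2 z hz1'
  exact ⟨z ^ n, pow_mem hz n, hn1, hn2⟩

theorem aut_mem_center {P : Type*} [Group P] (k : MulAut P) {z : P} (hz : z ∈ Subgroup.center P) :
    k z ∈ Subgroup.center P := by
  rw [Subgroup.mem_center_iff] at hz ⊢
  intro g
  have h := congrArg k (hz (k⁻¹ g))
  simpa using h

theorem aut_mem_center_iff {P : Type*} [Group P] (k : MulAut P) {z : P} :
    k z ∈ Subgroup.center P ↔ z ∈ Subgroup.center P := by
  refine ⟨fun h => ?_, aut_mem_center k⟩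
  have := aut_mem_center k⁻¹ h
  simpa using this

section basic

variable {P : Type*} [Group P] [Finite P] (h2 : IsPGroup 2 P) (K : Subgroup (MulAut P))
  (hreg : Reg K)

include h2 hreg

theorem invol_central (x : P) (hx : x ≠ 1) (hx2 : x * x = 1) : x ∈ Subgroup.center P := by
  haveI : Nontrivial P := ⟨⟨x, 1, hx⟩⟩
  obtain ⟨z, hz, hz1, hz2⟩ := exists_central_invol h2
  obtain ⟨k, hk, -⟩ := hreg z x hz1 hz2 hx hx2
  rw [← hk]
  exact aut_mem_center _ hz

theorem fpf (k : K) (x : P) (hx : x ≠ 1) (hk : (k : MulAut P) x = x) : k = 1 := by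
  obtain ⟨n, hn1, hn2⟩ := exists_pow_invol h2 x hx
  obtain ⟨k0, -, hu⟩ := hreg (x ^ n) (x ^ n) hn1 hn2 hn1 hn2
  have h1 : k = k0 := hu k (by show (k : MulAut P) (x ^ n) = x ^ n; rw [map_pow, hk])
  have h2 : (1 : K) = k0 := hu 1 (by simp)
  rw [h1, ← h2]

end basic

/-- the central elements of order at most two -/
def Om (P : Type*) [Group P] : Subgroup P where
  carrier := {x | x ∈ Subgroup.center P ∧ x * x = 1}
  mul_mem' := by
    rintro x y ⟨hx, hx2⟩ ⟨hy, hy2⟩
    refine ⟨mul_mem hx hy, ?_⟩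
    rw [Subgroup.mem_center_iff] at hx
    calc x * y * (x * y) = x * (y * x) * y := by group
      _ = x * (x * y) * y := by rw [hx y]
      _ = (x * x) * (y * y) := by group
      _ = 1 := by rw [hx2, hy2, one_mul]
  one_mem' := ⟨one_mem _, one_mul 1⟩
  inv_mem' := by
    rintro x ⟨hx, hx2⟩
    refine ⟨inv_mem hx, ?_⟩
    rw [← mul_inv_rev, hx2, inv_one]

theorem mem_Om {P : Type*} [Group P] {x : P} :
    x ∈ Om P ↔ x ∈ Subgroup.center P ∧ x * x = 1 := Iff.rfl

theorem Om_le_center (P : Type*) [Group P] : Om P ≤ Subgroup.center P := fun _ hx => hx.1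

instance Om_normal (P : Type*) [Group P] : (Om P).Normal := by
  constructor
  intro x hx g
  have h := hx.1
  rw [Subgroup.mem_center_iff] at h
  have : g * x * g⁻¹ = x := by rw [h g, mul_assoc, mul_inv_cancel, mul_one]
  rw [this]; exact hx

theorem aut_mem_Om {P : Type*} [Group P] (k : MulAut P) {x : P} (hx : x ∈ Om P) : k x ∈ Om P :=
  ⟨aut_mem_center k hx.1, by rw [← map_mul, hx.2, map_one]⟩

theorem Om_map {P : Type*} [Group P] (k : MulAut P) : (Om P).map k.toMonoidHom = Om P := by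
  ext x
  constructor
  · rintro ⟨y, hy, rfl⟩
    exact aut_mem_Om k hy
  · intro hx
    refine ⟨k⁻¹ x, aut_mem_Om k⁻¹ hx, ?_⟩
    simp

/-- the automorphism induced on the quotient by `Om` -/
noncomputable def quotAut {P : Type*} [Group P] (k : MulAut P) : MulAut (P ⧸ Om P) :=
  QuotientGroup.congr (Om P) (Om P) k (Om_map k)

@[simp] theorem quotAut_mk {P : Type*} [Group P] (k : MulAut P) (x : P) :
    quotAut k (QuotientGroup.mk x : P ⧸ Om P) = QuotientGroup.mk (k x) := rfl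

/-- the action on the quotient as a homomorphism -/
noncomputable def quotHom (P : Type*) [Group P] : MulAut P →* MulAut (P ⧸ Om P) where
  toFun := quotAut
  map_one' := by
    ext x
    induction x using QuotientGroup.induction_on
    simp
  map_mul' := by
    intro a b
    ext x
    induction x using QuotientGroup.induction_on
    simp

theorem transfer {P P₂ : Type*} [Group P] [Group P₂] (K : Subgroup (MulAut P)) [IsCyclic K]
    (hreg : Reg K) (ρ : K →* MulAut P₂) (J : P₂ → P)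
    (hJ : ∀ x, x ≠ 1 → x * x = 1 → J x ≠ 1 ∧ J x * J x = 1)
    (hinj : ∀ x y, x ≠ 1 → x * x = 1 → y ≠ 1 → y * y = 1 → J x = J y → x = y)
    (heq : ∀ (k : K) x, x ≠ 1 → x * x = 1 → J (ρ k x) = (k : MulAut P) (J x)) :
    ∃ K₂ : Subgroup (MulAut P₂), IsCyclic K₂ ∧ Reg K₂ := by
  refine ⟨ρ.range, ?_, ?_⟩
  · exact isCyclic_of_surjective ρ.rangeRestrict ρ.rangeRestrict_surjective
  · intro x y hx hx2 hy hy2
    obtain ⟨k, hk, hku⟩ := hreg (J x) (J y) (hJ x hx hx2).1 (hJ x hx hx2).2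
      (hJ y hy hy2).1 (hJ y hy hy2).2
    refine ⟨⟨ρ k, k, rfl⟩, ?_, ?_⟩
    · have hne : ρ k x ≠ 1 := by
        intro h
        apply hx
        have := congrArg (ρ k).symm h
        simpa using this
      have h2' : ρ k x * ρ k x = 1 := by rw [← map_mul, hx2, map_one]
      apply hinj _ _ hne h2' hy hy2
      rw [heq k x hx hx2, hk]
    · rintro ⟨_, k', rfl⟩ hk'
      have : k' = k := hku k' (by
        show (k' : MulAut P) (J x) = J y
        rw [← heq k' x hx hx2]; exact congrArg J hk')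
      subst this; rfl

theorem Om_comm {P : Type*} [Group P] {w : P} (hw : w ∈ Om P) (g : P) : g * w = w * g :=
  Subgroup.mem_center_iff.mp hw.1 g

theorem Om_inv {P : Type*} [Group P] {w : P} (hw : w ∈ Om P) : w⁻¹ = w :=
  inv_eq_of_mul_eq_one_right hw.2

theorem sq_eq_central {P : Type*} [Group P] (hinv : ∀ x : P, x * x = 1 → x ∈ Subgroup.center P)
    (x b : P) (hb : b ∈ Subgroup.center P) (hxb : x * x = b * b) : x ∈ Subgroup.center P := by
  have hb' := hb
  rw [Subgroup.mem_center_iff] at hb'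
  have hbi : ∀ g, g * b⁻¹ = b⁻¹ * g := by
    intro g
    calc g * b⁻¹ = b⁻¹ * (b * g) * b⁻¹ := by group
      _ = b⁻¹ * (g * b) * b⁻¹ := by rw [hb' g]
      _ = b⁻¹ * g := by group
  have h1 : (x * b⁻¹) * (x * b⁻¹) = 1 := by
    calc x * b⁻¹ * (x * b⁻¹) = x * (b⁻¹ * x) * b⁻¹ := by group
      _ = x * (x * b⁻¹) * b⁻¹ := by rw [hbi x]
      _ = (x * x) * (b * b)⁻¹ := by group
      _ = 1 := by rw [hxb, mul_inv_cancel]
  have h3 : x * b⁻¹ ∈ Subgroup.center P := hinv _ h1
  have : x = (x * b⁻¹) * b := by group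
  rw [this]; exact mul_mem h3 hb

theorem sq_out {P : Type*} [Group P] (x : P) :
    (QuotientGroup.mk x : P ⧸ Om P).out * (QuotientGroup.mk x : P ⧸ Om P).out = x * x := by
  obtain ⟨⟨w, hw⟩, hh⟩ := QuotientGroup.mk_out_eq_mul (Om P) x
  rw [hh]
  have hwc := Om_comm hw
  calc x * w * (x * w) = x * (w * x) * w := by group
    _ = x * (x * w) * w := by rw [← hwc x]
    _ = (x * x) * (w * w) := by group
    _ = x * x := by rw [hw.2, mul_one]

section order4

variable {P : Type*} [Group P] [Finite P] (h2 : IsPGroup 2 P) (K : Subgroup (MulAut P))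
  (hreg : Reg K) (a : P) (ha : a ∈ Subgroup.center P) (ha2 : a * a ≠ 1)
  (ha4 : (a * a) * (a * a) = 1)

include hreg ha ha2 ha4 in
theorem F3 (w : P) (hw : w ∈ Om P) : ∃ b ∈ Subgroup.center P, b * b = w := by
  by_cases h1 : w = 1
  · exact ⟨1, one_mem _, by rw [h1, one_mul]⟩
  · obtain ⟨k, hk, -⟩ := hreg (a * a) w ha2 ha4 h1 hw.2
    exact ⟨(k : MulAut P) a, aut_mem_center _ ha, by rw [← map_mul]; exact hk⟩

include h2 hreg in
theorem sq_one_central (x : P) (hx : x * x = 1) : x ∈ Subgroup.center P := by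
  by_cases h : x = 1
  · rw [h]; exact one_mem _
  · exact invol_central h2 K hreg x h hx

include h2 hreg ha ha2 ha4 in
theorem F4 (x : P) (hx : x * x ∈ Om P) : x ∈ Subgroup.center P := by
  obtain ⟨b, hb, hbb⟩ := F3 K hreg a ha ha2 ha4 (x * x) hx
  exact sq_eq_central (sq_one_central h2 K hreg) x b hb hbb.symm

include h2 hreg ha ha2 ha4 in
theorem pair_quot [IsCyclic K]
    (hinv : ∃ x y : P, x ≠ y ∧ x ≠ 1 ∧ x * x = 1 ∧ y ≠ 1 ∧ y * y = 1) : IsPair (P ⧸ Om P) := by
  have hF3 := F3 K hreg a ha ha2 ha4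
  have hF4 := F4 h2 K hreg a ha ha2 ha4
  have key : ∀ x : P, (QuotientGroup.mk x : P ⧸ Om P) ≠ 1 →
      (QuotientGroup.mk x : P ⧸ Om P) * QuotientGroup.mk x = 1 →
      x ∈ Subgroup.center P ∧ x * x ≠ 1 ∧ (x * x) * (x * x) = 1 := by
    intro x hx1 hx2
    have h1 : x * x ∈ Om P := by
      rw [← QuotientGroup.mk_mul, QuotientGroup.eq_one_iff] at hx2; exact hx2
    have hc := hF4 x h1
    refine ⟨hc, ?_, h1.2⟩
    intro h
    exact hx1 ((QuotientGroup.eq_one_iff x).mpr ⟨hc, h⟩)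
  refine ⟨inferInstance, h2.to_quotient (Om P), ?_, ?_⟩
  · obtain ⟨w₁, w₂, hne, hw1, hw12, hw2, hw22⟩ := hinv
    have hm1 : w₁ ∈ Om P := ⟨invol_central h2 K hreg w₁ hw1 hw12, hw12⟩
    have hm2 : w₂ ∈ Om P := ⟨invol_central h2 K hreg w₂ hw2 hw22, hw22⟩
    obtain ⟨b₁, hb1, hbb1⟩ := hF3 w₁ hm1
    obtain ⟨b₂, hb2, hbb2⟩ := hF3 w₂ hm2
    refine ⟨QuotientGroup.mk b₁, QuotientGroup.mk b₂, ?_, ?_, ?_, ?_, ?_⟩
    · intro h
      have := congrArg (fun q : P ⧸ Om P => q.out * q.out) h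
      simp only [sq_out] at this
      exact hne (by rw [← hbb1, ← hbb2, this])
    · intro h
      rw [QuotientGroup.eq_one_iff] at h
      exact hw1 (by rw [← hbb1]; exact h.2)
    · rw [← QuotientGroup.mk_mul, hbb1]; exact (QuotientGroup.eq_one_iff _).mpr hm1
    · intro h
      rw [QuotientGroup.eq_one_iff] at h
      exact hw2 (by rw [← hbb2]; exact h.2)
    · rw [← QuotientGroup.mk_mul, hbb2]; exact (QuotientGroup.eq_one_iff _).mpr hm2
  · apply transfer K hreg ((quotHom P).comp K.subtype) (fun q => q.out * q.out)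
    · intro q hq hq2
      obtain ⟨x, rfl⟩ := QuotientGroup.mk_surjective q
      rw [sq_out]
      exact (key x hq hq2).2
    · intro q q' hq hq2 hq' hq'2 hJ
      obtain ⟨x, rfl⟩ := QuotientGroup.mk_surjective q
      obtain ⟨y, rfl⟩ := QuotientGroup.mk_surjective q'
      simp only [sq_out] at hJ
      rw [QuotientGroup.eq]
      have hxc := (key x hq hq2).1
      have hyc := (key y hq' hq'2).1
      refine ⟨mul_mem (inv_mem hxc) hyc, ?_⟩
      rw [Subgroup.mem_center_iff] at hyc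
      calc x⁻¹ * y * (x⁻¹ * y) = x⁻¹ * (y * x⁻¹) * y := by group
        _ = x⁻¹ * (x⁻¹ * y) * y := by rw [← hyc x⁻¹]
        _ = (x * x)⁻¹ * (y * y) := by group
        _ = 1 := by rw [hJ, inv_mul_cancel]
    · intro k q hq hq2
      obtain ⟨x, rfl⟩ := QuotientGroup.mk_surjective q
      have e : ((quotHom P).comp K.subtype) k (QuotientGroup.mk x : P ⧸ Om P)
          = QuotientGroup.mk ((k : MulAut P) x) := rfl
      show Quotient.out _ * Quotient.out _ = _
      rw [e, sq_out, sq_out, map_mul]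

end order4

end Cfsg.Agent.H14.Suz
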