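import Cfsg.Agent.H14.Suz

set_option autoImplicit false

namespace Cfsg.Agent.H14.Suz

open scoped commutatorElement

section class2

variable {P : Type*} [Group P] (hcomm : ∀ x y : P, ⁅x, y⁆ ∈ Om P)

include hcomm

theorem comm_mul_left (x y z : P) : ⁅x * y, z⁆ = ⁅x, z⁆ * ⁅y, z⁆ := by
  have h := Om_comm (hcomm y z) x
  have h' := Om_comm (hcomm y z) ⁅x, z⁆
  calc ⁅x * y, z⁆ = x * ⁅y, z⁆ * x⁻¹ * ⁅x, z⁆ := by simp only [commutatorElement_def]; group
    _ = ⁅y, z⁆ * x * x⁻¹ * ⁅x, z⁆ := by rw [h]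
    _ = ⁅y, z⁆ * ⁅x, z⁆ := by rw [mul_inv_cancel_right]
    _ = ⁅x, z⁆ * ⁅y, z⁆ := by rw [← h']

theorem comm_symm (x y : P) : ⁅x, y⁆ = ⁅y, x⁆ := by
  rw [← commutatorElement_inv, Om_inv (hcomm y x)]

theorem comm_mul_right (x y z : P) : ⁅x, y * z⁆ = ⁅x, y⁆ * ⁅x, z⁆ := by
  rw [comm_symm hcomm x (y * z), comm_mul_left hcomm, comm_symm hcomm y x, comm_symm hcomm z x]

theorem sq_central (x : P) : x * x ∈ Subgroup.center P := by
  rw [Subgroup.mem_center_iff]
  intro g
  have h : ⁅x * x, g⁆ = 1 := by rw [comm_mul_left hcomm]; exact (hcomm x g).2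
  exact ((commutatorElement_eq_one_iff_commute.mp h).eq).symm

theorem mul_sq (x y : P) : (x * y) * (x * y) = ⁅y, x⁆ * ((x * x) * (y * y)) := by
  have h := Om_comm (hcomm y x) x
  calc (x * y) * (x * y) = x * ⁅y, x⁆ * x * y * y := by simp only [commutatorElement_def]; group
    _ = ⁅y, x⁆ * x * x * y * y := by rw [h]
    _ = ⁅y, x⁆ * ((x * x) * (y * y)) := by simp only [mul_assoc]

end class2

section free

variable {P : Type*} [Group P] [Finite P] (h2 : IsPGroup 2 P) (K : Subgroup (MulAut P))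
  (hreg : Reg K)

include h2 hreg in
theorem free_mod_center (k : K) (x c : P) (hx : x ∉ Subgroup.center P)
    (hc : c ∈ Subgroup.center P) (hk : (k : MulAut P) x = x * c) : k = 1 := by
  by_contra hk1
  let δ : Subgroup.center P → Subgroup.center P := fun d =>
    ⟨(d : P) * ((k : MulAut P) d)⁻¹, mul_mem d.2 (inv_mem (aut_mem_center _ d.2))⟩
  have hinj : Function.Injective δ := by
    intro d d' h
    have h' : (d : P) * ((k : MulAut P) d)⁻¹ = (d' : P) * ((k : MulAut P) d')⁻¹ :=
      congrArg Subtype.val h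
    have e : (k : MulAut P) ((d' : P)⁻¹ * d) = (d' : P)⁻¹ * d := by
      rw [map_mul, map_inv]
      calc ((k : MulAut P) d')⁻¹ * (k : MulAut P) d
          = (d' : P)⁻¹ * ((d' : P) * ((k : MulAut P) d')⁻¹) * (k : MulAut P) d := by group
        _ = (d' : P)⁻¹ * ((d : P) * ((k : MulAut P) d)⁻¹) * (k : MulAut P) d := by rw [h']
        _ = (d' : P)⁻¹ * d := by group
    by_contra hne
    have hne' : (d' : P)⁻¹ * d ≠ 1 := by
      intro h1
      apply hne
      apply Subtype.ext
      have : (d : P) = d' * ((d' : P)⁻¹ * d) := by group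
      rw [this, h1, mul_one]
    exact hk1 (fpf h2 K hreg k _ hne' e)
  have hsurj : Function.Surjective δ := Finite.injective_iff_surjective.mp hinj
  obtain ⟨d, hd⟩ := hsurj ⟨c, hc⟩
  have hd' : (d : P) * ((k : MulAut P) d)⁻¹ = c := congrArg Subtype.val hd
  have e : (k : MulAut P) (x * d) = x * d := by
    rw [map_mul, hk, ← hd']; group
  have hne : x * (d : P) ≠ 1 := by
    intro h1
    apply hx
    have : x = (d : P)⁻¹ := eq_inv_of_mul_eq_one_left h1
    rw [this]; exact inv_mem d.2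
  exact hk1 (fpf h2 K hreg k _ hne e)

end free

section cover

variable {P : Type*} [Group P] [Finite P] (h2 : IsPGroup 2 P) (K : Subgroup (MulAut P))
  (hreg : Reg K) (a : P) (ha : a ∈ Subgroup.center P) (ha2 : a * a ≠ 1)
  (ha4 : (a * a) * (a * a) = 1) (hcomm : ∀ x y : P, ⁅x, y⁆ ∈ Om P)

include h2 hreg ha ha2 ha4 hcomm in
/-- if `v² = u² c²` with `c` central then `u⁻¹ v` is central -/
theorem cong_of_sq (u v c : P) (hc : c ∈ Subgroup.center P) (h : v * v = (u * u) * (c * c)) :
    u⁻¹ * v ∈ Subgroup.center P := by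
  obtain ⟨d, hd, hdd⟩ := F3 K hreg a ha ha2 ha4 ⁅v, u⁻¹⁆ (hcomm _ _)
  apply sq_eq_central (sq_one_central h2 K hreg) _ (d * c) (mul_mem hd hc)
  rw [mul_sq hcomm, h, ← hdd]
  have hcc := Subgroup.mem_center_iff.mp hc
  calc d * d * (u⁻¹ * u⁻¹ * (u * u * (c * c))) = d * (d * c) * c := by group
    _ = d * (c * d) * c := by rw [hcc d]
    _ = d * c * (d * c) := by group

include h2 hreg ha ha2 ha4 hcomm in
theorem cover (x c₀ : P) (hx : x ∉ Subgroup.center P) (hc₀ : c₀ ∈ Subgroup.center P)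
    (hns : ∀ c ∈ Subgroup.center P, c₀ ≠ c * c) :
    ∃ k : K, ∃ c ∈ Subgroup.center P,
      c₀ = ((k : MulAut P) x * (k : MulAut P) x) * (c * c) := by
  classical
  let sq : Subgroup.center P →* Subgroup.center P :=
    { toFun := fun c => c * c
      map_one' := by simp
      map_mul' := fun x y => by
        apply Subtype.ext
        have hy := Subgroup.mem_center_iff.mp y.2
        show (x : P) * y * (x * y) = x * x * (y * y)
        calc (x : P) * y * (x * y) = x * ((y : P) * x) * y := by group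
          _ = x * (x * y) * y := by rw [← hy]
          _ = x * x * (y * y) := by group }
  let S : Subgroup (Subgroup.center P) := sq.range
  have hS : ∀ z : Subgroup.center P, z ∈ S ↔ ∃ c ∈ Subgroup.center P, (z : P) = c * c := by
    intro z
    constructor
    · rintro ⟨c, rfl⟩
      exact ⟨c, c.2, rfl⟩
    · rintro ⟨c, hc, hz⟩
      exact ⟨⟨c, hc⟩, Subtype.ext hz.symm⟩
  have hcard : Nat.card (Subgroup.center P ⧸ S) ≤ Nat.card (Option K) := by
    have e1 : Nat.card sq.ker * sq.ker.index = Nat.card (Subgroup.center P) :=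
      Subgroup.card_mul_index _
    have e2 : sq.ker.index = Nat.card S := Subgroup.index_ker sq
    have e3 : Nat.card S * S.index = Nat.card (Subgroup.center P) := Subgroup.card_mul_index _
    have e4 : S.index = Nat.card (Subgroup.center P ⧸ S) := rfl
    have hpos : 0 < Nat.card S := Nat.card_pos
    have e5 : Nat.card (Subgroup.center P ⧸ S) = Nat.card sq.ker := by
      rw [← e4]
      have : Nat.card S * S.index = Nat.card S * Nat.card sq.ker := by
        rw [e3, ← e1, e2, mul_comm]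
      exact Nat.eq_of_mul_eq_mul_left hpos this
    rw [e5]
    let g : Option K → sq.ker := fun o => o.elim 1 (fun k =>
      ⟨⟨(k : MulAut P) (a * a), aut_mem_center _ (mul_mem ha ha)⟩, by
        rw [MonoidHom.mem_ker]; apply Subtype.ext
        show ((k : MulAut P) (a * a)) * ((k : MulAut P) (a * a)) = 1
        rw [← map_mul, ha4, map_one]⟩)
    apply Nat.card_le_card_of_surjective g
    rintro ⟨⟨z, hz⟩, hzk⟩
    have hzz : z * z = 1 := by
      rw [MonoidHom.mem_ker] at hzk
      exact congrArg Subtype.val hzk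
    by_cases h1 : z = 1
    · exact ⟨none, by apply Subtype.ext; apply Subtype.ext; simp [g, h1]⟩
    · obtain ⟨k, hk, -⟩ := hreg (a * a) z ha2 ha4 h1 hzz
      exact ⟨some k, by apply Subtype.ext; apply Subtype.ext; exact hk⟩
  let Φ : Option K → Subgroup.center P ⧸ S := fun o => o.elim (QuotientGroup.mk 1) (fun k =>
    QuotientGroup.mk ⟨(k : MulAut P) x * (k : MulAut P) x, sq_central hcomm _⟩)
  have hΦ : Function.Injective Φ := by
    have hnone : ∀ k : K, Φ (some k) ≠ Φ none := by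
      intro k h
      have h' : (⟨(k : MulAut P) x * (k : MulAut P) x, sq_central hcomm _⟩ :
          Subgroup.center P)⁻¹ * 1 ∈ S := QuotientGroup.eq.mp h
      rw [mul_one, inv_mem_iff] at h'
      obtain ⟨c, hc, hz⟩ := (hS _).mp h'
      have := sq_eq_central (sq_one_central h2 K hreg) _ c hc hz
      exact hx ((aut_mem_center_iff _).mp this)
    intro o o' h
    cases o with
    | none =>
      cases o' with
      | none => rfl
      | some k' => exact absurd h.symm (hnone k')
    | some k =>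
      cases o' with
      | none => exact absurd h (hnone k)
      | some k' =>
        have h' : (⟨(k : MulAut P) x * (k : MulAut P) x, sq_central hcomm _⟩ :
            Subgroup.center P)⁻¹ *
            ⟨(k' : MulAut P) x * (k' : MulAut P) x, sq_central hcomm _⟩ ∈ S :=
          QuotientGroup.eq.mp h
        obtain ⟨c, hc, hz⟩ := (hS _).mp h'
        have hz' : (k' : MulAut P) x * (k' : MulAut P) x =
            ((k : MulAut P) x * (k : MulAut P) x) * (c * c) := by
          rw [← hz]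
          show _ = _ * (((k : MulAut P) x * (k : MulAut P) x)⁻¹ *
            ((k' : MulAut P) x * (k' : MulAut P) x))
          group
        have hcen := cong_of_sq h2 K hreg a ha ha2 ha4 hcomm _ _ c hc hz'
        have : k⁻¹ * k' = 1 := by
          apply free_mod_center h2 K hreg (k⁻¹ * k') x
            ((k : MulAut P)⁻¹ (((k : MulAut P) x)⁻¹ * (k' : MulAut P) x)) hx
            (aut_mem_center _ hcen)
          simp [map_mul]
        congr 1
        exact (inv_mul_eq_one.mp this)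
  have hbij := hΦ.bijective_of_nat_card_le hcard
  obtain ⟨o, ho⟩ := hbij.2 (QuotientGroup.mk ⟨c₀, hc₀⟩)
  cases o with
  | none =>
    exfalso
    have h' : (1 : Subgroup.center P)⁻¹ * ⟨c₀, hc₀⟩ ∈ S := QuotientGroup.eq.mp ho
    rw [inv_one, one_mul] at h'
    obtain ⟨c, hc, hz⟩ := (hS _).mp h'
    exact hns c hc hz
  | some k =>
    have h' : (⟨(k : MulAut P) x * (k : MulAut P) x, sq_central hcomm _⟩ :
        Subgroup.center P)⁻¹ * ⟨c₀, hc₀⟩ ∈ S := QuotientGroup.eq.mp ho
    obtain ⟨c, hc, hz⟩ := (hS _).mp h'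
    refine ⟨k, c, hc, ?_⟩
    rw [← hz]
    show _ = _ * (((k : MulAut P) x * (k : MulAut P) x)⁻¹ * c₀)
    group

end cover

section noalt

variable {P : Type*} [Group P] [Finite P] (h2 : IsPGroup 2 P) (K : Subgroup (MulAut P))
  [IsCyclic K] (hreg : Reg K) (hcomm : ∀ x y : P, ⁅x, y⁆ ∈ Om P)
  (θ : P →* P) (hθ : ∀ x, θ x ∈ Om P)
  (hθeq : ∀ (k : K) (x : P), θ ((k : MulAut P) x) = (k : MulAut P) (θ x))
  (hker : ∀ x, θ x = 1 ↔ x ∈ Subgroup.center P)

include h2 hreg hcomm hθ hθeq hker in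
theorem no_alt : ∀ x y : P, x * y = y * x := by
  by_contra hcon
  push_neg at hcon
  obtain ⟨x₀, y₀, hxy⟩ := hcon
  have hx₀ : x₀ ∉ Subgroup.center P := fun h => hxy ((Subgroup.mem_center_iff.mp h y₀).symm)
  set w₀ := θ x₀ with hw₀_def
  have hw₀ : w₀ ≠ 1 := fun h => hx₀ ((hker x₀).mp h)
  have hw₀O : w₀ ∈ Om P := hθ x₀
  have hKc : ∀ a b : K, a * b = b * a := fun a b => by
    letI := IsCyclic.commGroup (α := K)
    exact mul_comm a b
  have hT : ∀ w ∈ Om P, w ≠ 1 → ∃ k : K, (k : MulAut P) w₀ = w := by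
    intro w hw hw1
    obtain ⟨k, hk, -⟩ := hreg w₀ w hw₀ hw₀O.2 hw1 hw.2
    exact ⟨k, hk⟩
  have hcong : ∀ y y', θ y = θ y' → ⁅x₀, y⁆ = ⁅x₀, y'⁆ := by
    intro y y' h
    have hc : y'⁻¹ * y ∈ Subgroup.center P := by
      rw [← hker, map_mul, map_inv, h, inv_mul_cancel]
    have e : y = y' * (y'⁻¹ * y) := by group
    have e2 : ⁅x₀, y'⁻¹ * y⁆ = 1 := by
      rw [commutatorElement_eq_one_iff_commute]
      exact (Subgroup.mem_center_iff.mp hc x₀)
    calc ⁅x₀, y⁆ = ⁅x₀, y' * (y'⁻¹ * y)⁆ := by rw [← e]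
      _ = ⁅x₀, y'⁆ := by rw [comm_mul_right hcomm, e2, mul_one]
  have hS : ∀ k : K, ⁅x₀, (k : MulAut P) x₀⁆ =
      (k : MulAut P) ⁅x₀, ((k⁻¹ : K) : MulAut P) x₀⁆ := by
    intro k
    rw [map_commutatorElement, comm_symm hcomm]
    simp
  have main : ∀ a : K, ⁅x₀, ((a * a : K) : MulAut P) x₀⁆ = 1 := by
    intro a
    by_cases ha1 : a = 1
    · subst ha1; simp
    have h1 : (a : MulAut P) w₀ * w₀ ≠ 1 := by
      intro h
      have : (a : MulAut P) w₀ = w₀ := by
        have := eq_inv_of_mul_eq_one_left h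
        rw [this, Om_inv hw₀O]
      exact ha1 (fpf h2 K hreg a w₀ hw₀ this)
    have hO1 : (a : MulAut P) w₀ * w₀ ∈ Om P := mul_mem (aut_mem_Om _ hw₀O) hw₀O
    obtain ⟨b, hb⟩ := hT _ hO1 h1
    have hW : ∀ w ∈ Om P, (b : MulAut P) w = (a : MulAut P) w * w := by
      intro w hw
      by_cases hw1 : w = 1
      · subst hw1; simp
      obtain ⟨k, rfl⟩ := hT w hw hw1
      have e1 : (b : MulAut P) ((k : MulAut P) w₀) = (k : MulAut P) ((b : MulAut P) w₀) := by
        have := congrArg (fun t : K => (t : MulAut P) w₀) (hKc b k)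
        simpa using this
      have e2 : (a : MulAut P) ((k : MulAut P) w₀) = (k : MulAut P) ((a : MulAut P) w₀) := by
        have := congrArg (fun t : K => (t : MulAut P) w₀) (hKc a k)
        simpa using this
      rw [e1, e2, hb, map_mul]
    have hV : ∀ y, ⁅x₀, (b : MulAut P) y⁆ = ⁅x₀, (a : MulAut P) y⁆ * ⁅x₀, y⁆ := by
      intro y
      rw [← comm_mul_right hcomm]
      apply hcong
      rw [hθeq, hW _ (hθ y), map_mul, hθeq]
    have hX : ⁅x₀, (((a * b)⁻¹ : K) : MulAut P) x₀⁆ =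
        ⁅x₀, ((a⁻¹ : K) : MulAut P) x₀⁆ * ⁅x₀, ((b⁻¹ : K) : MulAut P) x₀⁆ := by
      rw [← comm_mul_right hcomm]
      apply hcong
      rw [map_mul, hθeq, hθeq, hθeq]
      have hwO : (((a * b)⁻¹ : K) : MulAut P) w₀ ∈ Om P := aut_mem_Om _ hw₀O
      have e := hW _ hwO
      have e1 : (b : MulAut P) ((((a * b)⁻¹ : K) : MulAut P) w₀) =
          ((a⁻¹ : K) : MulAut P) w₀ := by
        have h' : b * (a * b)⁻¹ = a⁻¹ := by group
        have := congrArg (fun t : K => (t : MulAut P) w₀) h'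
        simpa using this
      have e2 : (a : MulAut P) ((((a * b)⁻¹ : K) : MulAut P) w₀) =
          ((b⁻¹ : K) : MulAut P) w₀ := by
        have h' : a * (a * b)⁻¹ = b⁻¹ := by rw [hKc a b]; group
        have := congrArg (fun t : K => (t : MulAut P) w₀) h'
        simpa using this
      rw [e1, e2] at e
      have hbO : ((b⁻¹ : K) : MulAut P) w₀ ∈ Om P := aut_mem_Om _ hw₀O
      rw [e, ← Om_comm hbO, mul_assoc, hbO.2, mul_one]
    set p := ⁅x₀, (a : MulAut P) x₀⁆ with hp_def
    have hpO : p ∈ Om P := hcomm _ _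
    have hbx : ⁅x₀, (b : MulAut P) x₀⁆ = p := by rw [hV, commutatorElement_self, mul_one]
    have hab1 : ⁅x₀, ((a * b : K) : MulAut P) x₀⁆ = p := by
      rw [hS (a * b), hX, map_mul]
      have t1 : ((a * b : K) : MulAut P) ⁅x₀, ((a⁻¹ : K) : MulAut P) x₀⁆ = (b : MulAut P) p := by
        rw [hp_def, hS a, hKc a b]; simp
      have t2 : ((a * b : K) : MulAut P) ⁅x₀, ((b⁻¹ : K) : MulAut P) x₀⁆ = (a : MulAut P) p := by
        rw [← hbx, hS b]; simp
      rw [t1, t2, hW p hpO]
      have haO : (a : MulAut P) p ∈ Om P := aut_mem_Om _ hpO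
      rw [Om_comm haO ((a : MulAut P) p * p), ← mul_assoc, haO.2, one_mul]
    have hab2 : ⁅x₀, ((a * b : K) : MulAut P) x₀⁆ =
        ⁅x₀, ((a * a : K) : MulAut P) x₀⁆ * p := by
      have : ((a * b : K) : MulAut P) x₀ = (b : MulAut P) ((a : MulAut P) x₀) := by
        rw [hKc a b]; simp
      rw [this, hV]; simp [hp_def]
    rw [hab1] at hab2
    exact (mul_eq_right.mp hab2.symm)
  have hnoinv : ∀ c : K, c * c = 1 → c = 1 := by
    intro c hc
    by_contra hc1
    have e : (c : MulAut P) ((c : MulAut P) w₀ * w₀) = (c : MulAut P) w₀ * w₀ := by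
      rw [map_mul]
      have : (c : MulAut P) ((c : MulAut P) w₀) = w₀ := by
        have := congrArg (fun t : K => (t : MulAut P) w₀) hc
        simpa using this
      rw [this]
      exact Om_comm (aut_mem_Om _ hw₀O) w₀
    by_cases h : (c : MulAut P) w₀ * w₀ = 1
    · have : (c : MulAut P) w₀ = w₀ := by
        have := eq_inv_of_mul_eq_one_left h
        rw [this, Om_inv hw₀O]
      exact hc1 (fpf h2 K hreg c w₀ hw₀ this)
    · exact hc1 (fpf h2 K hreg c _ h e)
  have hsqinj : Function.Injective (fun c : K => c * c) := by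
    intro c d h
    have h' : (c * d⁻¹) * (c * d⁻¹) = 1 := by
      calc (c * d⁻¹) * (c * d⁻¹) = c * (d⁻¹ * c) * d⁻¹ := by group
        _ = c * (c * d⁻¹) * d⁻¹ := by rw [hKc d⁻¹ c]
        _ = (c * c) * (d * d)⁻¹ := by group
        _ = 1 := by rw [show c * c = d * d from h, mul_inv_cancel]
    exact mul_inv_eq_one.mp (hnoinv _ h')
  have hsqsurj : Function.Surjective (fun c : K => c * c) :=
    Finite.injective_iff_surjective.mp hsqinj
  have hall : ∀ k : K, ⁅x₀, (k : MulAut P) x₀⁆ = 1 := by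
    intro k
    obtain ⟨c, rfl⟩ := hsqsurj k
    exact main c
  apply hx₀
  rw [Subgroup.mem_center_iff]
  intro y
  have hy : ⁅x₀, y⁆ = 1 := by
    by_cases h : θ y = 1
    · rw [commutatorElement_eq_one_iff_commute]
      exact (Subgroup.mem_center_iff.mp ((hker y).mp h) x₀)
    · obtain ⟨k, hk⟩ := hT (θ y) (hθ y) h
      rw [hcong y ((k : MulAut P) x₀) (by rw [hθeq, hk])]
      exact hall k
  exact ((commutatorElement_eq_one_iff_commute.mp hy).eq).symm

end noalt

section abcase

variable {P : Type*} [Group P] [Finite P] (h2 : IsPGroup 2 P) (K : Subgroup (MulAut P))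
  (hreg : Reg K) (a : P) (ha : a ∈ Subgroup.center P) (ha2 : a * a ≠ 1)
  (ha4 : (a * a) * (a * a) = 1)

include h2 hreg ha ha2 ha4 in
theorem abelian_case [IsCyclic K] (hab : ∀ x y : P ⧸ Om P, x * y = y * x) :
    ∀ x y : P, x * y = y * x := by
  haveI : Fact (Nat.Prime 2) := ⟨Nat.prime_two⟩
  have hcomm : ∀ x y : P, ⁅x, y⁆ ∈ Om P := by
    intro x y
    have : (QuotientGroup.mk ⁅x, y⁆ : P ⧸ Om P) =
        ⁅(QuotientGroup.mk x : P ⧸ Om P), QuotientGroup.mk y⁆ := rfl
    rw [← QuotientGroup.eq_one_iff, this, commutatorElement_eq_one_iff_commute]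
    exact hab _ _
  have hex : ∃ m : ℕ, ∀ c ∈ Subgroup.center P, c ^ 2 ^ m = 1 := by
    obtain ⟨n, hn⟩ := (IsPGroup.iff_card.mp h2)
    exact ⟨n, fun c _ => by rw [← hn]; exact pow_card_eq_one'⟩
  classical
  have hf : ∀ c ∈ Subgroup.center P, c ^ 2 ^ (Nat.find hex) = 1 := Nat.find_spec hex
  have hf0 : Nat.find hex ≠ 0 := by
    intro h0
    have := hf a ha
    rw [h0] at this
    simp at this
    exact ha2 (by rw [this, one_mul])
  have hf1 : Nat.find hex ≠ 1 := by
    intro h1
    have := hf a ha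
    rw [h1] at this
    exact ha2 (by simpa [pow_two] using this)
  obtain ⟨j, hj⟩ : ∃ j, Nat.find hex = j + 2 := ⟨Nat.find hex - 2, by omega⟩
  have hmin : ∃ c₀ ∈ Subgroup.center P, c₀ ^ 2 ^ (j + 1) ≠ 1 := by
    have := Nat.find_min hex (m := j + 1) (by omega)
    push_neg at this
    exact this
  obtain ⟨c₀, hc₀, hc₀ne⟩ := hmin
  rw [hj] at hf
  let θ : P →* P :=
    { toFun := fun x => (x * x) ^ 2 ^ (j + 1)
      map_one' := by simp
      map_mul' := fun x y => by
        show ((x * y) * (x * y)) ^ 2 ^ (j + 1) = (x * x) ^ 2 ^ (j + 1) * (y * y) ^ 2 ^ (j + 1)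
        rw [mul_sq hcomm]
        have c1 : Commute ⁅y, x⁆ ((x * x) * (y * y)) := (Om_comm (hcomm y x) _).symm
        have c2 : Commute (x * x) (y * y) :=
          (Subgroup.mem_center_iff.mp (sq_central hcomm x) (y * y)).symm
        rw [c1.mul_pow, c2.mul_pow]
        have : ⁅y, x⁆ ^ 2 ^ (j + 1) = 1 := by
          rw [pow_succ', pow_mul, pow_two, (hcomm y x).2, one_pow]
        rw [this, one_mul] }
  have hθdef : ∀ x, θ x = (x * x) ^ 2 ^ (j + 1) := fun x => rfl
  have hθO : ∀ x, θ x ∈ Om P := by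
    intro x
    refine ⟨pow_mem (sq_central hcomm x) _, ?_⟩
    rw [hθdef, ← pow_add, ← two_mul, ← pow_succ']
    exact hf _ (sq_central hcomm x)
  have hθeq : ∀ (k : K) (x : P), θ ((k : MulAut P) x) = (k : MulAut P) (θ x) := by
    intro k x
    rw [hθdef, hθdef, map_pow, map_mul]
  have hker : ∀ x, θ x = 1 ↔ x ∈ Subgroup.center P := by
    intro x
    constructor
    · intro hx
      by_contra hxc
      have hns : ∀ c ∈ Subgroup.center P, c₀ ≠ c * c := by
        intro c hc h
        apply hc₀ne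
        rw [h, ← pow_two, ← pow_mul, ← pow_succ']
        exact hf c hc
      obtain ⟨k, c, hc, hcc⟩ := cover h2 K hreg a ha ha2 ha4 hcomm x c₀ hxc hc₀ hns
      apply hc₀ne
      have c2 : Commute ((k : MulAut P) x * (k : MulAut P) x) (c * c) :=
        (Subgroup.mem_center_iff.mp (mul_mem hc hc) _)
      rw [hcc, c2.mul_pow, ← hθdef, hθeq, hx, map_one, one_mul, ← pow_two, ← pow_mul,
        ← pow_succ']
      exact hf c hc
    · intro hx
      rw [hθdef, ← pow_two, ← pow_mul, ← pow_succ']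
      exact hf x hx
  exact no_alt h2 K hreg hcomm θ hθO hθeq hker

end abcase

end Cfsg.Agent.H14.Suz
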