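import Cfsg.Agent.H14.SuzField

set_option autoImplicit false

namespace Cfsg.Agent.H14.Suz

theorem union_fix {F : Type*} [AddGroup F] (f g : F → F) (hf : ∀ x y, f (x + y) = f x + f y)
    (hg : ∀ x y, g (x + y) = g x + g y) (h : ∀ w, f w = w ∨ g w = w) :
    (∀ w, f w = w) ∨ (∀ w, g w = w) := by
  by_contra hcon
  push_neg at hcon
  obtain ⟨⟨a, ha⟩, ⟨b, hb⟩⟩ := hcon
  have ha' : g a = a := (h a).resolve_left ha
  have hb' : f b = b := (h b).resolve_right hb
  rcases h (a + b) with h1 | h1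
  · rw [hf, hb'] at h1
    exact ha (add_right_cancel h1)
  · rw [hg, ha'] at h1
    exact hb (add_left_cancel h1)

/-- A biadditive pairing `d : U × F → F`, semi-invariant under an automorphism of `U` acting
irreducibly modulo the kernel and a generator of `F`, is a single term `c u * E v`. -/
theorem pair_single {F : Type*} [Field F] [Fintype F] [CharP F 2] {U : Type*} [Group U]
    (gU : U ≃* U) (D : Subgroup U) (hD : ∀ u ∈ D, gU u ∈ D)
    (lam : F) (hlam : ∀ w : F, w ≠ 0 → ∃ m : ℕ, w = lam ^ m) (hlam0 : lam ≠ 0) (hlam1 : lam ≠ 1)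
    (d : U → F → F) (hd1 : ∀ u u' v, d (u * u') v = d u v + d u' v)
    (hd2 : ∀ u v v', d u (v + v') = d u v + d u v')
    (heq : ∀ u v, d (gU u) (lam * v) = lam * d u v)
    (hfree : ∀ j : ℕ, (∃ u ∈ D, (∃ v, d u v ≠ 0) ∧ ∀ v, d ((gU ^ j) u) v = d u v) → lam ^ j = 1)
    (hmin : ∀ Y : Subgroup U, Y ≤ D → (∀ y ∈ Y, gU y ∈ Y) →
      (∀ u ∈ D, (∀ v, d u v = 0) → u ∈ Y) → (∀ u ∈ Y, ∀ v, d u v = 0) ∨ D ≤ Y)
    (hne : ∃ u ∈ D, ∃ v, d u v ≠ 0) :
    ∃ (c : U → F) (E : F ≃+* F) (ρ : F), (∀ u u', c (u * u') = c u + c u') ∧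
      (∀ w, ∃ u ∈ D, c u = w) ∧ (∀ u ∈ D, ∀ v, d u v = c u * E v) ∧
      (∀ w, E w = w → w = 0 ∨ w = 1) ∧ (∀ u, c (gU u) = ρ * c u) ∧
      (∀ w : F, w ≠ 0 → ∃ m : ℕ, w = ρ ^ m) := by
  classical
  obtain ⟨ι, _, E, coef, hcoef⟩ := H24.exists_aut_coef F
  have h2F : (2 : F) = 0 := CharP.cast_eq_zero F 2
  let dA : U → (F →+ F) := fun u => AddMonoidHom.mk' (d u) (hd2 u)
  have hdAmul : ∀ u u', dA (u * u') = dA u + dA u' := by
    intro u u'; ext v; exact hd1 u u' v
  have hdA0 : ∀ u, (∀ v, d u v = 0) → dA u = 0 := by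
    intro u hu; ext v; exact hu v
  let cc : ι → U → F := fun i u => coef (dA u) i
  have hcc0 : ∀ i u, (∀ v, d u v = 0) → cc i u = 0 := by
    intro i u hu
    show coef (dA u) i = 0
    rw [hdA0 u hu, map_zero]; rfl
  have hccmul : ∀ i u u', cc i (u * u') = cc i u + cc i u' := by
    intro i u u'
    show coef (dA (u * u')) i = coef (dA u) i + coef (dA u') i
    rw [hdAmul, map_add]; rfl
  have hexp : ∀ u v, d u v = ∑ i, cc i u * E i v := fun u v => hcoef (dA u) v
  have hcc1 : ∀ i, cc i 1 = 0 := by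
    intro i
    have := hccmul i 1 1
    rw [one_mul] at this
    exact add_eq_left.mp this.symm
  have hccinv : ∀ i u, cc i u⁻¹ = cc i u := by
    intro i u
    have := hccmul i u u⁻¹
    rw [mul_inv_cancel, hcc1] at this
    have h3 : cc i u + cc i u = 0 := by rw [← two_mul, h2F, zero_mul]
    linear_combination -this - h3
  have hli : ∀ c : ι → F, (∀ x, ∑ i, c i * E i x = 0) → ∀ i, c i = 0 := by
    have h1 : LinearIndependent F (fun σ : F ≃+* F => ((σ : F →+* F) : F → F)) :=
      (linearIndependent_monoidHom F F).comp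
        (fun σ : F ≃+* F => ((σ : F →+* F) : F →* F))
        (fun σ τ h => by ext x; exact DFunLike.congr_fun h x)
    have h2' := h1.comp E E.injective
    rw [Fintype.linearIndependent_iff] at h2'
    intro c hc i
    apply h2' c _ i
    ext x
    simp only [Finset.sum_apply, Pi.smul_apply, smul_eq_mul, Function.comp]
    exact hc x
  have hstep : ∀ u i, cc i (gU u) * E i lam = lam * cc i u := by
    intro u i
    have := hli (fun i => cc i (gU u) * E i lam - lam * cc i u) (by
      intro x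
      have e1 : d (gU u) (lam * x) = lam * d u x := heq u x
      rw [hexp, hexp, Finset.mul_sum] at e1
      have e2 : ∑ i, (cc i (gU u) * E i lam - lam * cc i u) * E i x =
          ∑ i, cc i (gU u) * E i (lam * x) - ∑ i, lam * (cc i u * E i x) := by
        rw [← Finset.sum_sub_distrib]
        apply Finset.sum_congr rfl
        intro i _
        rw [map_mul (E i) lam x]; ring
      rw [e2, e1, sub_self]) i
    exact sub_eq_zero.mp this
  have hElam : ∀ i, E i lam ≠ 0 :=
    fun i h => hlam0 ((map_eq_zero_iff (E i) (E i).injective).mp h)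
  have hρstep : ∀ i u, cc i (gU u) = lam / E i lam * cc i u := by
    intro i u
    rw [div_mul_eq_mul_div, eq_div_iff (hElam i)]
    exact hstep u i
  have hρpow : ∀ i (m : ℕ) u, cc i ((gU ^ m) u) = (lam / E i lam) ^ m * cc i u := by
    intro i m
    induction m with
    | zero => intro u; simp
    | succ m ih =>
      intro u
      rw [pow_succ]
      show cc i ((gU ^ m) (gU u)) = _
      rw [ih, hρstep, pow_succ]; ring
  have hDpow : ∀ (m : ℕ) u, u ∈ D → (gU ^ m) u ∈ D := by
    intro m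
    induction m with
    | zero => intro u hu; simpa using hu
    | succ m ih =>
      intro u hu
      rw [pow_succ]
      exact ih _ (hD u hu)
  have hker : ∀ i, (∃ u ∈ D, cc i u ≠ 0) → ∀ u ∈ D, cc i u = 0 → ∀ v, d u v = 0 := by
    rintro i ⟨u₁, hu₁D, hu₁⟩
    let Y : Subgroup U :=
      { carrier := {u | u ∈ D ∧ cc i u = 0}
        one_mem' := ⟨D.one_mem, hcc1 i⟩
        mul_mem' := by
          rintro x y ⟨hx, hx0⟩ ⟨hy, hy0⟩
          exact ⟨D.mul_mem hx hy, by rw [hccmul, hx0, hy0, add_zero]⟩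
        inv_mem' := by
          rintro x ⟨hx, hx0⟩
          exact ⟨D.inv_mem hx, by rw [hccinv, hx0]⟩ }
    have hY := hmin Y (fun u hu => hu.1)
      (fun y hy => ⟨hD y hy.1, by rw [hρstep, hy.2, mul_zero]⟩)
      (fun u huD hu => ⟨huD, hcc0 i u hu⟩)
    rcases hY with hY | hY
    · intro u huD hu0; exact hY u ⟨huD, hu0⟩
    · exact absurd (hY hu₁D).2 hu₁
  obtain ⟨u₁, hu₁D, v₁, hv₁⟩ := hne
  obtain ⟨i, hi⟩ : ∃ i, cc i u₁ ≠ 0 := by
    by_contra hcon
    push_neg at hcon
    apply hv₁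
    rw [hexp]
    apply Finset.sum_eq_zero
    intro i _
    rw [hcon i, zero_mul]
  have hkeri := hker i ⟨u₁, hu₁D, hi⟩
  obtain ⟨ρ, hρdef⟩ : ∃ ρ : F, ρ = lam / E i lam := ⟨_, rfl⟩
  have hρstep' : ∀ u, cc i (gU u) = ρ * cc i u := by
    intro u; rw [hρdef]; exact hρstep i u
  have hρpow' : ∀ (m : ℕ) u, cc i ((gU ^ m) u) = ρ ^ m * cc i u := by
    intro m u; rw [hρdef]; exact hρpow i m u
  have hρ0 : ρ ≠ 0 := by rw [hρdef]; exact div_ne_zero hlam0 (hElam i)
  have hρlam : ∀ j : ℕ, ρ ^ j = 1 → lam ^ j = 1 := by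
    intro j hj
    apply hfree j
    refine ⟨u₁, hu₁D, ⟨v₁, hv₁⟩, ?_⟩
    intro v
    have h1 : cc i ((gU ^ j) u₁ * u₁⁻¹) = 0 := by
      rw [hccmul, hccinv, hρpow', hj, one_mul, ← two_mul, h2F, zero_mul]
    have h2 := hkeri _ (D.mul_mem (hDpow j u₁ hu₁D) (D.inv_mem hu₁D)) h1 v
    have h3 : d ((gU ^ j) u₁) v = d ((gU ^ j) u₁ * u₁⁻¹ * u₁) v := by rw [inv_mul_cancel_right]
    rw [h3, hd1, h2, zero_add]
  have hρgen : ∀ w : F, w ≠ 0 → ∃ m : ℕ, w = ρ ^ m := by
    let lamU : Fˣ := Units.mk0 lam hlam0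
    let ρU : Fˣ := Units.mk0 ρ hρ0
    have hlamgen : ∀ x : Fˣ, x ∈ Subgroup.zpowers lamU := by
      intro x
      obtain ⟨m, hm⟩ := hlam (x : F) (Units.ne_zero x)
      rw [← mem_powers_iff_mem_zpowers]
      exact ⟨m, Units.ext (by rw [Units.val_pow_eq_pow_val]; exact hm.symm)⟩
    have hord : orderOf lamU = Nat.card Fˣ := orderOf_eq_card_of_forall_mem_zpowers hlamgen
    have h1 : lamU ^ orderOf ρU = 1 := by
      apply Units.ext
      rw [Units.val_pow_eq_pow_val]
      apply hρlam
      have := pow_orderOf_eq_one ρU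
      have h' := congrArg (fun x : Fˣ => (x : F)) this
      simp only [Units.val_pow_eq_pow_val, Units.val_one] at h'
      exact h'
    have h2 : orderOf lamU ∣ orderOf ρU := orderOf_dvd_of_pow_eq_one h1
    have hpos : 0 < orderOf ρU := orderOf_pos ρU
    have htop : Subgroup.zpowers ρU = ⊤ := by
      apply Subgroup.eq_top_of_le_card
      rw [Nat.card_zpowers, ← hord]
      exact Nat.le_of_dvd hpos h2
    intro w hw
    have hmem : Units.mk0 w hw ∈ Subgroup.zpowers ρU := by rw [htop]; trivial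
    rw [← mem_powers_iff_mem_zpowers] at hmem
    obtain ⟨m, hm⟩ := hmem
    refine ⟨m, ?_⟩
    have h' := congrArg (fun x : Fˣ => (x : F)) hm
    simp only [Units.val_pow_eq_pow_val] at h'
    exact h'.symm
  have hsurj : ∀ w, ∃ u ∈ D, cc i u = w := by
    intro w
    by_cases hw : w = 0
    · exact ⟨1, D.one_mem, by rw [hcc1, hw]⟩
    · obtain ⟨m, hm⟩ := hρgen (w / cc i u₁) (div_ne_zero hw hi)
      refine ⟨(gU ^ m) u₁, hDpow m u₁ hu₁D, ?_⟩
      rw [hρpow', ← hm, div_mul_cancel₀ _ hi]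
  have hsingle : ∀ j, j ≠ i → ∀ u ∈ D, cc j u = 0 := by
    intro j hji
    by_contra hcon
    push_neg at hcon
    obtain ⟨u₂, hu₂D, hu₂⟩ := hcon
    have hkerj := hker j ⟨u₂, hu₂D, hu₂⟩
    obtain ⟨u₀, hu₀D, hu₀⟩ := hsurj 1
    have hju₀ : cc j u₀ ≠ 0 := by
      intro h
      have h1 := hkerj u₀ hu₀D h
      have : cc i u₀ = 0 := hcc0 i u₀ h1
      rw [hu₀] at this
      exact one_ne_zero this
    have hwd : ∀ u ∈ D, ∀ u' ∈ D, cc i u = cc i u' → cc j u = cc j u' := by
      intro u hu u' hu' h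
      have h1 : cc i (u * u'⁻¹) = 0 := by rw [hccmul, hccinv, h, ← two_mul, h2F, zero_mul]
      have h2 := hkeri _ (D.mul_mem hu (D.inv_mem hu')) h1
      have h3 : cc j (u * u'⁻¹) = 0 := hcc0 j _ h2
      rw [hccmul, hccinv] at h3
      have h4 : cc j u' + cc j u' = 0 := by rw [← two_mul, h2F, zero_mul]
      linear_combination h3 - h4
    choose sel hselD hsel using hsurj
    let χf : F → F := fun w => cc j (sel w) / cc j u₀
    have hχ : ∀ u ∈ D, χf (cc i u) = cc j u / cc j u₀ := by
      intro u hu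
      show cc j (sel (cc i u)) / cc j u₀ = _
      rw [hwd _ (hselD _) u hu (hsel _)]
    have hχadd : ∀ w w', χf (w + w') = χf w + χf w' := by
      intro w w'
      have h1 : w + w' = cc i (sel w * sel w') := by rw [hccmul, hsel, hsel]
      have h2 : χf (w + w') = cc j (sel w * sel w') / cc j u₀ := by
        rw [h1]; exact hχ _ (D.mul_mem (hselD w) (hselD w'))
      rw [h2, hccmul, add_div]
    have hχ1 : χf 1 = 1 := by
      have h1 : χf (cc i u₀) = 1 := by rw [hχ u₀ hu₀D, div_self hju₀]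
      rwa [hu₀] at h1
    have hχ0 : χf 0 = 0 := by
      have := hχadd 0 0
      rw [add_zero] at this
      exact add_eq_left.mp this.symm
    have hρj : ∀ (m : ℕ) w, χf (ρ ^ m * w) = (lam / E j lam) ^ m * χf w := by
      intro m w
      have h1 : ρ ^ m * w = cc i ((gU ^ m) (sel w)) := by rw [hρpow', hsel]
      have h2 : χf (ρ ^ m * w) = cc j ((gU ^ m) (sel w)) / cc j u₀ := by
        rw [h1]; exact hχ _ (hDpow m _ (hselD w))
      rw [h2, hρpow j, mul_div_assoc]
    have hρj1 : ∀ m : ℕ, χf (ρ ^ m) = (lam / E j lam) ^ m := by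
      intro m
      have := hρj m 1
      rwa [mul_one, hχ1, mul_one] at this
    let χ : F →+* F :=
      { toFun := χf
        map_one' := hχ1
        map_zero' := hχ0
        map_add' := hχadd
        map_mul' := fun a b => by
          by_cases ha : a = 0
          · rw [ha, zero_mul, hχ0, zero_mul]
          · obtain ⟨m, rfl⟩ := hρgen a ha
            rw [hρj, hρj1] }
    have hχρ : χ ρ = lam / E j lam := by
      have := hρj1 1
      rwa [pow_one, pow_one] at this
    have hχinj : Function.Injective χ := χ.injective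
    have hrel : χ lam * E j lam = lam * χ (E i lam) := by
      rw [hρdef, map_div₀] at hχρ
      have hne1 : χ (E i lam) ≠ 0 := fun h => hElam i ((map_eq_zero_iff χ hχinj).mp h)
      exact (div_eq_div_iff hne1 (hElam j)).mp hχρ
    have hP : ∀ w, χ w * E j w = w * χ (E i w) := by
      intro w
      by_cases hw : w = 0
      · rw [hw]; simp
      · obtain ⟨m, rfl⟩ := hlam w hw
        simp only [map_pow]
        rw [← mul_pow, ← mul_pow, hrel]
    have hS : ∀ w, χ w + E j w = w + χ (E i w) := by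
      intro w
      have h1 := hP (w + 1)
      simp only [map_add, map_one] at h1
      have h0 := hP w
      linear_combination h1 - h0
    have hor : ∀ w, χ w = w ∨ E i w = w := by
      intro w
      have h1 : (χ w - w) * (χ w - χ (E i w)) = 0 := by
        linear_combination (χ w) * hS w - hP w
      rcases mul_eq_zero.mp h1 with h | h
      · left; exact sub_eq_zero.mp h
      · right; exact (hχinj (sub_eq_zero.mp h)).symm
    rcases union_fix (fun w => χ w) (fun w => E i w) (fun x y => map_add χ x y)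
      (fun x y => map_add (E i) x y) hor with h | h
    · have h' : ∀ w, χ w = w := h
      apply hji
      apply E.injective
      ext w
      have := hS w
      rw [h' w, h' (E i w)] at this
      exact add_left_cancel this
    · have h' : ∀ w, E i w = w := h
      have hρ1 : ρ = 1 := by rw [hρdef, h' lam, div_self hlam0]
      obtain ⟨m, hm⟩ := hρgen lam hlam0
      rw [hρ1, one_pow] at hm
      exact hlam1 hm
  have hform : ∀ u ∈ D, ∀ v, d u v = cc i u * E i v := by
    intro u hu v
    rw [hexp]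
    apply Finset.sum_eq_single i
    · intro j _ hji
      rw [hsingle j hji u hu, zero_mul]
    · intro h; exact absurd (Finset.mem_univ i) h
  have hfix : ∀ w, E i w = w → w = 0 ∨ w = 1 := by
    intro w hw
    by_cases hw0 : w = 0
    · left; exact hw0
    · right
      obtain ⟨m, rfl⟩ := hlam w hw0
      apply hρlam
      rw [hρdef, div_pow, ← map_pow, hw, div_self hw0]
  exact ⟨cc i, E i, ρ, hccmul i, hsurj, hform, hfix, hρstep', hρgen⟩

end Cfsg.Agent.H14.Suz
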