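import Mathlib

set_option autoImplicit false

namespace Cfsg.Agent.H14.Suz

open MvPolynomial

theorem zmod2_cases (t : ZMod 2) : t = 0 ∨ t = 1 := by
  revert t; decide

theorem zmod2_sq (t : ZMod 2) : t * t = t := by
  revert t; decide

/-- Chevalley–Warning bound: an anisotropic quadratic map between elementary abelian 2-groups
forces `|V| ≤ |W|²`. -/
theorem quad_card_le {V W : Type*} [AddCommGroup V] [AddCommGroup W] [Finite V] [Finite W]
    (h2V : ∀ v : V, v + v = 0) (h2W : ∀ w : W, w + w = 0)
    (Q : V → W) (B : V → V → W) (hQ : ∀ u v, Q (u + v) = Q u + Q v + B u v)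
    (hB1 : ∀ u u' v, B (u + u') v = B u v + B u' v)
    (hB2 : ∀ u v v', B u (v + v') = B u v + B u v')
    (hQ0 : ∀ v, Q v = 0 → v = 0) : Nat.card V ≤ Nat.card W ^ 2 := by
  classical
  haveI : Fact (Nat.Prime 2) := ⟨Nat.prime_two⟩
  letI : Module (ZMod 2) V :=
    AddCommGroup.zmodModule (n := 2) (fun v => by rw [two_nsmul]; exact h2V v)
  letI : Module (ZMod 2) W :=
    AddCommGroup.zmodModule (n := 2) (fun w => by rw [two_nsmul]; exact h2W w)
  letI : Fintype V := Fintype.ofFinite V
  letI : Fintype W := Fintype.ofFinite W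
  have hcV : Nat.card V = 2 ^ Module.finrank (ZMod 2) V := by
    rw [Nat.card_eq_fintype_card, Module.card_eq_pow_finrank (K := ZMod 2), ZMod.card]
  have hcW : Nat.card W = 2 ^ Module.finrank (ZMod 2) W := by
    rw [Nat.card_eq_fintype_card, Module.card_eq_pow_finrank (K := ZMod 2), ZMod.card]
  rw [hcV, hcW, ← pow_mul]
  apply Nat.pow_le_pow_right (by norm_num)
  by_contra hlt
  push_neg at hlt
  let bV := Module.finBasis (ZMod 2) V
  let bW := Module.finBasis (ZMod 2) W
  have hB00 : ∀ v, B 0 v = 0 := by
    intro v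
    have := hB1 0 0 v
    rw [add_zero] at this
    exact add_eq_left.mp this.symm
  have hB0 : ∀ u, B u 0 = 0 := by
    intro u
    have := hB2 u 0 0
    rw [add_zero] at this
    exact add_eq_left.mp this.symm
  have hQz : Q 0 = 0 := by
    have := hQ 0 0
    rw [add_zero, hB0, add_zero] at this
    exact add_eq_left.mp this.symm
  have ht : ∀ t : ZMod 2, t = 0 ∨ t = 1 := zmod2_cases
  have hQs : ∀ (t : ZMod 2) v, Q (t • v) = t • Q v := by
    intro t v
    rcases ht t with h | h
    · rw [h, zero_smul, zero_smul, hQz]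
    · rw [h, one_smul, one_smul]
  have hBs1 : ∀ (t : ZMod 2) u v, B (t • u) v = t • B u v := by
    intro t u v
    rcases ht t with h | h
    · rw [h, zero_smul, zero_smul, hB00]
    · rw [h, one_smul, one_smul]
  have hBs2 : ∀ (t : ZMod 2) u v, B u (t • v) = t • B u v := by
    intro t u v
    rcases ht t with h | h
    · rw [h, zero_smul, zero_smul, hB0]
    · rw [h, one_smul, one_smul]
  have hBsum : ∀ (u : V) (S : Finset (Fin (Module.finrank (ZMod 2) V)))
      (f : Fin (Module.finrank (ZMod 2) V) → V), B u (∑ k ∈ S, f k) = ∑ k ∈ S, B u (f k) := by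
    intro u S f
    exact map_sum (AddMonoidHom.mk' (B u) (hB2 u)) f S
  have htt : ∀ t : ZMod 2, t * t = t := zmod2_sq
  let wmat : Fin (Module.finrank (ZMod 2) V) → Fin (Module.finrank (ZMod 2) V) → W :=
    fun i k => if k = i then Q (bV i) else if k < i then B (bV i) (bV k) else 0
  have hmain : ∀ (a : Fin (Module.finrank (ZMod 2) V) → ZMod 2)
      (S : Finset (Fin (Module.finrank (ZMod 2) V))),
      Q (∑ i ∈ S, a i • bV i) = ∑ i ∈ S, ∑ k ∈ S, (a i * a k) • wmat i k := by
    intro a S
    induction S using Finset.induction_on_max with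
    | empty => simp [hQz]
    | insert j S hj ih =>
      have hjS : j ∉ S := fun h => lt_irrefl j (hj j h)
      rw [Finset.sum_insert hjS, hQ, hQs, ih, hBs1, hBsum, Finset.sum_insert hjS,
        Finset.sum_insert hjS]
      have e1 : wmat j j = Q (bV j) := if_pos rfl
      have e2 : ∀ k ∈ S, (a j * a k) • wmat j k = a j • B (bV j) (a k • bV k) := by
        intro k hk
        have hkj := hj k hk
        have : wmat j k = B (bV j) (bV k) := by
          show (if k = j then Q (bV j) else if k < j then B (bV j) (bV k) else 0) = _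
          rw [if_neg (ne_of_lt hkj), if_pos hkj]
        rw [this, hBs2, mul_smul]
      have e3 : ∀ i ∈ S, ∑ k ∈ insert j S, (a i * a k) • wmat i k =
          ∑ k ∈ S, (a i * a k) • wmat i k := by
        intro i hi
        have hij := hj i hi
        have : wmat i j = 0 := by
          show (if j = i then Q (bV i) else if j < i then B (bV i) (bV j) else 0) = _
          rw [if_neg (ne_of_gt hij), if_neg (not_lt.mpr hij.le)]
        rw [Finset.sum_insert hjS, this, smul_zero, zero_add]
      rw [Finset.sum_congr rfl e3, Finset.sum_congr rfl e2, e1, htt, Finset.smul_sum]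
      abel
  let p : Fin (Module.finrank (ZMod 2) W) → MvPolynomial (Fin (Module.finrank (ZMod 2) V)) (ZMod 2) :=
    fun l => ∑ i, ∑ k, C (bW.repr (wmat i k) l) * X i * X k
  have heval : ∀ (a : Fin (Module.finrank (ZMod 2) V) → ZMod 2) l,
      eval a (p l) = bW.repr (Q (∑ i, a i • bV i)) l := by
    intro a l
    rw [hmain a Finset.univ]
    simp only [p, map_sum, map_mul, eval_C, eval_X, map_smul, Finsupp.coe_finsetSum,
      Finset.sum_apply, Finsupp.coe_smul, Pi.smul_apply, smul_eq_mul]
    apply Finset.sum_congr rfl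
    intro i _
    apply Finset.sum_congr rfl
    intro k _
    ring
  have hdeg : ∀ l, (p l).totalDegree ≤ 2 := by
    intro l
    refine (totalDegree_finsetSum _ _).trans (Finset.sup_le ?_)
    intro i _
    refine (totalDegree_finsetSum _ _).trans (Finset.sup_le ?_)
    intro k _
    refine (totalDegree_mul _ _).trans ?_
    have h1 : (C (bW.repr (wmat i k) l) * X i :
        MvPolynomial (Fin (Module.finrank (ZMod 2) V)) (ZMod 2)).totalDegree ≤ 1 := by
      refine (totalDegree_mul _ _).trans ?_
      rw [totalDegree_C, totalDegree_X]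
    have h3 : (X k : MvPolynomial (Fin (Module.finrank (ZMod 2) V)) (ZMod 2)).totalDegree = 1 :=
      totalDegree_X k
    omega
  have hsum : ∑ l ∈ Finset.univ, (p l).totalDegree <
      Fintype.card (Fin (Module.finrank (ZMod 2) V)) := by
    have h1 : ∑ l ∈ (Finset.univ : Finset (Fin (Module.finrank (ZMod 2) W))),
        (p l).totalDegree ≤ (Finset.univ : Finset (Fin (Module.finrank (ZMod 2) W))).card • 2 :=
      Finset.sum_le_card_nsmul _ _ _ (fun l _ => hdeg l)
    rw [Finset.card_univ, Fintype.card_fin, smul_eq_mul] at h1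
    rw [Fintype.card_fin]
    omega
  have hzero : ∀ y : Fin (Module.finrank (ZMod 2) V) → ZMod 2,
      (∀ l ∈ Finset.univ, eval y (p l) = 0) → y = 0 := by
    intro y hy
    have h1 : bW.repr (Q (∑ i, y i • bV i)) = 0 := by
      ext l
      rw [← heval]
      exact hy l (Finset.mem_univ l)
    have h3 : Q (∑ i, y i • bV i) = 0 := by
      have := congrArg bW.repr.symm h1
      simpa using this
    have h4 := hQ0 _ h3
    have h5 := bV.repr_sum_self y
    rw [h4] at h5
    rw [← h5]
    simp
  have h0mem : ∀ l ∈ Finset.univ, eval (0 : Fin (Module.finrank (ZMod 2) V) → ZMod 2) (p l) = 0 := by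
    intro l _
    rw [heval]
    simp [hQz]
  have key : ∀ (inst : Fintype {x : Fin (Module.finrank (ZMod 2) V) → ZMod 2 //
      ∀ l ∈ Finset.univ, eval x (p l) = 0}), ¬ (2 ∣ @Fintype.card _ inst) := by
    intro inst
    have h1 : @Fintype.card _ inst = 1 := by
      rw [Fintype.card_eq_one_iff]
      exact ⟨⟨0, h0mem⟩, fun y => Subtype.ext (hzero y.1 y.2)⟩
    rw [h1]
    norm_num
  exact key _ (char_dvd_card_solutions_of_sum_lt 2 hsum)

end Cfsg.Agent.H14.Suz
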