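import Cfsg.Agent.H14.SuzIso

set_option autoImplicit false

namespace Cfsg.Agent.H14.Suz

/-- An irreducible elementary abelian 2-group under an automorphism `g` of order dividing
`2 ^ n - 1` whose nontrivial powers act freely is regular: the powers of `g` act transitively on
the nonidentity elements. -/
theorem irr_regular {W : Type*} [Group W] [Finite W] (h2 : ∀ w : W, w * w = 1) (g : W ≃* W)
    (n : ℕ) (hn : 0 < n) (hg : g ^ (2 ^ n - 1) = 1)
    (hfree : ∀ j : ℕ, 0 < j → j < 2 ^ n - 1 → ∀ w : W, w ≠ 1 → (g ^ j) w ≠ w)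
    (hmin : ∀ Y : Subgroup W, (∀ y ∈ Y, g y ∈ Y) → Y = ⊥ ∨ Y = ⊤)
    (w₀ : W) (hw₀ : w₀ ≠ 1) : ∀ w : W, w ≠ 1 → ∃ j : ℕ, (g ^ j) w₀ = w := by
  classical
  haveI : Fact (Nat.Prime 2) := ⟨Nat.prime_two⟩
  have hmc : ∀ a b : W, a * b = b * a := by
    intro a b
    have h := h2 (a * b)
    have ha : a⁻¹ = a := inv_eq_of_mul_eq_one_right (h2 a)
    have hb : b⁻¹ = b := inv_eq_of_mul_eq_one_right (h2 b)
    have : a * b = (a * b)⁻¹ := (inv_eq_of_mul_eq_one_right h).symm
    rw [this, mul_inv_rev, ha, hb]
  letI : CommGroup W := { ‹Group W› with mul_comm := hmc }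
  let g' : AddMonoid.End (Additive W) := MonoidHom.toAdditive g.toMonoidHom
  have hg' : ∀ (m : ℕ) (a : Additive W), (g' ^ m) a = Additive.ofMul ((g ^ m) a.toMul) := by
    intro m
    induction m with
    | zero => intro a; simp
    | succ m ih =>
      intro a
      rw [pow_succ, pow_succ]
      show (g' ^ m) (g' a) = _
      rw [ih]
      rfl
  have hcen : Subring.closure ({g'} : Set (AddMonoid.End (Additive W))) ≤
      Subring.centralizer {g'} :=
    Subring.closure_le.mpr (by
      intro x hx
      rw [Set.mem_singleton_iff] at hx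
      subst hx
      intro y hy
      rw [Set.mem_singleton_iff.mp hy])
  letI : CommRing (Subring.closure ({g'} : Set (AddMonoid.End (Additive W)))) :=
    Subring.closureCommRingOfComm (by
      intro a ha b hb
      rw [Set.mem_singleton_iff.mp ha, Set.mem_singleton_iff.mp hb])
  let gR : Subring.closure ({g'} : Set (AddMonoid.End (Additive W))) :=
    ⟨g', Subring.subset_closure rfl⟩
  have hcomm1 : ∀ (r : Subring.closure ({g'} : Set (AddMonoid.End (Additive W))))
      (a : Additive W), (r : AddMonoid.End (Additive W)) (g' a) =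
        g' ((r : AddMonoid.End (Additive W)) a) := by
    intro r a
    have h := hcen r.2
    rw [Subring.mem_centralizer_iff] at h
    have h' := h g' rfl
    have := congrArg (fun f : AddMonoid.End (Additive W) => f a) h'
    exact this.symm
  let a₀ : Additive W := Additive.ofMul w₀
  have ha₀ : a₀ ≠ 0 := hw₀
  -- kernels are invariant
  have hker : ∀ r : Subring.closure ({g'} : Set (AddMonoid.End (Additive W))), r ≠ 0 →
      ∀ a : Additive W, (r : AddMonoid.End (Additive W)) a = 0 → a = 0 := by
    intro r hr a ha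
    let Y : Subgroup W :=
      { carrier := {w | (r : AddMonoid.End (Additive W)) (Additive.ofMul w) = 0}
        one_mem' := map_zero _
        mul_mem' := by
          intro x y hx hy
          show (r : AddMonoid.End (Additive W)) (Additive.ofMul x + Additive.ofMul y) = 0
          rw [map_add, show (r : AddMonoid.End (Additive W)) (Additive.ofMul x) = 0 from hx,
            show (r : AddMonoid.End (Additive W)) (Additive.ofMul y) = 0 from hy, add_zero]
        inv_mem' := by
          intro x hx
          show (r : AddMonoid.End (Additive W)) (-Additive.ofMul x) = 0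
          rw [map_neg, show (r : AddMonoid.End (Additive W)) (Additive.ofMul x) = 0 from hx,
            neg_zero] }
    have hY : ∀ y ∈ Y, g y ∈ Y := by
      intro y hy
      show (r : AddMonoid.End (Additive W)) (g' (Additive.ofMul y)) = 0
      rw [hcomm1, show (r : AddMonoid.End (Additive W)) (Additive.ofMul y) = 0 from hy, map_zero]
    rcases hmin Y hY with h | h
    · have : a.toMul ∈ Y := ha
      rw [h, Subgroup.mem_bot] at this
      exact this
    · exfalso
      apply hr
      apply Subtype.ext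
      refine DFunLike.ext _ _ (fun b => ?_)
      have : b.toMul ∈ Y := by rw [h]; trivial
      exact this
  let ev : Subring.closure ({g'} : Set (AddMonoid.End (Additive W))) → Additive W :=
    fun r => (r : AddMonoid.End (Additive W)) a₀
  have hev_mul : ∀ r s, ev (r * s) = (r : AddMonoid.End (Additive W)) (ev s) := fun r s => rfl
  have hev_pow : ∀ m : ℕ, ev (gR ^ m) = (g' ^ m) a₀ := fun m => rfl
  haveI : Nontrivial (Subring.closure ({g'} : Set (AddMonoid.End (Additive W)))) := by
    refine ⟨⟨1, 0, ?_⟩⟩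
    intro h
    have : ev 1 = ev 0 := by rw [h]
    exact ha₀ this
  haveI : NoZeroDivisors (Subring.closure ({g'} : Set (AddMonoid.End (Additive W)))) := by
    constructor
    intro r s h
    by_contra hcon
    push_neg at hcon
    have hs : ev s ≠ 0 := fun h0 => ha₀ (hker s hcon.2 a₀ h0)
    have h1 : ev (r * s) = 0 := by rw [h]; rfl
    rw [hev_mul] at h1
    exact hs (hker r hcon.1 _ h1)
  haveI : IsDomain (Subring.closure ({g'} : Set (AddMonoid.End (Additive W)))) :=
    NoZeroDivisors.to_isDomain _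
  haveI : Finite (AddMonoid.End (Additive W)) :=
    Finite.of_injective (fun f : AddMonoid.End (Additive W) => (f : Additive W → Additive W))
      DFunLike.coe_injective
  -- surjectivity of evaluation
  have hev_surj : ∀ a : Additive W, ∃ r, ev r = a := by
    let Y : Subgroup W :=
      { carrier := {w | ∃ r, ev r = Additive.ofMul w}
        one_mem' := ⟨0, rfl⟩
        mul_mem' := by
          rintro x y ⟨r, hr⟩ ⟨s, hs⟩
          exact ⟨r + s, by
            show ev r + ev s = Additive.ofMul x + Additive.ofMul y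
            rw [hr, hs]⟩
        inv_mem' := by
          rintro x ⟨r, hr⟩
          exact ⟨-r, by
            show -ev r = -Additive.ofMul x
            rw [hr]⟩ }
    have hY : ∀ y ∈ Y, g y ∈ Y := by
      rintro y ⟨r, hr⟩
      exact ⟨gR * r, by
        rw [hev_mul, hr]; rfl⟩
    have hw₀Y : w₀ ∈ Y := ⟨1, rfl⟩
    rcases hmin Y hY with h | h
    · rw [h, Subgroup.mem_bot] at hw₀Y
      exact absurd hw₀Y hw₀
    · intro a
      have : a.toMul ∈ Y := by rw [h]; trivial
      exact this
  -- characteristic two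
  have h2R : (2 : Subring.closure ({g'} : Set (AddMonoid.End (Additive W)))) = 0 := by
    rw [← one_add_one_eq_two]
    apply Subtype.ext
    refine DFunLike.ext _ _ (fun b => ?_)
    show b + b = 0
    exact h2 b.toMul
  haveI : CharP (Subring.closure ({g'} : Set (AddMonoid.End (Additive W)))) 2 :=
    CharTwo.of_one_ne_zero_of_two_eq_zero one_ne_zero h2R
  have hg'1 : g' ^ (2 ^ n - 1) = 1 := by
    refine DFunLike.ext _ _ (fun b => ?_)
    rw [hg', hg]
    rfl
  have hpos : 0 < 2 ^ n - 1 := by
    have : 2 ^ 1 ≤ 2 ^ n := Nat.pow_le_pow_right (by norm_num) hn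
    omega
  have hfrob : ∀ r : Subring.closure ({g'} : Set (AddMonoid.End (Additive W))), r ^ 2 ^ n = r := by
    rintro ⟨x, hx⟩
    induction hx using Subring.closure_induction with
    | mem x hx =>
      rw [Set.mem_singleton_iff] at hx
      subst hx
      apply Subtype.ext
      show g' ^ 2 ^ n = g'
      have : 2 ^ n = (2 ^ n - 1) + 1 := by omega
      rw [this, pow_succ, hg'1, one_mul]
    | zero => exact zero_pow (by positivity)
    | one => exact one_pow _
    | add x y hx hy ihx ihy =>
      have := add_pow_char_pow (⟨x, hx⟩ : Subring.closure ({g'} : Set (AddMonoid.End (Additive W))))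
        ⟨y, hy⟩ 2 n
      rw [ihx, ihy] at this
      exact this
    | neg x hx ih =>
      have e : (⟨-x, Subring.neg_mem _ hx⟩ : Subring.closure ({g'} : Set (AddMonoid.End (Additive W))))
          = ⟨x, hx⟩ := by
        have := CharTwo.neg_eq (⟨x, hx⟩ : Subring.closure ({g'} : Set (AddMonoid.End (Additive W))))
        exact this
      rw [e]; exact ih
    | mul x y hx hy ihx ihy =>
      have : (⟨x * y, Subring.mul_mem _ hx hy⟩ :
          Subring.closure ({g'} : Set (AddMonoid.End (Additive W)))) = ⟨x, hx⟩ * ⟨y, hy⟩ := rfl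
      rw [this, mul_pow, ihx, ihy]
  have hunit : ∀ u : (Subring.closure ({g'} : Set (AddMonoid.End (Additive W))))ˣ,
      u ^ (2 ^ n - 1) = 1 := by
    intro u
    apply Units.ext
    have h1 := hfrob (u : Subring.closure ({g'} : Set (AddMonoid.End (Additive W))))
    have h3 : 2 ^ n = (2 ^ n - 1) + 1 := by omega
    rw [h3, pow_succ] at h1
    have h4 : ((u : Subring.closure ({g'} : Set (AddMonoid.End (Additive W)))) ^ (2 ^ n - 1)) *
        (u : Subring.closure ({g'} : Set (AddMonoid.End (Additive W)))) = 1 * u := by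
      rw [one_mul]; exact h1
    have h5 := mul_right_cancel₀ (Units.ne_zero u) h4
    rw [Units.val_pow_eq_pow_val, h5]; rfl
  have hgR0 : gR ≠ 0 := by
    intro h
    have h1 : ev gR = 0 := by rw [h]; rfl
    have h2' : (g' ^ 1) a₀ = 0 := by rw [pow_one]; exact h1
    rw [hg'] at h2'
    have h3 : (g ^ 1) w₀ = 1 := h2'
    rw [pow_one] at h3
    exact hw₀ (by simpa using h3)
  have hinvR : ∀ r : Subring.closure ({g'} : Set (AddMonoid.End (Additive W))), r ≠ 0 →
      r * r ^ (2 ^ n - 1 - 1) = 1 := by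
    intro r hr
    have h1 := hfrob r
    have h3 : 2 ^ n = (2 ^ n - 1) + 1 := by omega
    rw [h3, pow_succ] at h1
    have h4 : r ^ (2 ^ n - 1) * r = 1 * r := by rw [one_mul]; exact h1
    have h5 := mul_right_cancel₀ hr h4
    have h6 : 2 ^ n - 1 = (2 ^ n - 1 - 1) + 1 := by omega
    rw [h6, pow_succ, mul_comm] at h5
    exact h5
  let mkU : ∀ r : Subring.closure ({g'} : Set (AddMonoid.End (Additive W))), r ≠ 0 →
      (Subring.closure ({g'} : Set (AddMonoid.End (Additive W))))ˣ :=
    fun r hr => Units.mkOfMulEqOne r _ (hinvR r hr)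
  let gU : (Subring.closure ({g'} : Set (AddMonoid.End (Additive W))))ˣ := mkU gR hgR0
  have hgUpow : ∀ m : ℕ, ((gU ^ m : (Subring.closure ({g'} : Set (AddMonoid.End (Additive W))))ˣ) :
      Subring.closure ({g'} : Set (AddMonoid.End (Additive W)))) = gR ^ m := by
    intro m
    rw [Units.val_pow_eq_pow_val]; rfl
  have hord : orderOf gU = 2 ^ n - 1 := by
    rw [orderOf_eq_iff hpos]
    refine ⟨hunit gU, ?_⟩
    intro m hm hm0 h
    have h1 : gR ^ m = 1 := by rw [← hgUpow, h]; rfl
    have h2' : ev (gR ^ m) = a₀ := by rw [h1]; rfl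
    rw [hev_pow, hg'] at h2'
    exact hfree m hm0 hm w₀ hw₀ h2'
  obtain ⟨γ, hγ⟩ := IsCyclic.exists_generator
    (α := (Subring.closure ({g'} : Set (AddMonoid.End (Additive W))))ˣ)
  have hcardU : Nat.card (Subring.closure ({g'} : Set (AddMonoid.End (Additive W))))ˣ ≤
      2 ^ n - 1 := by
    rw [← orderOf_eq_card_of_forall_mem_zpowers hγ]
    exact Nat.le_of_dvd hpos (orderOf_dvd_of_pow_eq_one (hunit γ))
  have htop : Subgroup.zpowers gU = ⊤ := by
    apply Subgroup.eq_top_of_le_card
    rw [Nat.card_zpowers, hord]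
    exact hcardU
  intro w hw
  obtain ⟨r, hr⟩ := hev_surj (Additive.ofMul w)
  have hr0 : r ≠ 0 := by
    intro h
    rw [h] at hr
    exact hw hr.symm
  have hmem : mkU r hr0 ∈ Subgroup.zpowers gU := by rw [htop]; trivial
  rw [← mem_powers_iff_mem_zpowers] at hmem
  obtain ⟨j, hj⟩ := hmem
  have hj' : gR ^ j = r := by
    have := congrArg (fun u : (Subring.closure ({g'} : Set (AddMonoid.End (Additive W))))ˣ =>
      (u : Subring.closure ({g'} : Set (AddMonoid.End (Additive W))))) hj
    simp only [hgUpow] at this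
    exact this
  refine ⟨j, ?_⟩
  have h1 : ev (gR ^ j) = Additive.ofMul w := by rw [hj', hr]
  rw [hev_pow, hg'] at h1
  exact h1

/-- Maschke's theorem for groups of exponent two under an action of a group of odd order -/
theorem maschke_exp_two {U : Type*} [Group U] [Finite U] (h2 : ∀ u : U, u * u = 1)
    {Kt : Type*} [Group Kt] [Fintype Kt] (hodd : Odd (Fintype.card Kt)) (act : Kt →* MulAut U)
    (X : Subgroup U) (hX : ∀ k, ∀ x ∈ X, act k x ∈ X) :
    ∃ Y : Subgroup U, (∀ k, ∀ y ∈ Y, act k y ∈ Y) ∧ (∀ u, u ∈ X → u ∈ Y → u = 1) ∧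
      ∀ u, ∃ x ∈ X, ∃ y ∈ Y, u = x * y := by
  classical
  have hmc : ∀ a b : U, a * b = b * a := by
    intro a b
    have h := h2 (a * b)
    have ha : a⁻¹ = a := inv_eq_of_mul_eq_one_right (h2 a)
    have hb : b⁻¹ = b := inv_eq_of_mul_eq_one_right (h2 b)
    have : a * b = (a * b)⁻¹ := (inv_eq_of_mul_eq_one_right h).symm
    rw [this, mul_inv_rev, ha, hb]
  have hinv : ∀ a : U, a⁻¹ = a := fun a => inv_eq_of_mul_eq_one_right (h2 a)
  letI : CommGroup U := { ‹Group U› with mul_comm := hmc }
  obtain ⟨Γ, hΓ1, hΓ2⟩ := exists_compl_exp_two h2 X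
  choose cf hcf wf hwf hdec using hΓ2
  have huniq : ∀ c ∈ Γ, ∀ w ∈ X, ∀ c' ∈ Γ, ∀ w' ∈ X, c * w = c' * w' → w = w' := by
    intro c hc w hw c' hc' w' hw' h
    have h1 : c'⁻¹ * c = w' * w⁻¹ := by
      rw [inv_mul_eq_iff_eq_mul, ← mul_assoc, ← h, mul_assoc, mul_inv_cancel, mul_one]
    have h2' : w' * w⁻¹ = 1 :=
      hΓ1 _ (by rw [← h1]; exact mul_mem (inv_mem hc') hc) (mul_mem hw' (inv_mem hw))
    exact (mul_inv_eq_one.mp h2').symm
  have hwf_mul : ∀ u v, wf (u * v) = wf u * wf v := by
    intro u v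
    apply huniq (cf (u * v)) (hcf _) _ (hwf _) (cf u * cf v) (mul_mem (hcf u) (hcf v)) _
      (mul_mem (hwf u) (hwf v))
    rw [← hdec]
    calc u * v = (cf u * wf u) * (cf v * wf v) := by rw [← hdec u, ← hdec v]
      _ = cf u * cf v * (wf u * wf v) := mul_mul_mul_comm _ _ _ _
  have hwf_X : ∀ x ∈ X, wf x = x := by
    intro x hx
    exact huniq (cf x) (hcf x) _ (hwf x) 1 (one_mem _) x hx (by rw [← hdec, one_mul])
  let π : U → U := fun u => ∏ k : Kt, act k (wf (act k⁻¹ u))
  have hπmul : ∀ u v, π (u * v) = π u * π v := by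
    intro u v
    show ∏ k : Kt, act k (wf (act k⁻¹ (u * v))) = _
    rw [← Finset.prod_mul_distrib]
    apply Finset.prod_congr rfl
    intro k _
    rw [map_mul, hwf_mul, map_mul]
  have hπX : ∀ u, π u ∈ X := by
    intro u
    apply Subgroup.prod_mem
    intro k _
    exact hX k _ (hwf _)
  have hπid : ∀ x ∈ X, π x = x := by
    intro x hx
    have h1 : ∀ k : Kt, act k (wf (act k⁻¹ x)) = x := by
      intro k
      rw [hwf_X _ (hX k⁻¹ x hx), map_inv]
      simp
    show ∏ k : Kt, act k (wf (act k⁻¹ x)) = x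
    rw [Finset.prod_congr rfl (fun k _ => h1 k), Finset.prod_const, Finset.card_univ]
    obtain ⟨m, hm⟩ := hodd
    rw [hm, pow_succ, pow_mul, pow_two, h2, one_pow, one_mul]
  have hπeq : ∀ (j : Kt) u, π (act j u) = act j (π u) := by
    intro j u
    show ∏ k : Kt, act k (wf (act k⁻¹ (act j u))) = act j (∏ k : Kt, act k (wf (act k⁻¹ u)))
    rw [map_prod]
    apply Fintype.prod_equiv (Equiv.mulLeft j⁻¹)
    intro k
    show act k (wf (act k⁻¹ (act j u))) = act j (act (j⁻¹ * k) (wf (act (j⁻¹ * k)⁻¹ u)))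
    have e1 : act j (act (j⁻¹ * k) (wf (act (j⁻¹ * k)⁻¹ u))) =
        act (j * (j⁻¹ * k)) (wf (act (j⁻¹ * k)⁻¹ u)) := by
      rw [map_mul act j]; rfl
    have e2 : act k⁻¹ (act j u) = act (k⁻¹ * j) u := by rw [map_mul act k⁻¹]; rfl
    rw [e1, e2]
    have e3 : j * (j⁻¹ * k) = k := by group
    have e4 : (j⁻¹ * k)⁻¹ = k⁻¹ * j := by group
    rw [e3, e4]
  let Y : Subgroup U :=
    { carrier := {u | π u = 1}
      one_mem' := by
        have := hπmul 1 1
        rw [one_mul] at this
        exact (mul_eq_left.mp this.symm)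
      mul_mem' := by
        intro u v hu hv
        show π (u * v) = 1
        rw [hπmul, show π u = 1 from hu, show π v = 1 from hv, one_mul]
      inv_mem' := by
        intro u hu
        show π u⁻¹ = 1
        rw [hinv]; exact hu }
  refine ⟨Y, ?_, ?_, ?_⟩
  · intro k y hy
    show π (act k y) = 1
    rw [hπeq, show π y = 1 from hy, map_one]
  · intro u hu hy
    rw [← hπid u hu]; exact hy
  · intro u
    refine ⟨π u, hπX u, π u * u, ?_, ?_⟩
    · show π (π u * u) = 1
      rw [hπmul, hπid _ (hπX u), h2]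
    · rw [← mul_assoc, h2, one_mul]

end Cfsg.Agent.H14.Suz
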