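import Cfsg.Agent.H14.SuzMin
import Cfsg.Agent.H14.SuzIrr

set_option autoImplicit false

namespace Cfsg.Agent.H14.Suz

open scoped commutatorElement

universe u

/-- the second centre -/
def Z2 (P : Type*) [Group P] : Subgroup P where
  carrier := {a | ∀ g : P, ⁅g, a⁆ ∈ Subgroup.center P}
  one_mem' := fun g => by rw [commutatorElement_one_right]; exact one_mem _
  mul_mem' := by
    intro a b ha hb g
    rw [comm_mul_right_of_central g a b (hb g)]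
    exact mul_mem (ha g) (hb g)
  inv_mem' := by
    intro a ha g
    rw [comm_inv_right_of_central g a (ha g)]
    exact inv_mem (ha g)

theorem pow_red {P : Type*} [Group P] (h2 : IsPGroup 2 P) (x : P)
    (hx : x ∉ Subgroup.center P) :
    ∃ m : ℕ, x ^ m ∉ Subgroup.center P ∧ x ^ m * x ^ m ∈ Subgroup.center P := by
  obtain ⟨n₀, hn₀1, hn₀2⟩ := exists_pow_invol (h2.to_quotient (Subgroup.center P))
    (QuotientGroup.mk x) (fun h => hx ((QuotientGroup.eq_one_iff _).mp h))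
  refine ⟨n₀, fun h => hn₀1 (by
    rw [← QuotientGroup.mk_pow]; exact (QuotientGroup.eq_one_iff _).mpr h), ?_⟩
  rw [← QuotientGroup.mk_pow, ← QuotientGroup.mk_mul, QuotientGroup.eq_one_iff] at hn₀2
  exact hn₀2

theorem K_odd {P : Type*} [Group P] [Finite P] (h2 : IsPGroup 2 P) (K : Subgroup (MulAut P))
    (hreg : Reg K) (hinv : ∃ x y : P, x ≠ y ∧ x ≠ 1 ∧ x * x = 1 ∧ y ≠ 1 ∧ y * y = 1) :
    Odd (Nat.card K) := by
  by_contra hodd
  rw [Nat.not_odd_iff_even] at hodd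
  haveI : Fact (Nat.Prime 2) := ⟨Nat.prime_two⟩
  obtain ⟨k, hk⟩ := exists_prime_orderOf_dvd_card' (G := K) 2 hodd.two_dvd
  have hk1 : k ≠ 1 := by
    intro h
    rw [h, orderOf_one] at hk
    norm_num at hk
  have hk2 : k * k = 1 := by rw [← pow_two, ← hk]; exact pow_orderOf_eq_one k
  obtain ⟨z₀, -, -, hz₀, hz₀2, -, -⟩ := hinv
  have hz₀c := sq_one_central h2 K hreg z₀ hz₀2
  have hkk : (k : MulAut P) ((k : MulAut P) z₀) = z₀ := by
    have := congrArg (fun j : K => (j : MulAut P) z₀) hk2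
    simpa using this
  have hfix : (k : MulAut P) (z₀ * (k : MulAut P) z₀) = z₀ * (k : MulAut P) z₀ := by
    rw [map_mul, hkk]
    exact Subgroup.mem_center_iff.mp hz₀c _
  by_cases h1 : z₀ * (k : MulAut P) z₀ = 1
  · have h3 : (k : MulAut P) z₀ = z₀ := by
      have h4 : (k : MulAut P) z₀ = z₀⁻¹ := eq_inv_of_mul_eq_one_right h1
      rw [h4]; exact inv_eq_of_mul_eq_one_right hz₀2
    exact hk1 (fpf h2 K hreg k z₀ hz₀ h3)
  · exact hk1 (fpf h2 K hreg k _ h1 hfix)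

theorem inv_three {G : Type*} [Group G] (g h c : G) (h1 : g * c * g⁻¹ = c⁻¹)
    (h2 : h * c * h⁻¹ = c⁻¹) (h3 : (g * h) * c * (g * h)⁻¹ = c⁻¹) : c * c = 1 := by
  have e : (g * h) * c * (g * h)⁻¹ = g * (h * c * h⁻¹) * g⁻¹ := by group
  rw [e, h2] at h3
  have e2 : g * c⁻¹ * g⁻¹ = (g * c * g⁻¹)⁻¹ := by group
  rw [e2, h1, inv_inv] at h3
  exact mul_eq_one_iff_eq_inv.mpr h3

theorem comm_sq_left {P : Type*} [Group P] (g h : P) (hg : g * g ∈ Subgroup.center P) :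
    g * ⁅g, h⁆ * g⁻¹ = ⁅g, h⁆⁻¹ := by
  have h1 : ⁅g * g, h⁆ = 1 :=
    commutatorElement_eq_one_iff_mul_comm.mpr ((Subgroup.mem_center_iff.mp hg h).symm)
  have e : ⁅g * g, h⁆ = g * ⁅g, h⁆ * g⁻¹ * ⁅g, h⁆ := by
    simp only [commutatorElement_def]; group
  rw [e] at h1
  exact eq_inv_of_mul_eq_one_left h1

theorem comm_sq_right {P : Type*} [Group P] (g h : P) (hh : h * h ∈ Subgroup.center P) :
    h * ⁅g, h⁆ * h⁻¹ = ⁅g, h⁆⁻¹ := by
  have h1 : ⁅g, h * h⁆ = 1 :=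
    commutatorElement_eq_one_iff_mul_comm.mpr (Subgroup.mem_center_iff.mp hh g)
  have e : ⁅g, h * h⁆ = ⁅g, h⁆ * (h * ⁅g, h⁆ * h⁻¹) := by
    simp only [commutatorElement_def]; group
  rw [e] at h1
  exact eq_inv_of_mul_eq_one_right h1

theorem comm_of_inv {P : Type*} [Group P] (x c : P) (h : x * c * x⁻¹ = c⁻¹)
    (hc4 : (c * c) * (c * c) = 1) : ⁅x, c⁆ = c * c := by
  rw [commutatorElement_def, h]
  have : (c * c)⁻¹ = c * c := inv_eq_of_mul_eq_one_right hc4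
  rw [← this]; group

/-- the configuration with abelian second centre -/
structure ASetup {P : Type u} [Group P] (K : Subgroup (MulAut P)) (A C : Subgroup P) : Prop where
  h2 : IsPGroup 2 P
  hreg : Reg K
  hinv : ∃ x y : P, x ≠ y ∧ x ≠ 1 ∧ x * x = 1 ∧ y ≠ 1 ∧ y * y = 1
  hc : ∀ z ∈ Subgroup.center P, z * z = 1
  hAK : KInv K A
  hA1 : ∀ a ∈ A, ∀ g : P, ⁅g, a⁆ ∈ Subgroup.center P
  hA2 : ∀ g : P, (∀ x : P, ⁅g, x⁆ ∈ Subgroup.center P) → g ∈ A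
  hAab : ∀ a ∈ A, ∀ b ∈ A, a * b = b * a
  hAsurj : ∀ z ∈ Subgroup.center P, ∃ a ∈ A, a * a = z
  hAsq : ∀ a ∈ A, a * a ∈ Subgroup.center P
  hC : ∀ g : P, g ∈ C ↔ ∀ a ∈ A, g * a = a * g
  hCab : ∀ c ∈ C, ∀ c' ∈ C, c * c' = c' * c
  hCA : ∀ c ∈ C, c * c ∈ Subgroup.center P → c ∈ A
  hsqC : ∀ g : P, g * g ∈ C

namespace ASetup

variable {P : Type u} [Group P] [Finite P] {K : Subgroup (MulAut P)} [IsCyclic K]
  {A C : Subgroup P} (S : ASetup K A C)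

include S

theorem hic (x : P) (hx : x * x = 1) : x ∈ Subgroup.center P :=
  sq_one_central S.h2 K S.hreg x hx

theorem A_le_C : A ≤ C := fun a ha => (S.hC a).mpr (fun b hb => S.hAab a ha b hb)

theorem ZA : Subgroup.center P ≤ A := by
  intro z hz
  apply S.hA2
  intro x
  have : ⁅z, x⁆ = 1 :=
    commutatorElement_eq_one_iff_mul_comm.mpr ((Subgroup.mem_center_iff.mp hz x).symm)
  rw [this]; exact one_mem _

theorem KC : KInv K C := by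
  intro k x hx
  rw [S.hC] at hx ⊢
  intro a ha
  have h1 := hx _ (S.hAK k⁻¹ a ha)
  have h2' := congrArg (k : MulAut P) h1
  simpa [map_mul] using h2'

theorem A_normal (a : P) (ha : a ∈ A) (g : P) : g * a * g⁻¹ ∈ A := by
  have : g * a * g⁻¹ = ⁅g, a⁆ * a := by simp only [commutatorElement_def]; group
  rw [this]; exact A.mul_mem (S.ZA (S.hA1 a ha g)) ha

theorem C_normal (c : P) (hc : c ∈ C) (g : P) : g * c * g⁻¹ ∈ C := by
  rw [S.hC] at hc ⊢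
  intro a ha
  have h1 := hc _ (S.A_normal a ha g⁻¹)
  rw [inv_inv] at h1
  calc g * c * g⁻¹ * a = g * (c * (g⁻¹ * a * g)) * g⁻¹ := by group
    _ = g * ((g⁻¹ * a * g) * c) * g⁻¹ := by rw [h1]
    _ = a * (g * c * g⁻¹) := by group

theorem comm_C (x y : P) : ⁅x, y⁆ ∈ C := by
  have e : ⁅x, y⁆ = (x * y) * (x * y) * (y⁻¹ * (x⁻¹ * x⁻¹) * y⁻¹⁻¹) * (y⁻¹ * y⁻¹) := by
    simp only [commutatorElement_def]; group
  rw [e]
  exact C.mul_mem (C.mul_mem (S.hsqC _) (S.C_normal _ (S.hsqC _) _)) (S.hsqC _)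

theorem cent_in_Z (D : Subgroup P) (hD : IsMinOver K C D) (g : P) (hg : g ∈ D) (hgC : g ∉ C)
    (c : P) (hcC : c ∈ C) (hcomm : g * c = c * g) : c ∈ Subgroup.center P := by
  by_contra hcZ
  obtain ⟨m, hm1, hm2⟩ := pow_red S.h2 c hcZ
  have htC : c ^ m ∈ C := C.pow_mem hcC m
  have htA : c ^ m ∈ A := S.hCA _ htC hm2
  have hcomm' : g * c ^ m = c ^ m * g := (Commute.pow_right (show Commute g c from hcomm) m).eq
  exact hm1 ((min_over S.h2 K S.hreg S.hinv S.hc A C S.hAK S.hA1 S.hAab S.hAsurj S.hAsq S.hC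
    D hD).1 g hg hgC _ htA hcomm')

theorem sq_in_Z (D : Subgroup P) (hD : IsMinOver K C D) (g : P) (hg : g ∈ D) (hgC : g ∉ C) :
    g * g ∈ Subgroup.center P :=
  S.cent_in_Z D hD g hg hgC (g * g) (S.hsqC g) (by group)

theorem inv_mod_Z (D : Subgroup P) (hD : IsMinOver K C D) (g : P) (hg : g ∈ D) (hgC : g ∉ C)
    (c : P) (hcC : c ∈ C) : c * (g * c * g⁻¹) ∈ Subgroup.center P := by
  have hg2 := Subgroup.mem_center_iff.mp (S.sq_in_Z D hD g hg hgC)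
  have hconj := S.C_normal c hcC g
  apply S.cent_in_Z D hD g hg hgC _ (C.mul_mem hcC hconj)
  calc g * (c * (g * c * g⁻¹)) = (g * c * g⁻¹) * ((g * g) * c) * g⁻¹ := by group
    _ = (g * c * g⁻¹) * (c * (g * g)) * g⁻¹ := by rw [← hg2 c]
    _ = (g * c * g⁻¹) * c * g := by group
    _ = c * (g * c * g⁻¹) * g := by rw [S.hCab _ hconj c hcC]

theorem C_le_A (hPC : ∃ g : P, g ∉ C) : ∀ c ∈ C, c ∈ A := by
  obtain ⟨g₀, hg₀⟩ := hPC
  obtain ⟨D, hD, -⟩ := exists_minOver K C ⊤ (fun k x _ => Subgroup.mem_top _) le_top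
    ⟨g₀, Subgroup.mem_top _, hg₀⟩
  obtain ⟨-, -, -, g, hg, h, hh, hgC, hhC, hghC⟩ := min_over S.h2 K S.hreg S.hinv S.hc A C
    S.hAK S.hA1 S.hAab S.hAsurj S.hAsq S.hC D hD
  intro c hcC
  apply S.hCA c hcC
  have q1 := S.inv_mod_Z D hD g hg hgC c hcC
  have q2 := S.inv_mod_Z D hD h hh hhC c hcC
  have q3 := S.inv_mod_Z D hD (g * h) (D.mul_mem hg hh) hghC c hcC
  have key : (QuotientGroup.mk c : P ⧸ Subgroup.center P) * QuotientGroup.mk c = 1 := by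
    apply inv_three (QuotientGroup.mk g) (QuotientGroup.mk h) (QuotientGroup.mk c)
    · apply eq_inv_of_mul_eq_one_right
      show (QuotientGroup.mk (c * (g * c * g⁻¹)) : P ⧸ Subgroup.center P) = 1
      exact (QuotientGroup.eq_one_iff _).mpr q1
    · apply eq_inv_of_mul_eq_one_right
      show (QuotientGroup.mk (c * (h * c * h⁻¹)) : P ⧸ Subgroup.center P) = 1
      exact (QuotientGroup.eq_one_iff _).mpr q2
    · apply eq_inv_of_mul_eq_one_right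
      show (QuotientGroup.mk (c * (g * h * c * (g * h)⁻¹)) : P ⧸ Subgroup.center P) = 1
      exact (QuotientGroup.eq_one_iff _).mpr q3
  rw [← QuotientGroup.mk_mul, QuotientGroup.eq_one_iff] at key
  exact key

theorem G2 (hCA' : ∀ c ∈ C, c ∈ A) (D₁ D₂ : Subgroup P) (hD₁ : IsMinOver K C D₁)
    (hD₂ : IsMinOver K C D₂) (g : P) (hg : g ∈ D₁) (h : P) (hh : h ∈ D₂) :
    ⁅g, h⁆ ∈ Subgroup.center P := by
  by_cases hgC : g ∈ C
  · have := S.hA1 g (hCA' g hgC) h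
    rw [← commutatorElement_inv]; exact inv_mem this
  by_cases hhC : h ∈ C
  · exact S.hA1 h (hCA' h hhC) g
  obtain ⟨-, hW₁, -, -⟩ := min_over S.h2 K S.hreg S.hinv S.hc A C
    S.hAK S.hA1 S.hAab S.hAsurj S.hAsq S.hC D₁ hD₁
  obtain ⟨-, hW₂, hT₂, x', hx', y', hy', hx'C, hy'C, hxy'C⟩ := min_over S.h2 K S.hreg S.hinv
    S.hc A C S.hAK S.hA1 S.hAab S.hAsurj S.hAsq S.hC D₂ hD₂
  have hg2 := S.sq_in_Z D₁ hD₁ g hg hgC
  by_contra hcZ
  have hcomA : ∀ x y : P, ⁅x, y⁆ ∈ A := fun x y => hCA' _ (S.comm_C x y)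
  have h4 : ∀ a ∈ A, (a * a) * (a * a) = 1 := fun a ha => S.hc _ (S.hAsq a ha)
  have hi : ∀ y : P, ⁅g, ⁅g, y⁆⁆ = ⁅g, y⁆ * ⁅g, y⁆ := fun y =>
    comm_of_inv g _ (comm_sq_left g y hg2) (h4 _ (hcomA g y))
  have hii : ∀ y ∈ D₂, y ∉ C → ⁅y, ⁅g, y⁆⁆ = ⁅g, y⁆ * ⁅g, y⁆ := fun y hy hyC =>
    comm_of_inv y _ (comm_sq_right g y (S.sq_in_Z D₂ hD₂ y hy hyC)) (h4 _ (hcomA g y))
  have hcA : ⁅g, h⁆ ∈ A := hcomA g h
  have hsq : ∀ y : P, ⁅g, y⁆ ∉ Subgroup.center P → ⁅g, y⁆ * ⁅g, y⁆ = ⁅g, h⁆ * ⁅g, h⁆ :=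
    fun y hy => hW₁ g hg hgC _ (hcomA g y) _ hcA hy hcZ (hi y) (hi h)
  obtain ⟨x, hxD, hxC, hxZ⟩ : ∃ x ∈ D₂, x ∉ C ∧ ⁅g, x⁆ ∈ Subgroup.center P := by
    by_cases h1 : ⁅g, x'⁆ ∈ Subgroup.center P
    · exact ⟨x', hx', hx'C, h1⟩
    by_cases h2 : ⁅g, y'⁆ ∈ Subgroup.center P
    · exact ⟨y', hy', hy'C, h2⟩
    refine ⟨x' * y', D₂.mul_mem hx' hy', hxy'C, ?_⟩
    have e : ⁅g, x' * y'⁆ = ⁅x', ⁅g, y'⁆⁆ * (⁅g, x'⁆ * ⁅g, y'⁆) := by
      have hz := Subgroup.mem_center_iff.mp (S.hA1 _ (hcomA g y') x')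
      calc ⁅g, x' * y'⁆ = ⁅g, x'⁆ * (⁅x', ⁅g, y'⁆⁆ * ⁅g, y'⁆) := by
            simp only [commutatorElement_def]; group
        _ = (⁅g, x'⁆ * ⁅x', ⁅g, y'⁆⁆) * ⁅g, y'⁆ := by rw [mul_assoc]
        _ = (⁅x', ⁅g, y'⁆⁆ * ⁅g, x'⁆) * ⁅g, y'⁆ := by rw [hz]
        _ = _ := by rw [mul_assoc]
    rw [e]
    apply mul_mem (S.hA1 _ (hcomA g y') x')
    apply S.hic
    have hab := S.hAab _ (hcomA g x') _ (hcomA g y')
    calc ⁅g, x'⁆ * ⁅g, y'⁆ * (⁅g, x'⁆ * ⁅g, y'⁆)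
        = ⁅g, x'⁆ * (⁅g, y'⁆ * ⁅g, x'⁆) * ⁅g, y'⁆ := by group
      _ = ⁅g, x'⁆ * (⁅g, x'⁆ * ⁅g, y'⁆) * ⁅g, y'⁆ := by rw [← hab]
      _ = (⁅g, x'⁆ * ⁅g, x'⁆) * (⁅g, y'⁆ * ⁅g, y'⁆) := by group
      _ = (⁅g, h⁆ * ⁅g, h⁆) * (⁅g, h⁆ * ⁅g, h⁆) := by rw [hsq x' h1, hsq y' h2]
      _ = 1 := h4 _ hcA
  have hh₂D : h * x ∈ D₂ := D₂.mul_mem hh hxD
  have hc₂ : ⁅g, h * x⁆ = ⁅g, h⁆ * ⁅g, x⁆ := comm_mul_right_of_central g h x hxZ
  have hc₂Z : ⁅g, h * x⁆ ∉ Subgroup.center P := by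
    rw [hc₂]
    intro hmem
    apply hcZ
    have : ⁅g, h⁆ = ⁅g, h⁆ * ⁅g, x⁆ * ⁅g, x⁆⁻¹ := by group
    rw [this]; exact mul_mem hmem (inv_mem hxZ)
  have hh₂C : h * x ∉ C := fun hmem => hc₂Z (S.hA1 _ (hCA' _ hmem) g)
  have hinv₂ : ⁅h * x, ⁅g, h⁆⁆ = ⁅g, h⁆ * ⁅g, h⁆ := by
    have h1 := hii (h * x) hh₂D hh₂C
    rw [hc₂] at h1
    have hz1 : ⁅h * x, ⁅g, x⁆⁆ = 1 :=
      commutatorElement_eq_one_iff_mul_comm.mpr (Subgroup.mem_center_iff.mp hxZ _)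
    have e1 : ⁅h * x, ⁅g, h⁆ * ⁅g, x⁆⁆ = ⁅h * x, ⁅g, h⁆⁆ := by
      rw [comm_mul_right_of_central _ _ _ (by rw [hz1]; exact one_mem _), hz1, mul_one]
    have hzc := Subgroup.mem_center_iff.mp hxZ
    have e2 : ⁅g, h⁆ * ⁅g, x⁆ * (⁅g, h⁆ * ⁅g, x⁆) = ⁅g, h⁆ * ⁅g, h⁆ := by
      calc ⁅g, h⁆ * ⁅g, x⁆ * (⁅g, h⁆ * ⁅g, x⁆)
          = ⁅g, h⁆ * (⁅g, x⁆ * ⁅g, h⁆) * ⁅g, x⁆ := by group
        _ = ⁅g, h⁆ * (⁅g, h⁆ * ⁅g, x⁆) * ⁅g, x⁆ := by rw [← hzc ⁅g, h⁆]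
        _ = ⁅g, h⁆ * ⁅g, h⁆ * (⁅g, x⁆ * ⁅g, x⁆) := by group
        _ = ⁅g, h⁆ * ⁅g, h⁆ := by rw [S.hc _ hxZ, mul_one]
    rw [e1, e2] at h1
    exact h1
  obtain ⟨k, hk⟩ := hT₂ h hh hhC (h * x) hh₂D hh₂C
  have hk1 : k ≠ 1 := by
    intro h1
    rw [h1] at hk
    have e : (h * x)⁻¹ * ((1 : K) : MulAut P) h = x⁻¹ := by
      show (h * x)⁻¹ * h = x⁻¹
      group
    rw [e] at hk
    exact hxC (by simpa using C.inv_mem hk)
  have hkcA : (k : MulAut P) ⁅g, h⁆ ∈ A := S.hAK k _ hcA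
  have hkc : ⁅h * x, (k : MulAut P) ⁅g, h⁆⁆ = (k : MulAut P) ⁅g, h⁆ * (k : MulAut P) ⁅g, h⁆ := by
    have h1 : ⁅(k : MulAut P) h, (k : MulAut P) ⁅g, h⁆⁆ =
        (k : MulAut P) ⁅g, h⁆ * (k : MulAut P) ⁅g, h⁆ := by
      rw [← map_commutatorElement, ← map_mul]
      exact congrArg _ (hii h hh hhC)
    have hcomm1 : ⁅(h * x)⁻¹ * (k : MulAut P) h, (k : MulAut P) ⁅g, h⁆⁆ = 1 :=
      commutatorElement_eq_one_iff_mul_comm.mpr ((S.hC _).mp hk _ hkcA)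
    have e2 : ⁅(k : MulAut P) h, (k : MulAut P) ⁅g, h⁆⁆ = ⁅h * x, (k : MulAut P) ⁅g, h⁆⁆ := by
      have e : (k : MulAut P) h = (h * x) * ((h * x)⁻¹ * (k : MulAut P) h) := by group
      calc ⁅(k : MulAut P) h, (k : MulAut P) ⁅g, h⁆⁆
          = ⁅(h * x) * ((h * x)⁻¹ * (k : MulAut P) h), (k : MulAut P) ⁅g, h⁆⁆ := by rw [← e]
        _ = ⁅h * x, (k : MulAut P) ⁅g, h⁆⁆ *
              ⁅(h * x)⁻¹ * (k : MulAut P) h, (k : MulAut P) ⁅g, h⁆⁆ :=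
            comm_mul_left_of_central _ _ _ (by rw [hcomm1]; exact one_mem _)
        _ = ⁅h * x, (k : MulAut P) ⁅g, h⁆⁆ := by rw [hcomm1, mul_one]
    rw [← e2]; exact h1
  have hkcZ : (k : MulAut P) ⁅g, h⁆ ∉ Subgroup.center P :=
    fun hmem => hcZ ((aut_mem_center_iff _).mp hmem)
  have hfin := hW₂ (h * x) hh₂D hh₂C _ hkcA _ hcA hkcZ hcZ hkc hinv₂
  have hcc1 : ⁅g, h⁆ * ⁅g, h⁆ ≠ 1 := fun h1 => hcZ (S.hic _ h1)
  exact hk1 (fpf S.h2 K S.hreg k _ hcc1 (by rw [map_mul]; exact hfin))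

theorem final_false (hPC : ∃ g : P, g ∉ C) : False := by
  classical
  have hCA' := S.C_le_A hPC
  obtain ⟨g₀, hg₀⟩ := hPC
  obtain ⟨D₀, hD₀, -⟩ := exists_minOver K C ⊤ (fun k x _ => Subgroup.mem_top _) le_top
    ⟨g₀, Subgroup.mem_top _, hg₀⟩
  obtain ⟨g₁, hg₁D, hg₁C⟩ := hD₀.2.2.1
  let N : Subgroup P :=
    { carrier := {x | ∀ D₁ : Subgroup P, IsMinOver K C D₁ → ∀ g ∈ D₁,
        ⁅g, x⁆ ∈ Subgroup.center P}
      one_mem' := by
        intro D₁ _ g _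
        rw [commutatorElement_one_right]; exact one_mem _
      mul_mem' := by
        intro x y hx hy D₁ hD₁ g hg
        rw [comm_mul_right_of_central g x y (hy D₁ hD₁ g hg)]
        exact mul_mem (hx D₁ hD₁ g hg) (hy D₁ hD₁ g hg)
      inv_mem' := by
        intro x hx D₁ hD₁ g hg
        rw [comm_inv_right_of_central g x (hx D₁ hD₁ g hg)]
        exact inv_mem (hx D₁ hD₁ g hg) }
  have hNK : KInv K N := by
    intro k x hx D₁ hD₁ g hg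
    have h1 := hx D₁ hD₁ _ (hD₁.1 k⁻¹ g hg)
    have h2' := aut_mem_center (k : MulAut P) h1
    rw [map_commutatorElement] at h2'
    simpa using h2'
  have hCN : C ≤ N := fun c hc D₁ _ g _ => S.hA1 c (hCA' c hc) g
  have hDN : ∀ D₂, IsMinOver K C D₂ → D₂ ≤ N :=
    fun D₂ hD₂ h hh D₁ hD₁ g hg => S.G2 hCA' D₁ D₂ hD₁ hD₂ g hg h hh
  obtain ⟨x₀, hx₀⟩ : ∃ x₀, x₀ ∉ N := by
    by_contra hcon
    push_neg at hcon
    apply hg₁C
    apply S.A_le_C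
    apply S.hA2
    intro x
    exact hcon x D₀ hD₀ g₁ hg₁D
  haveI : C.Normal := ⟨fun c hc g => S.C_normal c hc g⟩
  have h2U : ∀ u : P ⧸ C, u * u = 1 := by
    intro u
    induction u using QuotientGroup.induction_on with
    | H g => rw [← QuotientGroup.mk_mul, QuotientGroup.eq_one_iff]; exact S.hsqC g
  letI : Fintype K := Fintype.ofFinite K
  have hodd : Odd (Fintype.card K) := by
    rw [← Nat.card_eq_fintype_card]; exact K_odd S.h2 K S.hreg S.hinv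
  let X : Subgroup (P ⧸ C) := N.map (QuotientGroup.mk' C)
  have hX : ∀ k, ∀ x ∈ X, quotAct K C S.KC k x ∈ X := by
    rintro k _ ⟨n, hn, rfl⟩
    exact ⟨(k : MulAut P) n, hNK k n hn, rfl⟩
  obtain ⟨Y, hYK, hXY, hdec⟩ := maschke_exp_two h2U hodd (quotAct K C S.KC) X hX
  let M : Subgroup P := Y.comap (QuotientGroup.mk' C)
  have hMK : KInv K M := by
    intro k x hx
    exact hYK k _ hx
  have hCM : C ≤ M := by
    intro c hc
    show (QuotientGroup.mk' C) c ∈ Y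
    rw [QuotientGroup.mk'_apply, (QuotientGroup.eq_one_iff c).mpr hc]; exact Y.one_mem
  have hMne : ∃ m ∈ M, m ∉ C := by
    obtain ⟨xq, hxq, y, hy, hxy⟩ := hdec (QuotientGroup.mk x₀)
    obtain ⟨m, rfl⟩ := QuotientGroup.mk_surjective y
    refine ⟨m, hy, ?_⟩
    intro hmC
    obtain ⟨n, hn, rfl⟩ := hxq
    rw [(QuotientGroup.eq_one_iff m).mpr hmC, mul_one] at hxy
    have h1 : n⁻¹ * x₀ ∈ C := QuotientGroup.eq.mp hxy.symm
    apply hx₀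
    have : x₀ = n * (n⁻¹ * x₀) := by group
    rw [this]; exact N.mul_mem hn (hCN h1)
  obtain ⟨D₃, hD₃, hD₃M⟩ := exists_minOver K C M hMK hCM hMne
  obtain ⟨g₃, hg₃D, hg₃C⟩ := hD₃.2.2.1
  have h1 : (QuotientGroup.mk g₃ : P ⧸ C) = 1 :=
    hXY _ ⟨g₃, hDN D₃ hD₃ hg₃D, rfl⟩ (hD₃M hg₃D)
  exact hg₃C ((QuotientGroup.eq_one_iff g₃).mp h1)

end ASetup

/-- squares are central in a Suzuki 2-group -/
theorem sq_central_main {P : Type u} [Group P] [Finite P] (h2 : IsPGroup 2 P)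
    (K : Subgroup (MulAut P)) [IsCyclic K] (hreg : Reg K)
    (hinv : ∃ x y : P, x ≠ y ∧ x ≠ 1 ∧ x * x = 1 ∧ y ≠ 1 ∧ y * y = 1)
    (hnonab : ∃ x y : P, x * y ≠ y * x) : ∀ x : P, x * x ∈ Subgroup.center P := by
  classical
  have hc := center_sq ⟨inferInstance, h2, hinv, K, inferInstance, hreg⟩ hnonab
  have hic : ∀ x : P, x * x = 1 → x ∈ Subgroup.center P := sq_one_central h2 K hreg
  have hA1 : ∀ a ∈ Z2 P, ∀ g : P, ⁅g, a⁆ ∈ Subgroup.center P := fun a ha g => ha g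
  have hAsq : ∀ a ∈ Z2 P, a * a ∈ Subgroup.center P := by
    intro a ha
    rw [Subgroup.mem_center_iff]
    intro g
    have h1 : ⁅g, a * a⁆ = 1 := by
      rw [comm_mul_right_of_central g a a (ha g)]; exact hc _ (ha g)
    exact commutatorElement_eq_one_iff_mul_comm.mp h1
  have hsqA : ∀ g : P, ∀ a ∈ Z2 P, (g * g) * a = a * (g * g) := by
    intro g a ha
    have h1 : ⁅g * g, a⁆ = 1 := by
      rw [comm_mul_left_of_central g g a (ha g)]; exact hc _ (ha g)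
    exact commutatorElement_eq_one_iff_mul_comm.mp h1
  have hAK : KInv K (Z2 P) := by
    intro k a ha g
    have h1 := ha (((k⁻¹ : K) : MulAut P) g)
    have h2' := aut_mem_center (k : MulAut P) h1
    rw [map_commutatorElement] at h2'
    simpa using h2'
  have hZA : Subgroup.center P ≤ Z2 P := by
    intro z hz g
    have : ⁅g, z⁆ = 1 :=
      commutatorElement_eq_one_iff_mul_comm.mpr (Subgroup.mem_center_iff.mp hz g)
    rw [this]; exact one_mem _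
  obtain ⟨a₀, ha₀A, ha₀Z⟩ : ∃ a ∈ Z2 P, a ∉ Subgroup.center P := by
    obtain ⟨x₀, y₀, hxy⟩ := hnonab
    have hx₀ : x₀ ∉ Subgroup.center P :=
      fun h => hxy ((Subgroup.mem_center_iff.mp h y₀).symm)
    haveI : Nontrivial (P ⧸ Subgroup.center P) :=
      ⟨⟨QuotientGroup.mk x₀, 1, fun h => hx₀ ((QuotientGroup.eq_one_iff _).mp h)⟩⟩
    obtain ⟨tb, htc, ht1, -⟩ := exists_central_invol (h2.to_quotient (Subgroup.center P))
    obtain ⟨t, rfl⟩ := QuotientGroup.mk_surjective tb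
    refine ⟨t, ?_, fun h => ht1 ((QuotientGroup.eq_one_iff _).mpr h)⟩
    intro g
    have : (QuotientGroup.mk ⁅g, t⁆ : P ⧸ Subgroup.center P) =
        ⁅(QuotientGroup.mk g : P ⧸ Subgroup.center P), QuotientGroup.mk t⁆ := rfl
    rw [← QuotientGroup.eq_one_iff, this, commutatorElement_eq_one_iff_mul_comm]
    exact Subgroup.mem_center_iff.mp htc _
  have ha₀sq : a₀ * a₀ ≠ 1 := fun h => ha₀Z (hic a₀ h)
  have hAsurj : ∀ z ∈ Subgroup.center P, ∃ a ∈ Z2 P, a * a = z := by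
    intro z hz
    by_cases hz1 : z = 1
    · exact ⟨1, one_mem _, by rw [hz1, one_mul]⟩
    · obtain ⟨k, hk, -⟩ := hreg (a₀ * a₀) z ha₀sq (hc _ (hAsq a₀ ha₀A)) hz1 (hc z hz)
      exact ⟨(k : MulAut P) a₀, hAK k a₀ ha₀A, by rw [← map_mul]; exact hk⟩
  have hA6 : ∀ t : P, (∀ a ∈ Z2 P, t * a = a * t) → t * t ∈ Subgroup.center P → t ∈ Z2 P := by
    intro t ht htt
    obtain ⟨a, ha, haa⟩ := hAsurj _ htt
    have hta := ht a ha
    have hz : t * a⁻¹ ∈ Subgroup.center P := by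
      apply hic
      have hta' : a⁻¹ * t = t * a⁻¹ := by
        rw [inv_mul_eq_iff_eq_mul, ← mul_assoc, ← hta, mul_assoc, mul_inv_cancel, mul_one]
      calc t * a⁻¹ * (t * a⁻¹) = t * (a⁻¹ * t) * a⁻¹ := by group
        _ = t * (t * a⁻¹) * a⁻¹ := by rw [hta']
        _ = (t * t) * (a * a)⁻¹ := by group
        _ = 1 := by rw [haa, mul_inv_cancel]
    have : t = t * a⁻¹ * a := by group
    rw [this]; exact (Z2 P).mul_mem (hZA hz) ha
  have hinv' := hinv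
  obtain ⟨z₀, -, -, hz₀, hz₀2, -, -⟩ := hinv'
  by_cases hAab : ∀ a ∈ Z2 P, ∀ b ∈ Z2 P, a * b = b * a
  · exfalso
    have hC : ∀ g : P, g ∈ Subgroup.centralizer (Z2 P : Set P) ↔
        ∀ a ∈ Z2 P, g * a = a * g := fun g =>
      ⟨fun h a ha => (Subgroup.mem_centralizer_iff.mp h a ha).symm,
       fun h => Subgroup.mem_centralizer_iff.mpr (fun a ha => (h a ha).symm)⟩
    have hAC : Z2 P ≤ Subgroup.centralizer (Z2 P : Set P) :=
      fun a ha => (hC a).mpr (fun b hb => hAab a ha b hb)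
    have hKC : KInv K (Subgroup.centralizer (Z2 P : Set P)) := by
      intro k x hx
      rw [hC] at hx ⊢
      intro a ha
      have h1 := hx _ (hAK k⁻¹ a ha)
      have h2' := congrArg (k : MulAut P) h1
      simpa [map_mul] using h2'
    have hCab : ∀ c ∈ Subgroup.centralizer (Z2 P : Set P),
        ∀ c' ∈ Subgroup.centralizer (Z2 P : Set P), c * c' = c' * c := by
      by_contra hcon
      push_neg at hcon
      obtain ⟨c, hc', c', hc'', hne⟩ := hcon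
      have := center_sq_sub h2 K hreg _ hKC hinv z₀ (hAC (hZA (hic z₀ hz₀2))) hz₀ hz₀2
        ⟨c, hc', c', hc'', hne⟩ a₀ (hAC ha₀A) (fun x hx => (hC x).mp hx a₀ ha₀A)
      exact ha₀sq this
    have S : ASetup K (Z2 P) (Subgroup.centralizer (Z2 P : Set P)) :=
      { h2 := h2
        hreg := hreg
        hinv := hinv
        hc := hc
        hAK := hAK
        hA1 := hA1
        hA2 := fun g hg x => by rw [← commutatorElement_inv]; exact inv_mem (hg x)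
        hAab := hAab
        hAsurj := hAsurj
        hAsq := hAsq
        hC := hC
        hCab := hCab
        hCA := fun c hcC hcc => hA6 c ((hC c).mp hcC) hcc
        hsqC := fun g => (hC _).mpr (hsqA g) }
    obtain ⟨x₀, y₀, hxy⟩ := hnonab
    apply S.final_false
    by_contra hcon
    push_neg at hcon
    exact hxy (hCab x₀ (hcon x₀) y₀ (hcon y₀))
  · push_neg at hAab
    obtain ⟨a, ha, b, hb, hab⟩ := hAab
    have hZ2A : ∀ t ∈ Z2 P, (∀ x ∈ Z2 P, x * t = t * x) → t ∈ Subgroup.center P := by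
      intro t ht hcen
      exact hic t (center_sq_sub h2 K hreg (Z2 P) hAK hinv z₀ (hZA (hic z₀ hz₀2)) hz₀ hz₀2
        ⟨a, ha, b, hb, hab⟩ t ht hcen)
    have hCZ : ∀ c : P, (∀ a ∈ Z2 P, c * a = a * c) → c ∈ Subgroup.center P := by
      intro c hcc
      by_contra hcZ
      obtain ⟨m, hm1, hm2⟩ := pow_red h2 c hcZ
      have hcm : ∀ a ∈ Z2 P, c ^ m * a = a * c ^ m :=
        fun a ha => (Commute.pow_left (show Commute c a from hcc a ha) m).eq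
      have htA := hA6 _ hcm hm2
      exact hm1 (hZ2A _ htA (fun x hx => (hcm x hx).symm))
    intro x
    exact hCZ _ (hsqA x)

end Cfsg.Agent.H14.Suz
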