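import Mathlib

set_option autoImplicit false

namespace Cfsg.Agent.H14.Suz

/-- Coordinates: an elementary abelian 2-group with an automorphism whose powers act transitively
on the nonidentity elements is a one-dimensional vector space over any finite field of the same
cardinality, the automorphism acting as a scalar. -/
theorem coord {V : Type*} [Group V] [Finite V] (h2 : ∀ v : V, v * v = 1)
    (g : V ≃* V) (v₀ : V) (hv₀ : v₀ ≠ 1)
    (htrans : ∀ v : V, v ≠ 1 → ∃ n : ℕ, (g ^ n) v₀ = v)
    {F : Type*} [Field F] [Fintype F] (hF : Fintype.card F = Nat.card V) :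
    ∃ (β : V → F) (μ : F), Function.Bijective β ∧ (∀ x y, β (x * y) = β x + β y) ∧
      (∀ v, β (g v) = μ * β v) ∧ β v₀ = 1 := by
  classical
  have hmc : ∀ a b : V, a * b = b * a := by
    intro a b
    have h := h2 (a * b)
    have ha : a⁻¹ = a := inv_eq_of_mul_eq_one_right (h2 a)
    have hb : b⁻¹ = b := inv_eq_of_mul_eq_one_right (h2 b)
    have : a * b = (a * b)⁻¹ := (inv_eq_of_mul_eq_one_right h).symm
    rw [this, mul_inv_rev, ha, hb]
  letI : CommGroup V := { ‹Group V› with mul_comm := hmc }
  let g' : AddMonoid.End (Additive V) := MonoidHom.toAdditive g.toMonoidHom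
  have hg' : ∀ (n : ℕ) (a : Additive V), (g' ^ n) a = Additive.ofMul ((g ^ n) a.toMul) := by
    intro n
    induction n with
    | zero => intro a; simp
    | succ n ih =>
      intro a
      rw [pow_succ, pow_succ]
      show (g' ^ n) (g' a) = _
      rw [ih]
      rfl
  have hginj : ∀ (n : ℕ) (a : Additive V), (g' ^ n) a = 0 → a = 0 := by
    intro n a h
    rw [hg' n a] at h
    have h' : (g ^ n) a.toMul = 1 := h
    have : a.toMul = 1 := by
      have := congrArg (g ^ n).symm h'
      simpa using this
    exact this
  have hcen : Subring.closure ({g'} : Set (AddMonoid.End (Additive V))) ≤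
      Subring.centralizer {g'} :=
    Subring.closure_le.mpr (by
      intro x hx
      rw [Set.mem_singleton_iff] at hx
      subst hx
      intro y hy
      rw [Set.mem_singleton_iff.mp hy])
  letI : CommRing (Subring.closure ({g'} : Set (AddMonoid.End (Additive V)))) :=
    Subring.closureCommRingOfComm (by
      intro a ha b hb
      rw [Set.mem_singleton_iff.mp ha, Set.mem_singleton_iff.mp hb])
  let gR : Subring.closure ({g'} : Set (AddMonoid.End (Additive V))) :=
    ⟨g', Subring.subset_closure rfl⟩
  have hcomm1 : ∀ (r : Subring.closure ({g'} : Set (AddMonoid.End (Additive V))))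
      (a : Additive V), (r : AddMonoid.End (Additive V)) (g' a) = g' ((r : AddMonoid.End (Additive V)) a) := by
    intro r a
    have h := hcen r.2
    rw [Subring.mem_centralizer_iff] at h
    have h' := h g' rfl
    have := congrArg (fun f : AddMonoid.End (Additive V) => f a) h'
    exact this.symm
  have hcommn : ∀ (n : ℕ) (r : Subring.closure ({g'} : Set (AddMonoid.End (Additive V))))
      (a : Additive V), (r : AddMonoid.End (Additive V)) ((g' ^ n) a) =
        (g' ^ n) ((r : AddMonoid.End (Additive V)) a) := by
    intro n
    induction n with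
    | zero => intro r a; simp
    | succ n ih =>
      intro r a
      rw [pow_succ]
      show (r : AddMonoid.End (Additive V)) ((g' ^ n) (g' a)) =
        (g' ^ n) (g' ((r : AddMonoid.End (Additive V)) a))
      rw [ih, hcomm1]
  let a₀ : Additive V := Additive.ofMul v₀
  have ha₀ : a₀ ≠ 0 := hv₀
  have htr : ∀ a : Additive V, a ≠ 0 → ∃ n : ℕ, (g' ^ n) a₀ = a := by
    intro a ha
    obtain ⟨n, hn⟩ := htrans a.toMul ha
    exact ⟨n, by rw [hg']; exact congrArg Additive.ofMul hn⟩
  let ev : Subring.closure ({g'} : Set (AddMonoid.End (Additive V))) → Additive V :=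
    fun r => (r : AddMonoid.End (Additive V)) a₀
  have hev_add : ∀ r s, ev (r + s) = ev r + ev s := fun r s => rfl
  have hev_zero : ∀ r, ev r = 0 → r = 0 := by
    intro r hr
    apply Subtype.ext
    refine DFunLike.ext _ _ (fun a => ?_)
    show (r : AddMonoid.End (Additive V)) a = 0
    by_cases ha : a = 0
    · rw [ha, map_zero]
    · obtain ⟨n, rfl⟩ := htr a ha
      rw [hcommn]
      have : (r : AddMonoid.End (Additive V)) a₀ = 0 := hr
      rw [this, map_zero]
  have hev_inj : Function.Injective ev := by
    intro r s h
    have h' : ev (r - s) = ev r - ev s := rfl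
    have : ev (r - s) = 0 := by rw [h', sub_eq_zero]; exact h
    exact sub_eq_zero.mp (hev_zero _ this)
  have hev_pow : ∀ n : ℕ, ev (gR ^ n) = (g' ^ n) a₀ := fun n => rfl
  have hev_surj : Function.Surjective ev := by
    intro a
    by_cases ha : a = 0
    · exact ⟨0, by rw [ha]; rfl⟩
    · obtain ⟨n, hn⟩ := htr a ha
      exact ⟨gR ^ n, by rw [hev_pow, hn]⟩
  have hev_mul : ∀ r s, ev (r * s) = (r : AddMonoid.End (Additive V)) (ev s) := fun r s => rfl
  haveI : Nontrivial (Subring.closure ({g'} : Set (AddMonoid.End (Additive V)))) := by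
    refine ⟨⟨1, 0, ?_⟩⟩
    intro h
    have : ev 1 = ev 0 := by rw [h]
    exact ha₀ this
  haveI : NoZeroDivisors (Subring.closure ({g'} : Set (AddMonoid.End (Additive V)))) := by
    constructor
    intro r s h
    by_contra hcon
    push_neg at hcon
    have hs : ev s ≠ 0 := fun h0 => hcon.2 (hev_zero s h0)
    obtain ⟨n, hn⟩ := htr (ev s) hs
    have h1 : ev (r * s) = 0 := by rw [h]; rfl
    rw [hev_mul, ← hn, hcommn] at h1
    exact hcon.1 (hev_zero r (hginj n _ h1))
  haveI : IsDomain (Subring.closure ({g'} : Set (AddMonoid.End (Additive V)))) :=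
    NoZeroDivisors.to_isDomain _
  haveI : Finite (AddMonoid.End (Additive V)) :=
    Finite.of_injective (fun f : AddMonoid.End (Additive V) => (f : Additive V → Additive V))
      DFunLike.coe_injective
  letI : Fintype (Subring.closure ({g'} : Set (AddMonoid.End (Additive V)))) := Fintype.ofFinite _
  letI : Field (Subring.closure ({g'} : Set (AddMonoid.End (Additive V)))) :=
    Fintype.fieldOfDomain _
  let evE : Subring.closure ({g'} : Set (AddMonoid.End (Additive V))) ≃ Additive V :=
    Equiv.ofBijective ev ⟨hev_inj, hev_surj⟩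
  have hcard : Fintype.card (Subring.closure ({g'} : Set (AddMonoid.End (Additive V)))) =
      Fintype.card F := by
    rw [hF, ← Nat.card_eq_fintype_card]
    exact Nat.card_congr (evE.trans Additive.toMul)
  let e : Subring.closure ({g'} : Set (AddMonoid.End (Additive V))) ≃+* F :=
    FiniteField.ringEquivOfCardEq hcard
  refine ⟨fun v => e (evE.symm (Additive.ofMul v)), e gR, ?_, ?_, ?_, ?_⟩
  · exact e.bijective.comp (evE.symm.bijective.comp Additive.ofMul.bijective)
  · intro x y
    show e (evE.symm (Additive.ofMul (x * y))) =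
      e (evE.symm (Additive.ofMul x)) + e (evE.symm (Additive.ofMul y))
    rw [← map_add]
    congr 1
    apply evE.injective
    rw [Equiv.apply_symm_apply]
    show _ = ev (evE.symm (Additive.ofMul x) + evE.symm (Additive.ofMul y))
    rw [hev_add]
    show _ = evE (evE.symm (Additive.ofMul x)) + evE (evE.symm (Additive.ofMul y))
    rw [Equiv.apply_symm_apply, Equiv.apply_symm_apply]
    rfl
  · intro v
    show e (evE.symm (Additive.ofMul (g v))) = e gR * e (evE.symm (Additive.ofMul v))
    rw [← map_mul]
    congr 1
    apply evE.injective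
    rw [Equiv.apply_symm_apply]
    show _ = ev (gR * evE.symm (Additive.ofMul v))
    rw [hev_mul]
    show _ = g' (evE (evE.symm (Additive.ofMul v)))
    rw [Equiv.apply_symm_apply]
    rfl
  · show e (evE.symm a₀) = 1
    have : evE.symm a₀ = 1 := by
      apply evE.injective
      rw [Equiv.apply_symm_apply]
      rfl
    rw [this, map_one]

end Cfsg.Agent.H14.Suz
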