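import Cfsg.Agent.H24.FieldAut

set_option autoImplicit false

namespace Cfsg.Agent.H14.Suz

/-- A map `S` on a finite field of characteristic two which is semi-invariant under a generator
`μ` of the multiplicative group and whose polar form is biadditive and nonzero is
`u ↦ S 1 * σ u * τ u` for two distinct automorphisms. -/
theorem field_quad {F : Type*} [Field F] [Fintype F] [CharP F 2] (S : F → F) (μ lam : F)
    (hμ0 : μ ≠ 0)
    (hpow : ∀ u : F, u ≠ 0 → ∃ n : ℕ, u = μ ^ n)
    (hS0 : S 0 = 0)
    (hSeq : ∀ x, S (μ * x) = lam * S x)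
    (hBadd : ∀ x x' y, S (x + x' + y) + S (x + x') + S y =
      (S (x + y) + S x + S y) + (S (x' + y) + S x' + S y))
    (hBne : ∃ x y, S (x + y) ≠ S x + S y) :
    ∃ σ τ : F ≃+* F, σ ≠ τ ∧ ∀ u, S u = S 1 * (σ u * τ u) := by
  classical
  obtain ⟨ι, _, E, coef, hcoef⟩ := H24.exists_aut_coef F
  have h2 : (2 : F) = 0 := CharP.cast_eq_zero F 2
  let Bf : F →+ (F →+ F) := AddMonoidHom.mk'
    (fun y => AddMonoidHom.mk' (fun x => S (x + y) + S x + S y) (fun x x' => hBadd x x' y))
    (by
      intro y y'
      ext x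
      show S (x + (y + y')) + S x + S (y + y') =
        (S (x + y) + S x + S y) + (S (x + y') + S x + S y')
      have := hBadd y y' x
      have e1 : x + (y + y') = y + y' + x := by ring
      rw [e1, add_comm x y, add_comm x y']
      linear_combination this)
  have hBf : ∀ x y, Bf y x = S (x + y) + S x + S y := fun x y => rfl
  have hli : ∀ c : ι → F, (∀ x, ∑ i, c i * E i x = 0) → ∀ i, c i = 0 := by
    have h1 : LinearIndependent F (fun σ : F ≃+* F => ((σ : F →+* F) : F → F)) :=
      (linearIndependent_monoidHom F F).comp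
        (fun σ : F ≃+* F => ((σ : F →+* F) : F →* F))
        (fun σ τ h => by ext x; exact DFunLike.congr_fun h x)
    have h2' := h1.comp E E.injective
    rw [Fintype.linearIndependent_iff] at h2'
    intro c hc i
    apply h2' c _ i
    ext x
    simp only [Finset.sum_apply, Pi.smul_apply, smul_eq_mul, Function.comp]
    exact hc x
  have hstep : ∀ y i, coef (Bf (μ * y)) i * E i μ = lam * coef (Bf y) i := by
    intro y i
    have := hli (fun i => coef (Bf (μ * y)) i * E i μ - lam * coef (Bf y) i) (by
      intro x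
      have e1 : Bf (μ * y) (μ * x) = lam * Bf y x := by
        rw [hBf, hBf, ← mul_add, hSeq, hSeq, hSeq]; ring
      rw [hcoef, hcoef, Finset.mul_sum] at e1
      have e2 : ∑ i, (coef (Bf (μ * y)) i * E i μ - lam * coef (Bf y) i) * E i x =
          ∑ i, coef (Bf (μ * y)) i * E i (μ * x) - ∑ i, lam * (coef (Bf y) i * E i x) := by
        rw [← Finset.sum_sub_distrib]
        apply Finset.sum_congr rfl
        intro i _
        rw [map_mul (E i) μ x]; ring
      rw [e2, e1, sub_self]) i
    exact sub_eq_zero.mp this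
  obtain ⟨x₁, y₁, hne⟩ := hBne
  have hB1 : Bf y₁ x₁ ≠ 0 := by
    rw [hBf]
    intro h
    apply hne
    linear_combination h - (S x₁ + S y₁) * h2
  obtain ⟨i, hi⟩ : ∃ i, coef (Bf y₁) i ≠ 0 := by
    by_contra hcon
    push_neg at hcon
    apply hB1
    rw [hcoef]
    apply Finset.sum_eq_zero
    intro i _
    rw [hcon i, zero_mul]
  let k : F →+ F := ((Pi.evalAddMonoidHom (fun _ : ι => F) i).comp coef).comp Bf
  have hk : ∀ y, k y = coef (Bf y) i := fun y => rfl
  have hEμ : E i μ ≠ 0 := by
    intro h
    exact hμ0 ((map_eq_zero_iff (E i) (E i).injective).mp h)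
  have hkμ : ∀ y, k (μ * y) = lam / E i μ * k y := by
    intro y
    rw [hk, hk, div_mul_eq_mul_div, eq_div_iff hEμ]
    exact hstep y i
  have hkpow : ∀ (n : ℕ) y, k (μ ^ n * y) = (lam / E i μ) ^ n * k y := by
    intro n
    induction n with
    | zero => intro y; simp
    | succ n ih => intro y; rw [pow_succ, mul_assoc, ih, hkμ, pow_succ]; ring
  have hk1 : k 1 ≠ 0 := by
    intro h
    apply hi
    by_cases hy : y₁ = 0
    · rw [← hk, hy, map_zero]
    · obtain ⟨n, hn⟩ := hpow y₁ hy
      rw [← hk, hn, ← mul_one (μ ^ n), hkpow, h, mul_zero]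
  let χ : F →+* F :=
    { toFun := fun u => k u / k 1
      map_one' := div_self hk1
      map_zero' := by simp
      map_add' := fun u v => by rw [map_add, add_div]
      map_mul' := fun u v => by
        by_cases hu : u = 0
        · simp [hu]
        · obtain ⟨n, rfl⟩ := hpow u hu
          have e1 : k (μ ^ n) = (lam / E i μ) ^ n * k 1 := by
            rw [← mul_one (μ ^ n), hkpow]
          rw [hkpow, e1]
          field_simp }
  have hχbij : Function.Bijective χ := by
    have hinj : Function.Injective χ := χ.injective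
    exact ⟨hinj, Finite.injective_iff_surjective.mp hinj⟩
  let τ : F ≃+* F := RingEquiv.ofBijective χ hχbij
  have hτμ : τ μ = lam / E i μ := by
    show k μ / k 1 = lam / E i μ
    have : k μ = lam / E i μ * k 1 := by
      have := hkμ 1
      rwa [mul_one] at this
    rw [this]
    field_simp
  have hlam : lam = E i μ * τ μ := by rw [hτμ]; field_simp
  have hSpow : ∀ n : ℕ, S (μ ^ n) = lam ^ n * S 1 := by
    intro n
    induction n with
    | zero => simp
    | succ n ih => rw [pow_succ', hSeq, ih, pow_succ']; ring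
  have hform : ∀ (σ' : F ≃+* F), lam = σ' μ * τ μ → ∀ u, S u = S 1 * (σ' u * τ u) := by
    intro σ' hl u
    by_cases hu : u = 0
    · simp [hu, hS0]
    · obtain ⟨n, rfl⟩ := hpow u hu
      rw [hSpow, hl, map_pow, map_pow]; ring
  refine ⟨E i, τ, ?_, hform (E i) hlam⟩
  intro hστ
  apply hne
  have hS := hform (E i) hlam
  rw [hστ] at hS
  rw [hS, hS x₁, hS y₁, map_add]
  linear_combination (S 1 * τ x₁ * τ y₁) * h2

/-- if `u ↦ φ u * u` is injective on the nonzero elements then `φ` has odd order -/
theorem odd_order_of_inj {F : Type*} [Field F] [Fintype F] [CharP F 2] (φ : F ≃+* F)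
    (hN : ∀ u : F, u ≠ 0 → φ u * u = 1 → u = 1) : Odd (orderOf φ) := by
  classical
  let _ : Algebra (ZMod 2) F := ZMod.algebra F 2
  have key : ∀ w : F, φ (φ w) = w → φ w = w := by
    intro w hw
    by_cases h0 : w = 0
    · rw [h0, map_zero]
    · have hφw : φ w ≠ 0 := by
        intro h
        exact h0 ((map_eq_zero_iff φ φ.injective).mp h)
      have := hN (w / φ w) (div_ne_zero h0 hφw) (by rw [map_div₀, hw]; field_simp)
      exact ((div_eq_one_iff_eq hφw).mp this).symm
  let φa : F ≃ₐ[ZMod 2] F := AlgEquiv.ofRingEquiv (f := φ) (fun x => RingHom.congr_fun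
        (Subsingleton.elim ((φ : F →+* F).comp (algebraMap (ZMod 2) F))
          (algebraMap (ZMod 2) F)) x)
  have hφa : ∀ x, φa x = φ x := fun x => rfl
  let H : Subgroup (F ≃ₐ[ZMod 2] F) := Subgroup.zpowers (φa ^ 2)
  have hmem : φa ∈ (IntermediateField.fixedField H).fixingSubgroup := by
    rw [IntermediateField.mem_fixingSubgroup_iff]
    intro x hx
    rw [IntermediateField.mem_fixedField_iff] at hx
    have := hx (φa ^ 2) (Subgroup.mem_zpowers _)
    rw [hφa]
    apply key
    rw [← hφa, ← hφa]
    rw [pow_two] at this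
    exact this
  rw [IntermediateField.fixingSubgroup_fixedField H] at hmem
  rw [← mem_powers_iff_mem_zpowers] at hmem
  obtain ⟨n, hn⟩ := hmem
  have hpowfun : ∀ (m : ℕ) (x : F), (φa ^ m) x = (φ ^ m) x := by
    intro m
    induction m with
    | zero => intro x; rfl
    | succ m ih =>
      intro x
      rw [pow_succ, pow_succ]
      show (φa ^ m) (φa x) = (φ ^ m) (φ x)
      rw [ih]; rfl
  have h2n : φ ^ (2 * n) = φ := by
    ext x
    rw [← hpowfun, pow_mul]
    have : (φa ^ 2) ^ n = φa := hn
    rw [this]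
    exact hφa x
  cases n with
  | zero =>
    have : φ = 1 := by rw [← h2n]; simp
    rw [this, orderOf_one]; exact odd_one
  | succ n =>
    have h1 : φ ^ (2 * n + 1) = 1 := by
      have : φ ^ (2 * n + 1) * φ = 1 * φ := by rw [← pow_succ, one_mul]; exact h2n
      exact mul_right_cancel this
    exact Odd.of_dvd_nat (odd_two_mul_add_one n) (orderOf_dvd_of_pow_eq_one h1)

end Cfsg.Agent.H14.Suz
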