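import Cfsg.Agent.H14.SuzCls
import Cfsg.Agent.H14.SuzCW

set_option autoImplicit false

namespace Cfsg.Agent.H14.Suz

open scoped commutatorElement

universe u

theorem quad_card_le_mul {V W : Type*} [Group V] [Group W] [Finite V] [Finite W]
    (h2V : ∀ v : V, v * v = 1) (h2W : ∀ w : W, w * w = 1)
    (Q : V → W) (B : V → V → W) (hQ : ∀ u v, Q (u * v) = Q u * Q v * B u v)
    (hB1 : ∀ u u' v, B (u * u') v = B u v * B u' v)
    (hB2 : ∀ u v v', B u (v * v') = B u v * B u v')
    (hQ0 : ∀ v, Q v = 1 → v = 1) : Nat.card V ≤ Nat.card W ^ 2 := by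
  have hmcV : ∀ a b : V, a * b = b * a := by
    intro a b
    have h := h2V (a * b)
    have ha : a⁻¹ = a := inv_eq_of_mul_eq_one_right (h2V a)
    have hb : b⁻¹ = b := inv_eq_of_mul_eq_one_right (h2V b)
    have : a * b = (a * b)⁻¹ := (inv_eq_of_mul_eq_one_right h).symm
    rw [this, mul_inv_rev, ha, hb]
  have hmcW : ∀ a b : W, a * b = b * a := by
    intro a b
    have h := h2W (a * b)
    have ha : a⁻¹ = a := inv_eq_of_mul_eq_one_right (h2W a)
    have hb : b⁻¹ = b := inv_eq_of_mul_eq_one_right (h2W b)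
    have : a * b = (a * b)⁻¹ := (inv_eq_of_mul_eq_one_right h).symm
    rw [this, mul_inv_rev, ha, hb]
  letI : CommGroup V := { ‹Group V› with mul_comm := hmcV }
  letI : CommGroup W := { ‹Group W› with mul_comm := hmcW }
  exact quad_card_le (V := Additive V) (W := Additive W) (fun v => h2V v.toMul)
    (fun w => h2W w.toMul) (fun v => Additive.ofMul (Q v.toMul))
    (fun u v => Additive.ofMul (B u.toMul v.toMul)) (fun u v => hQ u.toMul v.toMul)
    (fun u u' v => hB1 u.toMul u'.toMul v.toMul) (fun u v v' => hB2 u.toMul v.toMul v'.toMul)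
    (fun v hv => hQ0 v.toMul hv)

section fin

variable {P : Type u} [Group P] [Finite P] (h2 : IsPGroup 2 P) (K : Subgroup (MulAut P))
  [IsCyclic K] (hreg : Reg K)
  (hinv : ∃ x y : P, x ≠ y ∧ x ≠ 1 ∧ x * x = 1 ∧ y ≠ 1 ∧ y * y = 1)
  (hnonab : ∃ x y : P, x * y ≠ y * x)

include h2 hreg hinv hnonab

theorem quot_sq_main : ∀ v : P ⧸ Subgroup.center P, v * v = 1 := by
  have hsq := sq_central_main h2 K hreg hinv hnonab
  intro v
  obtain ⟨x, rfl⟩ := QuotientGroup.mk_surjective v
  rw [← QuotientGroup.mk_mul, QuotientGroup.eq_one_iff]; exact hsq x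

theorem comm_central_main (x y : P) : x⁻¹ * y⁻¹ * x * y ∈ Subgroup.center P := by
  have hQ2 := quot_sq_main h2 K hreg hinv hnonab
  rw [← QuotientGroup.eq_one_iff]
  show (QuotientGroup.mk x : P ⧸ Subgroup.center P)⁻¹ * (QuotientGroup.mk y)⁻¹ *
    QuotientGroup.mk x * QuotientGroup.mk y = 1
  rw [inv_eq_of_mul_eq_one_right (hQ2 _), inv_eq_of_mul_eq_one_right (hQ2 _), mul_assoc]
  exact hQ2 _

theorem exponent_main : Monoid.exponent P = 4 := by
  have hc := center_sq ⟨inferInstance, h2, hinv, K, inferInstance, hreg⟩ hnonab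
  have hsq := sq_central_main h2 K hreg hinv hnonab
  have h4 : ∀ x : P, x ^ 4 = 1 := by
    intro x
    have := hc _ (hsq x)
    calc x ^ 4 = (x * x) * (x * x) := by
          rw [show (4 : ℕ) = 2 * 2 from rfl, pow_mul, pow_two, pow_two]
      _ = 1 := this
  have hdvd : Monoid.exponent P ∣ 4 := Monoid.exponent_dvd_of_forall_pow_eq_one h4
  have hnot2 : ¬ (Monoid.exponent P ∣ 2) := by
    intro h
    obtain ⟨x₀, y₀, hxy⟩ := hnonab
    have h2x : ∀ x : P, x * x = 1 := by
      intro x
      have := Monoid.exponent_dvd_iff_forall_pow_eq_one.mp h x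
      rwa [pow_two] at this
    apply hxy
    have ha : x₀⁻¹ = x₀ := inv_eq_of_mul_eq_one_right (h2x x₀)
    have hb : y₀⁻¹ = y₀ := inv_eq_of_mul_eq_one_right (h2x y₀)
    have : x₀ * y₀ = (x₀ * y₀)⁻¹ := (inv_eq_of_mul_eq_one_right (h2x _)).symm
    rw [this, mul_inv_rev, ha, hb]
  have hmem : Monoid.exponent P ∈ Nat.divisors 4 := Nat.mem_divisors.mpr ⟨hdvd, by norm_num⟩
  have hdiv : Nat.divisors 4 = {1, 2, 4} := by decide
  rw [hdiv] at hmem
  simp only [Finset.mem_insert, Finset.mem_singleton] at hmem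
  rcases hmem with h | h | h
  · exact absurd (by rw [h]; exact one_dvd 2) hnot2
  · exact absurd (by rw [h]) hnot2
  · exact h

theorem card_main : Nat.card P = Nat.card (Subgroup.center P) ^ 2 ∨
    Nat.card P = Nat.card (Subgroup.center P) ^ 3 := by
  classical
  haveI : Fact (Nat.Prime 2) := ⟨Nat.prime_two⟩
  have hc := center_sq ⟨inferInstance, h2, hinv, K, inferInstance, hreg⟩ hnonab
  have hic : ∀ x : P, x * x = 1 → x ∈ Subgroup.center P := sq_one_central h2 K hreg
  have hsq := sq_central_main h2 K hreg hinv hnonab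
  have hQ2 := quot_sq_main h2 K hreg hinv hnonab
  have hcomm : ∀ x y : P, ⁅x, y⁆ ∈ Om P := by
    intro x y
    have h1 : ⁅x, y⁆ ∈ Subgroup.center P := by
      have e : ⁅x, y⁆ = x⁻¹⁻¹ * y⁻¹⁻¹ * x⁻¹ * y⁻¹ := by
        simp only [commutatorElement_def]; group
      rw [e]
      exact comm_central_main h2 K hreg hinv hnonab x⁻¹ y⁻¹
    exact ⟨h1, hc _ h1⟩
  let sqZ : P → Subgroup.center P := fun x => ⟨x * x, hsq x⟩
  have hsqZ : ∀ (x : P) (c : P), c ∈ Subgroup.center P → sqZ (x * c) = sqZ x := by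
    intro x c hcc
    apply Subtype.ext
    show x * c * (x * c) = x * x
    have h1 := Subgroup.mem_center_iff.mp hcc
    calc x * c * (x * c) = x * (c * x) * c := by group
      _ = x * (x * c) * c := by rw [← h1 x]
      _ = x * x * (c * c) := by group
      _ = x * x := by rw [hc c hcc, mul_one]
  let Q : P ⧸ Subgroup.center P → Subgroup.center P := fun v => sqZ v.out
  have hQmk : ∀ x : P, Q (QuotientGroup.mk x) = sqZ x := by
    intro x
    obtain ⟨⟨c, hcc⟩, hh⟩ := QuotientGroup.mk_out_eq_mul (Subgroup.center P) x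
    show sqZ (QuotientGroup.mk x : P ⧸ Subgroup.center P).out = sqZ x
    rw [hh, hsqZ x c hcc]
  let B : P ⧸ Subgroup.center P → P ⧸ Subgroup.center P → Subgroup.center P :=
    fun u v => ⟨⁅v.out, u.out⁆, (hcomm _ _).1⟩
  have hcz : ∀ (x c : P), c ∈ Subgroup.center P → ⁅x, c⁆ = 1 ∧ ⁅c, x⁆ = 1 := by
    intro x c hcc
    have h1 := Subgroup.mem_center_iff.mp hcc x
    exact ⟨commutatorElement_eq_one_iff_mul_comm.mpr h1,
      commutatorElement_eq_one_iff_mul_comm.mpr h1.symm⟩
  have hBmk : ∀ x y : P, B (QuotientGroup.mk x) (QuotientGroup.mk y) =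
      ⟨⁅y, x⁆, (hcomm _ _).1⟩ := by
    intro x y
    obtain ⟨⟨c, hcc⟩, hh⟩ := QuotientGroup.mk_out_eq_mul (Subgroup.center P) x
    obtain ⟨⟨c', hcc'⟩, hh'⟩ := QuotientGroup.mk_out_eq_mul (Subgroup.center P) y
    apply Subtype.ext
    show ⁅(QuotientGroup.mk y : P ⧸ Subgroup.center P).out,
      (QuotientGroup.mk x : P ⧸ Subgroup.center P).out⁆ = ⁅y, x⁆
    rw [hh, hh']
    show ⁅y * c', x * c⁆ = ⁅y, x⁆
    rw [comm_mul_left hcomm, comm_mul_right hcomm, comm_mul_right hcomm, (hcz y c hcc).1,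
      (hcz x c' hcc').2, (hcz c' c hcc).1]
    simp only [mul_one]
  have hle : Nat.card (P ⧸ Subgroup.center P) ≤ Nat.card (Subgroup.center P) ^ 2 := by
    apply quad_card_le_mul hQ2 (fun z => Subtype.ext (hc z z.2)) Q B
    · intro u v
      obtain ⟨x, rfl⟩ := QuotientGroup.mk_surjective u
      obtain ⟨y, rfl⟩ := QuotientGroup.mk_surjective v
      rw [← QuotientGroup.mk_mul, hQmk, hQmk, hQmk, hBmk]
      apply Subtype.ext
      show (x * y) * (x * y) = (x * x) * (y * y) * ⁅y, x⁆
      rw [mul_sq hcomm x y]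
      exact (Subgroup.mem_center_iff.mp (hcomm y x).1 _).symm
    · intro u u' v
      obtain ⟨x, rfl⟩ := QuotientGroup.mk_surjective u
      obtain ⟨x', rfl⟩ := QuotientGroup.mk_surjective u'
      obtain ⟨y, rfl⟩ := QuotientGroup.mk_surjective v
      rw [← QuotientGroup.mk_mul, hBmk, hBmk, hBmk]
      apply Subtype.ext
      show ⁅y, x * x'⁆ = ⁅y, x⁆ * ⁅y, x'⁆
      exact comm_mul_right hcomm y x x'
    · intro u v v'
      obtain ⟨x, rfl⟩ := QuotientGroup.mk_surjective u
      obtain ⟨y, rfl⟩ := QuotientGroup.mk_surjective v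
      obtain ⟨y', rfl⟩ := QuotientGroup.mk_surjective v'
      rw [← QuotientGroup.mk_mul, hBmk, hBmk, hBmk]
      apply Subtype.ext
      show ⁅y * y', x⁆ = ⁅y, x⁆ * ⁅y', x⁆
      exact comm_mul_left hcomm y y' x
    · intro v hv
      obtain ⟨x, rfl⟩ := QuotientGroup.mk_surjective v
      rw [hQmk] at hv
      have : x * x = 1 := congrArg Subtype.val hv
      exact (QuotientGroup.eq_one_iff x).mpr (hic x this)
  have hinv' := hinv
  obtain ⟨z₀, -, -, hz₀, hz₀2, -, -⟩ := hinv'
  have hz₀c := hic z₀ hz₀2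
  have hKcard : Nat.card K + 1 = Nat.card (Subgroup.center P) := by
    rw [← Finite.card_option]
    let g : Option K → Subgroup.center P := fun o => o.elim 1 (fun k =>
      ⟨(k : MulAut P) z₀, aut_mem_center _ hz₀c⟩)
    have hnone : ∀ k : K, g (some k) ≠ g none := by
      intro k h
      have h' : (k : MulAut P) z₀ = 1 := congrArg Subtype.val h
      exact hz₀ (by simpa using h')
    apply Nat.card_congr (Equiv.ofBijective g ⟨?_, ?_⟩)
    · intro o o' h
      cases o with
      | none =>
        cases o' with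
        | none => rfl
        | some k' => exact absurd h.symm (hnone k')
      | some k =>
        cases o' with
        | none => exact absurd h (hnone k)
        | some k' =>
          have h' : (k : MulAut P) z₀ = (k' : MulAut P) z₀ := congrArg Subtype.val h
          have : k'⁻¹ * k = 1 := fpf h2 K hreg (k'⁻¹ * k) z₀ hz₀ (by
            show ((k' : MulAut P)⁻¹ * (k : MulAut P)) z₀ = z₀
            rw [MulAut.mul_apply, h', MulAut.inv_apply_self])
          congr 1
          exact (inv_mul_eq_one.mp this).symm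
    · rintro ⟨z, hz⟩
      by_cases h1 : z = 1
      · exact ⟨none, by apply Subtype.ext; simp [g, h1]⟩
      · obtain ⟨k, hk, -⟩ := hreg z₀ z hz₀ hz₀2 h1 (hc z hz)
        exact ⟨some k, by apply Subtype.ext; exact hk⟩
  have hKZ : KInv K (Subgroup.center P) := KInv_center K
  have hdvdK : Nat.card K ∣ Nat.card (P ⧸ Subgroup.center P) - 1 := by
    letI : Fintype K := Fintype.ofFinite K
    letI : Fintype (P ⧸ Subgroup.center P) := Fintype.ofFinite _
    letI : MulAction K (P ⧸ Subgroup.center P) :=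
      MulAction.compHom _ (quotAct K (Subgroup.center P) hKZ)
    have hsmul : ∀ (k : K) (v : P ⧸ Subgroup.center P),
        k • v = quotAct K (Subgroup.center P) hKZ k v := fun k v => rfl
    have hfix1 : ∀ k : K, k ≠ 1 → ∀ v : P ⧸ Subgroup.center P, k • v = v → v = 1 := by
      intro k hk v hv
      obtain ⟨x, rfl⟩ := QuotientGroup.mk_surjective v
      by_contra hx
      have hxZ : x ∉ Subgroup.center P := fun h => hx ((QuotientGroup.eq_one_iff x).mpr h)
      rw [hsmul, quotAct_mk] at hv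
      have hmem : x⁻¹ * (k : MulAut P) x ∈ Subgroup.center P := QuotientGroup.eq.mp hv.symm
      exact hk (free_mod h2 K hreg (Subgroup.center P) hKZ k x _ hxZ hmem (by group))
    have hburn := MulAction.sum_card_fixedBy_eq_card_orbits_mul_card_group K
      (P ⧸ Subgroup.center P)
    have hpos : 0 < Nat.card (P ⧸ Subgroup.center P) := Nat.card_pos
    have hterm : ∀ k : K, Fintype.card (MulAction.fixedBy (P ⧸ Subgroup.center P) k) =
        (if k = 1 then Nat.card (P ⧸ Subgroup.center P) - 1 else 0) + 1 := by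
      intro k
      rw [Fintype.card_eq_nat_card, Nat.card_coe_set_eq]
      by_cases hk : k = 1
      · rw [if_pos hk, hk]
        have : MulAction.fixedBy (P ⧸ Subgroup.center P) (1 : K) = Set.univ := by
          ext v
          simp [MulAction.mem_fixedBy]
        rw [this, Set.ncard_univ]
        omega
      · rw [if_neg hk]
        have : MulAction.fixedBy (P ⧸ Subgroup.center P) k = {1} := by
          ext v
          rw [MulAction.mem_fixedBy, Set.mem_singleton_iff]
          constructor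
          · exact hfix1 k hk v
          · intro h
            rw [h, hsmul, map_one]
        rw [this, Set.ncard_singleton]
    rw [Finset.sum_congr rfl (fun k _ => hterm k), Finset.sum_add_distrib,
      Finset.sum_ite_eq', if_pos (Finset.mem_univ _), Finset.sum_const, Finset.card_univ,
      smul_eq_mul, mul_one] at hburn
    rw [Nat.card_eq_fintype_card (α := K)]
    have h3 : Fintype.card K ∣ (Nat.card (P ⧸ Subgroup.center P) - 1) + Fintype.card K :=
      ⟨_, by rw [mul_comm]; exact hburn⟩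
    exact Nat.dvd_add_self_right.mp h3
  obtain ⟨n, hn⟩ := IsPGroup.iff_card.mp (h2.to_subgroup (Subgroup.center P))
  obtain ⟨m, hm⟩ := IsPGroup.iff_card.mp (h2.to_quotient (Subgroup.center P))
  have hn0 : 0 < n := by
    rcases Nat.eq_zero_or_pos n with h | h
    · exfalso
      rw [h, pow_zero] at hn
      haveI := (Nat.card_eq_one_iff_unique.mp hn).1
      exact hz₀ (congrArg Subtype.val (Subsingleton.elim (⟨z₀, hz₀c⟩ : Subgroup.center P) 1))
    · exact h
  have hm0 : 0 < m := by
    rcases Nat.eq_zero_or_pos m with h | h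
    · exfalso
      rw [h, pow_zero] at hm
      haveI := (Nat.card_eq_one_iff_unique.mp hm).1
      obtain ⟨x₀, y₀, hxy⟩ := hnonab
      have hx₀ : x₀ ∈ Subgroup.center P :=
        (QuotientGroup.eq_one_iff x₀).mp (Subsingleton.elim _ _)
      exact hxy ((Subgroup.mem_center_iff.mp hx₀ y₀).symm)
    · exact h
  have hKc : Nat.card K = 2 ^ n - 1 := by omega
  rw [hKc, hm] at hdvdK
  rw [hm, hn, ← pow_mul] at hle
  have hmle : m ≤ n * 2 := (Nat.pow_le_pow_iff_right (by norm_num)).mp hle
  have hgcd := Nat.pow_sub_one_gcd_pow_sub_one 2 n m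
  rw [Nat.gcd_eq_left hdvdK] at hgcd
  have h1n : 1 ≤ 2 ^ n := Nat.one_le_two_pow
  have h1g : 1 ≤ 2 ^ n.gcd m := Nat.one_le_two_pow
  have hpow : 2 ^ n = 2 ^ n.gcd m := by omega
  have hng : n = n.gcd m := Nat.pow_right_injective (le_refl 2) hpow
  have hnm : n ∣ m := by rw [hng]; exact Nat.gcd_dvd_right n m
  obtain ⟨t, ht⟩ := hnm
  have ht1 : 1 ≤ t := by
    rcases Nat.eq_zero_or_pos t with h | h
    · rw [h, mul_zero] at ht; omega
    · exact h
  have ht2 : t ≤ 2 := by
    rw [ht] at hmle
    exact Nat.le_of_mul_le_mul_left hmle hn0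
  have hcardP := Subgroup.card_eq_card_quotient_mul_card_subgroup (Subgroup.center P)
  rw [hm, hn] at hcardP
  rw [hcardP, hn]
  have htc : t = 1 ∨ t = 2 := by omega
  rcases htc with h | h
  · left
    rw [ht, h, mul_one, ← pow_two]
  · right
    rw [ht, h, pow_mul]
    ring

end fin

end Cfsg.Agent.H14.Suz
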