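import Mathlib
import Cfsg.Prelude.Def_LieRecognition

set_option autoImplicit false

namespace Cfsg.Agent.H14.Suz

/-- complements in groups of exponent two -/
theorem exists_compl_exp_two {G : Type*} [Group G] [Finite G] (h2 : ∀ g : G, g * g = 1)
    (W : Subgroup G) :
    ∃ Γ : Subgroup G, (∀ g, g ∈ Γ → g ∈ W → g = 1) ∧ ∀ g : G, ∃ c ∈ Γ, ∃ w ∈ W, g = c * w := by
  classical
  have hmc : ∀ a b : G, a * b = b * a := by
    intro a b
    have h := h2 (a * b)
    have ha : a⁻¹ = a := inv_eq_of_mul_eq_one_right (h2 a)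
    have hb : b⁻¹ = b := inv_eq_of_mul_eq_one_right (h2 b)
    have : a * b = (a * b)⁻¹ := (inv_eq_of_mul_eq_one_right h).symm
    rw [this, mul_inv_rev, ha, hb]
  obtain ⟨Γ, -, hΓ⟩ := Finite.exists_le_maximal (α := Subgroup G)
    (p := fun Γ => ∀ g, g ∈ Γ → g ∈ W → g = 1) (a := ⊥)
    (by intro g hg _; exact Subgroup.mem_bot.mp hg)
  refine ⟨Γ, hΓ.prop, ?_⟩
  intro g
  by_contra hcon
  push_neg at hcon
  let Γ' : Subgroup G :=
    { carrier := {x | x ∈ Γ ∨ g * x ∈ Γ}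
      one_mem' := Or.inl (one_mem _)
      mul_mem' := by
        rintro x y (hx | hx) (hy | hy)
        · exact Or.inl (mul_mem hx hy)
        · right
          have : g * (x * y) = x * (g * y) := by rw [← mul_assoc, hmc g x, mul_assoc]
          rw [this]; exact mul_mem hx hy
        · right; rw [← mul_assoc]; exact mul_mem hx hy
        · left
          have : x * y = (g * x) * (g * y) := by
            calc x * y = (g * g) * (x * y) := by rw [h2, one_mul]
              _ = g * (g * x) * y := by simp only [mul_assoc]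
              _ = g * (x * g) * y := by rw [hmc g x]
              _ = (g * x) * (g * y) := by simp only [mul_assoc]
          rw [this]; exact mul_mem hx hy
      inv_mem' := by
        rintro x (hx | hx)
        · exact Or.inl (inv_mem hx)
        · right
          have hxi : x⁻¹ = x := inv_eq_of_mul_eq_one_right (h2 x)
          rw [hxi]; exact hx }
  have hle : Γ ≤ Γ' := fun x hx => Or.inl hx
  have hp' : ∀ x, x ∈ Γ' → x ∈ W → x = 1 := by
    rintro x (hx | hx) hxW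
    · exact hΓ.prop x hx hxW
    · exfalso
      apply hcon (g * x) hx x hxW
      rw [mul_assoc, h2, mul_one]
  have hge := hΓ.le_of_ge hp' hle
  have hg : g ∈ Γ' := Or.inr (by rw [h2]; exact one_mem _)
  have hgΓ : g ∈ Γ := hge hg
  exact hcon g hgΓ 1 (one_mem _) (by rw [mul_one])

/-- two central extensions of an elementary abelian 2-group by an elementary abelian 2-group
with the same squaring map are isomorphic -/
theorem iso_of_sq {P T A : Type*} [Group P] [Group T] [Group A] [Finite P] [Finite T]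
    (a : P →* A) (b : T →* A) (ha : Function.Surjective a) (hb : Function.Surjective b)
    (hZP : ∀ z, a z = 1 → z ∈ Subgroup.center P) (hZT : ∀ t, b t = 1 → t ∈ Subgroup.center T)
    (γ : P → T) (hγmul : ∀ z z', a z = 1 → a z' = 1 → γ (z * z') = γ z * γ z')
    (hγker : ∀ z, a z = 1 → b (γ z) = 1)
    (hγinj : ∀ z, a z = 1 → γ z = 1 → z = 1)
    (hγsurj : ∀ t, b t = 1 → ∃ z, a z = 1 ∧ γ z = t)
    (hsq : ∀ p t, a p = b t → a (p * p) = 1 ∧ γ (p * p) = t * t) : Nonempty (P ≃* T) := by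
  classical
  have hγ1 : γ 1 = 1 := by
    have := hγmul 1 1 (map_one a) (map_one a)
    rw [one_mul] at this
    exact (mul_eq_left.mp this.symm)
  have hγinv : ∀ z, a z = 1 → γ z⁻¹ = (γ z)⁻¹ := by
    intro z hz
    have := hγmul z z⁻¹ hz (by rw [map_inv, hz, inv_one])
    rw [mul_inv_cancel, hγ1] at this
    exact (eq_inv_of_mul_eq_one_right this.symm)
  let E : Subgroup (P × T) :=
    { carrier := {e | a e.1 = b e.2}
      one_mem' := by simp
      mul_mem' := by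
        intro x y hx hy
        simp only [Set.mem_setOf_eq, Prod.fst_mul, Prod.snd_mul, map_mul] at *
        rw [hx, hy]
      inv_mem' := by
        intro x hx
        simp only [Set.mem_setOf_eq, Prod.fst_inv, Prod.snd_inv, map_inv] at *
        rw [hx] }
  have hE : ∀ e : E, a e.1.1 = b e.1.2 := fun e => e.2
  let N : Subgroup E :=
    { carrier := {e | a e.1.1 = 1 ∧ e.1.2 = γ e.1.1}
      one_mem' := ⟨map_one a, hγ1.symm⟩
      mul_mem' := by
        rintro x y ⟨hx1, hx2⟩ ⟨hy1, hy2⟩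
        refine ⟨?_, ?_⟩
        · show a (x.1.1 * y.1.1) = 1
          rw [map_mul, hx1, hy1, one_mul]
        · show x.1.2 * y.1.2 = γ (x.1.1 * y.1.1)
          rw [hγmul _ _ hx1 hy1, hx2, hy2]
      inv_mem' := by
        rintro x ⟨hx1, hx2⟩
        refine ⟨?_, ?_⟩
        · show a (x.1.1)⁻¹ = 1
          rw [map_inv, hx1, inv_one]
        · show (x.1.2)⁻¹ = γ (x.1.1)⁻¹
          rw [hγinv _ hx1, hx2] }
  have hN : ∀ e : E, e ∈ N ↔ a e.1.1 = 1 ∧ e.1.2 = γ e.1.1 := fun e => Iff.rfl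
  haveI : N.Normal := by
    constructor
    rintro n ⟨hn1, hn2⟩ e
    have : e * n * e⁻¹ = n := by
      apply Subtype.ext
      apply Prod.ext
      · show e.1.1 * n.1.1 * (e.1.1)⁻¹ = n.1.1
        have := Subgroup.mem_center_iff.mp (hZP _ hn1) e.1.1
        rw [this, mul_assoc, mul_inv_cancel, mul_one]
      · show e.1.2 * n.1.2 * (e.1.2)⁻¹ = n.1.2
        have hb1 : b n.1.2 = 1 := by rw [hn2]; exact hγker _ hn1
        have := Subgroup.mem_center_iff.mp (hZT _ hb1) e.1.2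
        rw [this, mul_assoc, mul_inv_cancel, mul_one]
    rw [this]; exact ⟨hn1, hn2⟩
  have hexp : ∀ q : E ⧸ N, q * q = 1 := by
    intro q
    obtain ⟨e, rfl⟩ := QuotientGroup.mk_surjective q
    rw [← QuotientGroup.mk_mul, QuotientGroup.eq_one_iff]
    obtain ⟨h1, h2⟩ := hsq e.1.1 e.1.2 (hE e)
    exact ⟨h1, h2.symm⟩
  let W₀ : Subgroup E :=
    { carrier := {e | a e.1.1 = 1}
      one_mem' := map_one a
      mul_mem' := by
        intro x y hx hy
        show a (x.1.1 * y.1.1) = 1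
        rw [map_mul, show a x.1.1 = 1 from hx, show a y.1.1 = 1 from hy, one_mul]
      inv_mem' := by
        intro x hx
        show a (x.1.1)⁻¹ = 1
        rw [map_inv, show a x.1.1 = 1 from hx, inv_one] }
  have hW₀ : ∀ e : E, e ∈ W₀ ↔ a e.1.1 = 1 := fun e => Iff.rfl
  obtain ⟨Γ, hΓ1, hΓ2⟩ := exists_compl_exp_two hexp (W₀.map (QuotientGroup.mk' N))
  let R : P → T → Prop := fun p t => ∃ e : E, e.1.1 = p ∧ e.1.2 = t ∧ (QuotientGroup.mk e : E ⧸ N) ∈ Γ
  have hRmul : ∀ p t p' t', R p t → R p' t' → R (p * p') (t * t') := by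
    rintro p t p' t' ⟨e, rfl, rfl, he⟩ ⟨e', rfl, rfl, he'⟩
    exact ⟨e * e', rfl, rfl, by rw [QuotientGroup.mk_mul]; exact mul_mem he he'⟩
  have hdiff : ∀ e e' : E, (QuotientGroup.mk e : E ⧸ N) ∈ Γ → (QuotientGroup.mk e' : E ⧸ N) ∈ Γ →
      a (e.1.1⁻¹ * e'.1.1) = 1 → e.1.2⁻¹ * e'.1.2 = γ (e.1.1⁻¹ * e'.1.1) := by
    intro e e' he he' h1
    have hm : (QuotientGroup.mk (e⁻¹ * e') : E ⧸ N) ∈ Γ := by
      rw [QuotientGroup.mk_mul, QuotientGroup.mk_inv]; exact mul_mem (inv_mem he) he'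
    have hw : (QuotientGroup.mk (e⁻¹ * e') : E ⧸ N) ∈ W₀.map (QuotientGroup.mk' N) :=
      ⟨e⁻¹ * e', h1, rfl⟩
    have := hΓ1 _ hm hw
    rw [QuotientGroup.eq_one_iff] at this
    exact this.2
  have huniq : ∀ p t t', R p t → R p t' → t = t' := by
    rintro p t t' ⟨e, rfl, rfl, he⟩ ⟨e', h1, rfl, he'⟩
    have h0 : e.1.1⁻¹ * e'.1.1 = 1 := by rw [h1, inv_mul_cancel]
    have := hdiff e e' he he' (by rw [h0, map_one])
    rw [h0, hγ1] at this
    exact inv_mul_eq_one.mp this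
  have huniq' : ∀ p p' t, R p t → R p' t → p = p' := by
    rintro p p' t ⟨e, rfl, rfl, he⟩ ⟨e', rfl, h2, he'⟩
    have h0 : e.1.2⁻¹ * e'.1.2 = 1 := by rw [h2, inv_mul_cancel]
    have h1 : a (e.1.1⁻¹ * e'.1.1) = 1 := by
      rw [map_mul, map_inv, hE e, hE e', ← map_inv, ← map_mul, h0, map_one]
    have := hdiff e e' he he' h1
    rw [h0] at this
    exact inv_mul_eq_one.mp (hγinj _ h1 this.symm)
  have hex : ∀ p : P, ∃ t, R p t := by
    intro p
    obtain ⟨t₀, ht₀⟩ := hb (a p)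
    let e₀ : E := ⟨(p, t₀), ht₀.symm⟩
    obtain ⟨c, hc, w, ⟨e₁, he₁, rfl⟩, hcw⟩ := hΓ2 (QuotientGroup.mk e₀)
    have hz : a e₁.1.1 = 1 := he₁
    let n : E := ⟨(e₁.1.1, γ e₁.1.1), by
      show a e₁.1.1 = b (γ e₁.1.1)
      rw [hz, hγker _ hz]⟩
    have hn : n ∈ N := ⟨hz, rfl⟩
    refine ⟨(e₀ * e₁⁻¹ * n).1.2, e₀ * e₁⁻¹ * n, ?_, rfl, ?_⟩
    · show p * (e₁.1.1)⁻¹ * e₁.1.1 = p
      rw [inv_mul_cancel_right]
    · have hc' : c = QuotientGroup.mk (e₀ * e₁⁻¹ * n) := by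
        rw [QuotientGroup.mk_mul, QuotientGroup.mk_mul, QuotientGroup.mk_inv,
          (QuotientGroup.eq_one_iff n).mpr hn, mul_one, hcw]
        show c = c * QuotientGroup.mk e₁ * (QuotientGroup.mk e₁)⁻¹
        rw [mul_inv_cancel_right]
      rw [← hc']; exact hc
  have hex' : ∀ t : T, ∃ p, R p t := by
    intro t
    obtain ⟨p₀, hp₀⟩ := ha (b t)
    let e₀ : E := ⟨(p₀, t), hp₀⟩
    obtain ⟨c, hc, w, ⟨e₁, he₁, rfl⟩, hcw⟩ := hΓ2 (QuotientGroup.mk e₀)
    have hz : a e₁.1.1 = 1 := he₁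
    have hz' : b e₁.1.2 = 1 := by rw [← hE e₁]; exact hz
    obtain ⟨z'', hz''1, hz''2⟩ := hγsurj _ hz'
    let n : E := ⟨(z'', γ z''), by
      show a z'' = b (γ z'')
      rw [hz''1, hγker _ hz''1]⟩
    have hn : n ∈ N := ⟨hz''1, rfl⟩
    refine ⟨(e₀ * e₁⁻¹ * n).1.1, e₀ * e₁⁻¹ * n, rfl, ?_, ?_⟩
    · show t * (e₁.1.2)⁻¹ * γ z'' = t
      rw [hz''2, inv_mul_cancel_right]
    · have hc' : c = QuotientGroup.mk (e₀ * e₁⁻¹ * n) := by
        rw [QuotientGroup.mk_mul, QuotientGroup.mk_mul, QuotientGroup.mk_inv,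
          (QuotientGroup.eq_one_iff n).mpr hn, mul_one, hcw]
        show c = c * QuotientGroup.mk e₁ * (QuotientGroup.mk e₁)⁻¹
        rw [mul_inv_cancel_right]
      rw [← hc']; exact hc
  choose f hf using hex
  have hfmul : ∀ p p', f (p * p') = f p * f p' := fun p p' =>
    huniq _ _ _ (hf (p * p')) (hRmul _ _ _ _ (hf p) (hf p'))
  refine ⟨MulEquiv.ofBijective (MonoidHom.mk' f hfmul) ⟨?_, ?_⟩⟩
  · intro p p' h
    have h' : f p = f p' := h
    exact huniq' p p' (f p) (hf p) (by rw [h']; exact hf p')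
  · intro t
    obtain ⟨p, hp⟩ := hex' t
    exact ⟨p, huniq p _ _ (hf p) hp⟩

namespace TA

variable {F : Type*} [Field F] (φ : F →+* F)

/-- the defining matrices of the type A group -/
def mat (x y : F) : Matrix (Fin 3) (Fin 3) F := !![1, 0, 0; x, 1, 0; y, φ x, 1]

theorem mat_mul (x y x' y' : F) :
    mat φ x y * mat φ x' y' = mat φ (x + x') (y + y' + φ x * x') := by
  ext i j
  fin_cases i <;> fin_cases j <;> simp [mat, Matrix.mul_apply, Fin.sum_univ_three] <;> ring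

theorem mat_zero : mat φ 0 0 = 1 := by
  ext i j
  fin_cases i <;> fin_cases j <;> simp [mat]

/-- the elements of the type A group -/
def el (x y : F) : GL (Fin 3) F :=
  ⟨mat φ x y, mat φ (-x) (-y + φ x * x),
    by
      rw [mat_mul]
      have e1 : x + -x = 0 := by ring
      have e2 : y + (-y + φ x * x) + φ x * -x = 0 := by ring
      rw [e1, e2, mat_zero],
    by
      rw [mat_mul]
      have e1 : -x + x = 0 := by ring
      have e2 : -y + φ x * x + y + φ (-x) * x = 0 := by rw [map_neg]; ring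
      rw [e1, e2, mat_zero]⟩

theorem el_val (x y : F) :
    ((el φ x y : GL (Fin 3) F) : Matrix (Fin 3) (Fin 3) F) = mat φ x y := rfl

theorem el_mul (x y x' y' : F) :
    el φ x y * el φ x' y' = el φ (x + x') (y + y' + φ x * x') :=
  Units.ext (mat_mul φ x y x' y')

theorem el_one : el φ 0 0 = 1 := Units.ext (mat_zero φ)

theorem el_inv (x y : F) : (el φ x y)⁻¹ = el φ (-x) (-y + φ x * x) := Units.ext rfl

theorem el_mem (x y : F) : el φ x y ∈ Cfsg.suzukiTypeA F φ :=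
  Subgroup.subset_closure ⟨x, y, rfl⟩

theorem mem_iff (g : GL (Fin 3) F) : g ∈ Cfsg.suzukiTypeA F φ ↔ ∃ x y, g = el φ x y := by
  constructor
  · intro hg
    induction hg using Subgroup.closure_induction with
    | mem g hg => obtain ⟨x, y, h⟩ := hg; exact ⟨x, y, Units.ext h⟩
    | one => exact ⟨0, 0, (el_one φ).symm⟩
    | mul g h _ _ ihg ihh =>
      obtain ⟨x, y, rfl⟩ := ihg
      obtain ⟨x', y', rfl⟩ := ihh
      exact ⟨_, _, el_mul φ x y x' y'⟩
    | inv g _ ih =>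
      obtain ⟨x, y, rfl⟩ := ih
      exact ⟨_, _, el_inv φ x y⟩
  · rintro ⟨x, y, rfl⟩; exact el_mem φ x y

theorem el_10 (x y : F) : ((el φ x y : GL (Fin 3) F) : Matrix (Fin 3) (Fin 3) F) 1 0 = x := by
  simp [el_val, mat]

theorem el_20 (x y : F) : ((el φ x y : GL (Fin 3) F) : Matrix (Fin 3) (Fin 3) F) 2 0 = y := by
  simp [el_val, mat]

theorem el_inj {x y x' y' : F} (h : el φ x y = el φ x' y') : x = x' ∧ y = y' := by
  constructor
  · rw [← el_10 φ x y, ← el_10 φ x' y', h]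
  · rw [← el_20 φ x y, ← el_20 φ x' y', h]

/-- the `x`-coordinate as a homomorphism -/
def xhom : Cfsg.suzukiTypeA F φ →* Multiplicative F where
  toFun g := Multiplicative.ofAdd (((g : GL (Fin 3) F) : Matrix (Fin 3) (Fin 3) F) 1 0)
  map_one' := by simp
  map_mul' := by
    rintro ⟨g, hg⟩ ⟨h, hh⟩
    obtain ⟨x, y, rfl⟩ := (mem_iff φ g).mp hg
    obtain ⟨x', y', rfl⟩ := (mem_iff φ h).mp hh
    show Multiplicative.ofAdd (((el φ x y * el φ x' y' : GL (Fin 3) F) :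
      Matrix (Fin 3) (Fin 3) F) 1 0) = Multiplicative.ofAdd (((el φ x y : GL (Fin 3) F) :
      Matrix (Fin 3) (Fin 3) F) 1 0) * Multiplicative.ofAdd (((el φ x' y' : GL (Fin 3) F) :
      Matrix (Fin 3) (Fin 3) F) 1 0)
    rw [el_mul, el_10, el_10, el_10]
    rfl

theorem xhom_el (x y : F) : xhom φ ⟨el φ x y, el_mem φ x y⟩ = Multiplicative.ofAdd x := by
  show Multiplicative.ofAdd (((el φ x y : GL (Fin 3) F) : Matrix (Fin 3) (Fin 3) F) 1 0) = _
  rw [el_10]

end TA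

/-- recognition of the type A group from coordinates -/
theorem iso_typeA {P : Type*} [Group P] [Finite P] {F : Type*} [Field F] [Fintype F]
    [CharP F 2] (φ : F →+* F)
    (α₁ : P → F) (h₁add : ∀ p p', α₁ (p * p') = α₁ p + α₁ p') (h₁surj : Function.Surjective α₁)
    (h₁ker : ∀ z, α₁ z = 0 → z ∈ Subgroup.center P)
    (α₂ : P → F) (h₂add : ∀ z z', α₁ z = 0 → α₁ z' = 0 → α₂ (z * z') = α₂ z + α₂ z')
    (h₂inj : ∀ z, α₁ z = 0 → α₂ z = 0 → z = 1)
    (h₂surj : ∀ y : F, ∃ z, α₁ z = 0 ∧ α₂ z = y)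
    (hsq : ∀ p, α₁ (p * p) = 0 ∧ α₂ (p * p) = φ (α₁ p) * α₁ p) :
    Nonempty (P ≃* Cfsg.suzukiTypeA F φ) := by
  classical
  have h2 : (2 : F) = 0 := CharP.cast_eq_zero F 2
  have h₁one : α₁ 1 = 0 := by
    have := h₁add 1 1
    rw [one_mul] at this
    exact (add_eq_left.mp this.symm)
  let a : P →* Multiplicative F :=
    { toFun := fun p => Multiplicative.ofAdd (α₁ p)
      map_one' := by rw [h₁one]; rfl
      map_mul' := fun p p' => by rw [h₁add]; rfl }
  have ha1 : ∀ p, a p = 1 ↔ α₁ p = 0 := fun p => Iff.rfl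
  have hb1 : ∀ t : Cfsg.suzukiTypeA F φ, TA.xhom φ t = 1 → ∃ y, t = ⟨TA.el φ 0 y, TA.el_mem φ 0 y⟩ := by
    rintro ⟨g, hg⟩ ht
    obtain ⟨x, y, rfl⟩ := (TA.mem_iff φ g).mp hg
    rw [TA.xhom_el] at ht
    have hx : x = 0 := ht
    subst hx
    exact ⟨y, rfl⟩
  refine iso_of_sq a (TA.xhom φ) ?_ ?_ ?_ ?_
    (fun p => ⟨TA.el φ 0 (α₂ p), TA.el_mem φ 0 (α₂ p)⟩) ?_ ?_ ?_ ?_ ?_
  · intro u
    obtain ⟨p, hp⟩ := h₁surj (Multiplicative.toAdd u)
    exact ⟨p, by show Multiplicative.ofAdd (α₁ p) = u; rw [hp]; rfl⟩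
  · intro u
    exact ⟨⟨TA.el φ (Multiplicative.toAdd u) 0, TA.el_mem φ _ _⟩, by rw [TA.xhom_el]; rfl⟩
  · intro z hz
    exact h₁ker z ((ha1 z).mp hz)
  · intro t ht
    obtain ⟨y, rfl⟩ := hb1 t ht
    rw [Subgroup.mem_center_iff]
    rintro ⟨g, hg⟩
    obtain ⟨x', y', rfl⟩ := (TA.mem_iff φ g).mp hg
    apply Subtype.ext
    show TA.el φ x' y' * TA.el φ 0 y = TA.el φ 0 y * TA.el φ x' y'
    rw [TA.el_mul, TA.el_mul]
    congr 1
    · ring
    · rw [map_zero]; ring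
  · intro z z' hz hz'
    apply Subtype.ext
    show TA.el φ 0 (α₂ (z * z')) = TA.el φ 0 (α₂ z) * TA.el φ 0 (α₂ z')
    rw [TA.el_mul, h₂add z z' ((ha1 z).mp hz) ((ha1 z').mp hz')]
    congr 1
    · ring
    · rw [map_zero]; ring
  · intro z _
    rw [TA.xhom_el]; rfl
  · intro z hz h
    have h' : TA.el φ 0 (α₂ z) = 1 := congrArg Subtype.val h
    rw [← TA.el_one φ] at h'
    exact h₂inj z ((ha1 z).mp hz) (TA.el_inj φ h').2
  · intro t ht
    obtain ⟨y, rfl⟩ := hb1 t ht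
    obtain ⟨z, hz1, hz2⟩ := h₂surj y
    exact ⟨z, (ha1 z).mpr hz1, by rw [hz2]⟩
  · rintro p ⟨g, hg⟩ hpt
    obtain ⟨x, y, rfl⟩ := (TA.mem_iff φ g).mp hg
    rw [TA.xhom_el] at hpt
    have hx : α₁ p = x := hpt
    refine ⟨(ha1 _).mpr (hsq p).1, ?_⟩
    apply Subtype.ext
    show TA.el φ 0 (α₂ (p * p)) = TA.el φ x y * TA.el φ x y
    rw [TA.el_mul, (hsq p).2, hx]
    congr 1
    · linear_combination (-x) * h2
    · linear_combination (-y) * h2

end Cfsg.Agent.H14.Suz
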