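import Cfsg.Agent.H14.SuzMain

set_option autoImplicit false

namespace Cfsg.Agent.H14.Suz

universe u

/-- invariance of a subgroup under a group of automorphisms -/
def KInv {P : Type*} [Group P] (K : Subgroup (MulAut P)) (N : Subgroup P) : Prop :=
  ∀ k : K, ∀ x ∈ N, (k : MulAut P) x ∈ N

theorem KInv.mem_iff {P : Type*} [Group P] {K : Subgroup (MulAut P)} {N : Subgroup P}
    (hN : KInv K N) (k : K) (x : P) : (k : MulAut P) x ∈ N ↔ x ∈ N :=
  ⟨fun h => by have := hN k⁻¹ _ h; simpa using this, hN k x⟩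

theorem KInv.map_eq {P : Type*} [Group P] {K : Subgroup (MulAut P)} {N : Subgroup P}
    (hN : KInv K N) (k : K) : N.map (k : MulAut P).toMonoidHom = N := by
  ext x
  constructor
  · rintro ⟨y, hy, rfl⟩; exact hN k y hy
  · intro hx
    exact ⟨((k⁻¹ : K) : MulAut P) x, hN k⁻¹ x hx, by simp⟩

theorem KInv_center {P : Type*} [Group P] (K : Subgroup (MulAut P)) :
    KInv K (Subgroup.center P) := fun k _ hx => aut_mem_center _ hx

/-- the induced action on a quotient by an invariant normal subgroup -/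
noncomputable def quotAct {P : Type*} [Group P] (K : Subgroup (MulAut P)) (N : Subgroup P)
    [N.Normal] (hN : KInv K N) : K →* MulAut (P ⧸ N) where
  toFun k := QuotientGroup.congr N N (k : MulAut P) (hN.map_eq k)
  map_one' := by
    ext x
    induction x using QuotientGroup.induction_on
    rfl
  map_mul' := by
    intro a b
    ext x
    induction x using QuotientGroup.induction_on
    rfl

theorem quotAct_mk {P : Type*} [Group P] (K : Subgroup (MulAut P)) (N : Subgroup P)
    [N.Normal] (hN : KInv K N) (k : K) (x : P) :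
    quotAct K N hN k (QuotientGroup.mk x) = QuotientGroup.mk ((k : MulAut P) x) := rfl

/-- restriction of an automorphism to an invariant subgroup -/
def resAut {P : Type*} [Group P] (K : Subgroup (MulAut P)) (N : Subgroup P) (hN : KInv K N)
    (k : K) : MulAut N :=
  { toFun := fun x => ⟨(k : MulAut P) x, hN k x x.2⟩
    invFun := fun x => ⟨((k⁻¹ : K) : MulAut P) x, hN k⁻¹ x x.2⟩
    left_inv := fun x => by apply Subtype.ext; simp
    right_inv := fun x => by apply Subtype.ext; simp
    map_mul' := fun x y => by apply Subtype.ext; simp }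

/-- restriction as a homomorphism -/
def resHom {P : Type*} [Group P] (K : Subgroup (MulAut P)) (N : Subgroup P) (hN : KInv K N) :
    K →* MulAut N where
  toFun := resAut K N hN
  map_one' := by ext x; simp [resAut]
  map_mul' := by intro a b; ext x; simp [resAut]

section sub

variable {P : Type u} [Group P] [Finite P] (h2 : IsPGroup 2 P) (K : Subgroup (MulAut P))
  (hreg : Reg K)

include h2 hreg in
theorem free_mod (N : Subgroup P) (hN : KInv K N) (k : K) (x c : P) (hx : x ∉ N)
    (hc : c ∈ N) (hk : (k : MulAut P) x = x * c) : k = 1 := by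
  by_contra hk1
  let δ : N → N := fun d => ⟨(d : P) * ((k : MulAut P) d)⁻¹, mul_mem d.2 (inv_mem (hN k _ d.2))⟩
  have hinj : Function.Injective δ := by
    intro d d' h
    have h' : (d : P) * ((k : MulAut P) d)⁻¹ = (d' : P) * ((k : MulAut P) d')⁻¹ :=
      congrArg Subtype.val h
    have e : (k : MulAut P) ((d' : P)⁻¹ * d) = (d' : P)⁻¹ * d := by
      rw [map_mul, map_inv]
      calc ((k : MulAut P) d')⁻¹ * (k : MulAut P) d
          = (d' : P)⁻¹ * ((d' : P) * ((k : MulAut P) d')⁻¹) * (k : MulAut P) d := by group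
        _ = (d' : P)⁻¹ * ((d : P) * ((k : MulAut P) d)⁻¹) * (k : MulAut P) d := by rw [h']
        _ = (d' : P)⁻¹ * d := by group
    by_contra hne
    have hne' : (d' : P)⁻¹ * d ≠ 1 := by
      intro h1
      apply hne
      apply Subtype.ext
      have : (d : P) = d' * ((d' : P)⁻¹ * d) := by group
      rw [this, h1, mul_one]
    exact hk1 (fpf h2 K hreg k _ hne' e)
  have hsurj : Function.Surjective δ := Finite.injective_iff_surjective.mp hinj
  obtain ⟨d, hd⟩ := hsurj ⟨c, hc⟩
  have hd' : (d : P) * ((k : MulAut P) d)⁻¹ = c := congrArg Subtype.val hd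
  have e : (k : MulAut P) (x * d) = x * d := by
    rw [map_mul, hk, ← hd']; group
  have hne : x * (d : P) ≠ 1 := by
    intro h1
    apply hx
    have : x = (d : P)⁻¹ := eq_inv_of_mul_eq_one_left h1
    rw [this]; exact inv_mem d.2
  exact hk1 (fpf h2 K hreg k _ hne e)

include h2 hreg in
theorem pair_sub [IsCyclic K] (N : Subgroup P) (hN : KInv K N)
    (hinv : ∃ x y : P, x ≠ y ∧ x ≠ 1 ∧ x * x = 1 ∧ y ≠ 1 ∧ y * y = 1)
    (z : P) (hzN : z ∈ N) (hz : z ≠ 1) (hz2 : z * z = 1) : IsPair N := by
  have hall : ∀ w : P, w ≠ 1 → w * w = 1 → w ∈ N := by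
    intro w hw hw2
    obtain ⟨k, hk, -⟩ := hreg z w hz hz2 hw hw2
    rw [← hk]; exact hN k z hzN
  refine ⟨inferInstance, h2.to_subgroup N, ?_, ?_⟩
  · obtain ⟨x, y, hxy, hx, hx2, hy, hy2⟩ := hinv
    exact ⟨⟨x, hall x hx hx2⟩, ⟨y, hall y hy hy2⟩, fun h => hxy (congrArg Subtype.val h),
      fun h => hx (congrArg Subtype.val h), Subtype.ext hx2,
      fun h => hy (congrArg Subtype.val h), Subtype.ext hy2⟩
  · apply transfer K hreg (resHom K N hN) (fun x : N => (x : P))
    · intro x hx hx2
      exact ⟨fun h => hx (Subtype.ext h), congrArg Subtype.val hx2⟩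
    · intro x y _ _ _ _ h; exact Subtype.ext h
    · intro k x _ _; rfl

include h2 hreg in
/-- the centre of a nonabelian invariant subgroup has exponent two -/
theorem center_sq_sub [IsCyclic K] (N : Subgroup P) (hN : KInv K N)
    (hinv : ∃ x y : P, x ≠ y ∧ x ≠ 1 ∧ x * x = 1 ∧ y ≠ 1 ∧ y * y = 1)
    (z : P) (hzN : z ∈ N) (hz : z ≠ 1) (hz2 : z * z = 1)
    (hnonab : ∃ x ∈ N, ∃ y ∈ N, x * y ≠ y * x) (t : P) (htN : t ∈ N)
    (ht : ∀ x ∈ N, x * t = t * x) : t * t = 1 := by
  have hp := pair_sub h2 K hreg N hN hinv z hzN hz hz2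
  obtain ⟨x, hx, y, hy, hxy⟩ := hnonab
  have := center_sq hp ⟨⟨x, hx⟩, ⟨y, hy⟩, fun h => hxy (congrArg Subtype.val h)⟩ ⟨t, htN⟩
    (by rw [Subgroup.mem_center_iff]; intro g; exact Subtype.ext (ht g g.2))
  exact congrArg Subtype.val this

end sub

end Cfsg.Agent.H14.Suz
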