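import Cfsg.Agent.H14.SuzAb

set_option autoImplicit false

namespace Cfsg.Agent.H14.Suz

universe u

theorem center_sq_aux (n : ℕ) : ∀ (P : Type u) [Group P], Nat.card P = n → IsPair P →
    (∃ x y : P, x * y ≠ y * x) → ∀ z ∈ Subgroup.center P, z * z = 1 := by
  induction n using Nat.strong_induction_on with
  | _ n ih =>
    intro P _ hn hpair hnonab
    obtain ⟨hfin, h2, hinv, K, hcyc, hreg⟩ := hpair
    by_contra hcon
    push_neg at hcon
    obtain ⟨z, hz, hz2⟩ := hcon
    obtain ⟨m, hm1, hm2⟩ := exists_pow_invol h2 (z * z) hz2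
    have hpow : (z * z) ^ m = z ^ m * z ^ m := by
      rw [← pow_two, ← pow_mul, mul_comm, pow_mul, pow_two]
    rw [hpow] at hm1 hm2
    have ha : z ^ m ∈ Subgroup.center P := pow_mem hz m
    have hF4 := F4 h2 K hreg (z ^ m) ha hm1 hm2
    have hQ : IsPair (P ⧸ Om P) := pair_quot h2 K hreg (z ^ m) ha hm1 hm2 hinv
    have hcardQ : Nat.card (P ⧸ Om P) < n := by
      have h1 := Subgroup.card_eq_card_quotient_mul_card_subgroup (Om P)
      have h2' : 1 < Nat.card (Om P) := by
        rw [Subgroup.one_lt_card_iff_ne_bot]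
        intro h
        have : z ^ m * z ^ m ∈ Om P := ⟨mul_mem ha ha, hm2⟩
        rw [h, Subgroup.mem_bot] at this
        exact hm1 this
      have h3 : 0 < Nat.card (P ⧸ Om P) := Nat.card_pos
      rw [← hn, h1]; nlinarith
    by_cases hQab : ∃ x y : P ⧸ Om P, x * y ≠ y * x
    · have hIH := ih _ hcardQ (P ⧸ Om P) rfl hQ hQab
      obtain ⟨x₀, y₀, hxy⟩ := hnonab
      have hx₀ : x₀ ∉ Subgroup.center P :=
        fun h => hxy ((Subgroup.mem_center_iff.mp h y₀).symm)
      haveI : Nontrivial (P ⧸ Subgroup.center P) :=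
        ⟨⟨QuotientGroup.mk x₀, 1, fun h => hx₀ ((QuotientGroup.eq_one_iff _).mp h)⟩⟩
      obtain ⟨tb, htc, ht1, ht2⟩ := exists_central_invol (h2.to_quotient (Subgroup.center P))
      obtain ⟨t, rfl⟩ := QuotientGroup.mk_surjective tb
      have ht : t ∉ Subgroup.center P := fun h => ht1 ((QuotientGroup.eq_one_iff _).mpr h)
      have htt : t * t ∈ Subgroup.center P := by
        rw [← QuotientGroup.mk_mul, QuotientGroup.eq_one_iff] at ht2; exact ht2
      have hw : ∀ g : P, (t * g)⁻¹ * (g * t) ∈ Subgroup.center P := by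
        intro g
        rw [Subgroup.mem_center_iff] at htc
        have := htc (QuotientGroup.mk g)
        rw [← QuotientGroup.mk_mul, ← QuotientGroup.mk_mul] at this
        exact QuotientGroup.eq.mp this.symm
      have hw2 : ∀ g : P, (t * g)⁻¹ * (g * t) ∈ Om P := by
        intro g
        refine ⟨hw g, ?_⟩
        have hgt : g * t = t * g * ((t * g)⁻¹ * (g * t)) := by group
        have hwc := Subgroup.mem_center_iff.mp (hw g)
        have htt' := Subgroup.mem_center_iff.mp htt
        generalize (t * g)⁻¹ * (g * t) = w at hgt hwc ⊢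
        have e1 : g * (t * t) = t * t * g * (w * w) := by
          calc g * (t * t) = (g * t) * t := by group
            _ = t * g * w * t := by rw [hgt]
            _ = t * g * (w * t) := by group
            _ = t * g * (t * w) := by rw [← hwc t]
            _ = t * (g * t) * w := by group
            _ = t * (t * g * w) * w := by rw [hgt]
            _ = t * t * g * (w * w) := by group
        have e2 : g * (t * t) = t * t * g := htt' g
        rw [e2] at e1
        exact (mul_eq_left.mp e1.symm)
      have htQ : (QuotientGroup.mk t : P ⧸ Om P) ∈ Subgroup.center (P ⧸ Om P) := by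
        rw [Subgroup.mem_center_iff]
        intro q
        obtain ⟨g, rfl⟩ := QuotientGroup.mk_surjective q
        rw [← QuotientGroup.mk_mul, ← QuotientGroup.mk_mul]
        exact (QuotientGroup.eq.mpr (hw2 g)).symm
      have := hIH _ htQ
      rw [← QuotientGroup.mk_mul, QuotientGroup.eq_one_iff] at this
      exact ht (hF4 t this)
    · push_neg at hQab
      obtain ⟨x₀, y₀, hxy⟩ := hnonab
      exact hxy (abelian_case h2 K hreg (z ^ m) ha hm1 hm2 hQab x₀ y₀)

/-- the centre of a nonabelian pair has exponent two -/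
theorem center_sq {P : Type u} [Group P] (hpair : IsPair P) (hnonab : ∃ x y : P, x * y ≠ y * x) :
    ∀ z ∈ Subgroup.center P, z * z = 1 :=
  center_sq_aux _ P rfl hpair hnonab

end Cfsg.Agent.H14.Suz
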