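import Cfsg.Agent.H14.SuzK
import Cfsg.Agent.H14.SuzCoord
import Cfsg.Agent.H14.SuzBi

set_option autoImplicit false

namespace Cfsg.Agent.H14.Suz

open scoped commutatorElement

universe u

theorem comm_mul_left_of_central {P : Type*} [Group P] (x y z : P)
    (h : ⁅y, z⁆ ∈ Subgroup.center P) : ⁅x * y, z⁆ = ⁅x, z⁆ * ⁅y, z⁆ := by
  have hw := Subgroup.mem_center_iff.mp h
  calc ⁅x * y, z⁆ = x * ⁅y, z⁆ * x⁻¹ * ⁅x, z⁆ := by simp only [commutatorElement_def]; group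
    _ = ⁅y, z⁆ * x * x⁻¹ * ⁅x, z⁆ := by rw [hw x]
    _ = ⁅y, z⁆ * ⁅x, z⁆ := by rw [mul_inv_cancel_right]
    _ = ⁅x, z⁆ * ⁅y, z⁆ := (hw _).symm

theorem comm_mul_right_of_central {P : Type*} [Group P] (x y z : P)
    (h : ⁅x, z⁆ ∈ Subgroup.center P) : ⁅x, y * z⁆ = ⁅x, y⁆ * ⁅x, z⁆ := by
  have hw := Subgroup.mem_center_iff.mp h
  calc ⁅x, y * z⁆ = ⁅x, y⁆ * (y * ⁅x, z⁆) * y⁻¹ := by simp only [commutatorElement_def]; group
    _ = ⁅x, y⁆ * (⁅x, z⁆ * y) * y⁻¹ := by rw [hw y]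
    _ = ⁅x, y⁆ * ⁅x, z⁆ := by group

theorem comm_inv_right_of_central {P : Type*} [Group P] (x y : P)
    (h : ⁅x, y⁆ ∈ Subgroup.center P) : ⁅x, y⁻¹⁆ = ⁅x, y⁆⁻¹ := by
  have h1 := Subgroup.mem_center_iff.mp (inv_mem h) y⁻¹
  calc ⁅x, y⁻¹⁆ = y⁻¹ * ⁅x, y⁆⁻¹ * y := by simp only [commutatorElement_def]; group
    _ = ⁅x, y⁆⁻¹ * y⁻¹ * y := by rw [h1]
    _ = ⁅x, y⁆⁻¹ := by group

theorem comm_inv_left_of_central {P : Type*} [Group P] (x y : P)
    (h : ⁅x, y⁆ ∈ Subgroup.center P) : ⁅x⁻¹, y⁆ = ⁅x, y⁆⁻¹ := by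
  have h1 := Subgroup.mem_center_iff.mp (inv_mem h) x⁻¹
  calc ⁅x⁻¹, y⁆ = x⁻¹ * ⁅x, y⁆⁻¹ * x := by simp only [commutatorElement_def]; group
    _ = ⁅x, y⁆⁻¹ * x⁻¹ * x := by rw [h1]
    _ = ⁅x, y⁆⁻¹ := by group

/-- coordinates on the centre -/
theorem center_coord {P : Type u} [Group P] [Finite P] (h2 : IsPGroup 2 P)
    (K : Subgroup (MulAut P)) [IsCyclic K] (hreg : Reg K)
    (hinv : ∃ x y : P, x ≠ y ∧ x ≠ 1 ∧ x * x = 1 ∧ y ≠ 1 ∧ y * y = 1)
    (hc : ∀ z ∈ Subgroup.center P, z * z = 1) :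
    ∃ (F : Type) (_ : Field F) (_ : Fintype F) (_ : CharP F 2) (β : P → F) (lam : F) (ξ : K),
      (∀ k : K, ∃ n : ℕ, ξ ^ n = k) ∧
      (∀ z ∈ Subgroup.center P, ∀ w ∈ Subgroup.center P, β (z * w) = β z + β w) ∧
      (∀ z ∈ Subgroup.center P, β z = 0 → z = 1) ∧
      (∀ v : F, ∃ z ∈ Subgroup.center P, β z = v) ∧
      (∀ z ∈ Subgroup.center P, β ((ξ : MulAut P) z) = lam * β z) ∧
      (∀ w : F, w ≠ 0 → ∃ m : ℕ, w = lam ^ m) ∧ lam ≠ 0 ∧ lam ≠ 1 ∧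
      (∀ j : ℕ, ξ ^ j = 1 → lam ^ j = 1) := by
  classical
  haveI : Fact (Nat.Prime 2) := ⟨Nat.prime_two⟩
  have hic : ∀ x : P, x * x = 1 → x ∈ Subgroup.center P := sq_one_central h2 K hreg
  obtain ⟨z₀, z₁, hz01, hz₀, hz₀2, hz₁, hz₁2⟩ := hinv
  have hz₀c : z₀ ∈ Subgroup.center P := hic z₀ hz₀2
  obtain ⟨m, hm⟩ := IsPGroup.iff_card.mp (h2.to_subgroup (Subgroup.center P))
  have hm0 : m ≠ 0 := by
    intro h
    rw [h, pow_zero] at hm
    haveI := (Nat.card_eq_one_iff_unique.mp hm).1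
    exact hz₀ (congrArg Subtype.val (Subsingleton.elim (⟨z₀, hz₀c⟩ : Subgroup.center P) 1))
  letI : Fintype (GaloisField 2 m) := Fintype.ofFinite _
  have hFcard : Fintype.card (GaloisField 2 m) = Nat.card (Subgroup.center P) := by
    rw [hm, ← Nat.card_eq_fintype_card]; exact GaloisField.card 2 m hm0
  obtain ⟨ξ, hξ⟩ := IsCyclic.exists_generator (α := K)
  have hξpow : ∀ k : K, ∃ n : ℕ, ξ ^ n = k := by
    intro k
    have := hξ k
    rw [← mem_powers_iff_mem_zpowers] at this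
    exact this
  have hξcoe : ∀ n : ℕ, ((ξ ^ n : K) : MulAut P) = (ξ : MulAut P) ^ n := fun n => rfl
  let g₁ : Subgroup.center P ≃* Subgroup.center P :=
    { toFun := fun z => ⟨(ξ : MulAut P) z, aut_mem_center _ z.2⟩
      invFun := fun z => ⟨(ξ : MulAut P)⁻¹ z, aut_mem_center _ z.2⟩
      left_inv := fun z => by apply Subtype.ext; simp
      right_inv := fun z => by apply Subtype.ext; simp
      map_mul' := fun z z' => by apply Subtype.ext; simp }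
  have hg₁pow : ∀ (n : ℕ) (z : Subgroup.center P),
      (((g₁ ^ n) z : Subgroup.center P) : P) = ((ξ : MulAut P) ^ n) z := by
    intro n
    induction n with
    | zero => intro z; rfl
    | succ n ih =>
      intro z
      rw [pow_succ, pow_succ]
      show (((g₁ ^ n) (g₁ z) : Subgroup.center P) : P) = _
      rw [ih]; rfl
  have hZ2 : ∀ z : Subgroup.center P, z * z = 1 := fun z => Subtype.ext (hc z z.2)
  obtain ⟨β₂, lam, hβ₂bij, hβ₂add, hβ₂g, hβ₂1⟩ := coord hZ2 g₁ ⟨z₀, hz₀c⟩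
    (fun h => hz₀ (congrArg Subtype.val h))
    (by
      rintro ⟨z, hz⟩ hz1
      have hz1' : z ≠ 1 := fun h => hz1 (Subtype.ext h)
      obtain ⟨k, hk, -⟩ := hreg z₀ z hz₀ hz₀2 hz1' (hc z hz)
      obtain ⟨n, rfl⟩ := hξpow k
      exact ⟨n, Subtype.ext (by rw [hg₁pow]; exact hk)⟩)
    (F := GaloisField 2 m) hFcard
  have hβ₂one : β₂ 1 = 0 := by
    have := hβ₂add 1 1
    rw [one_mul] at this
    exact add_eq_left.mp this.symm
  have hβ₂zero : ∀ z, β₂ z = 0 → z = 1 := fun z h => hβ₂bij.1 (h.trans hβ₂one.symm)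
  have hβ₂pow : ∀ (n : ℕ) z, β₂ ((g₁ ^ n) z) = lam ^ n * β₂ z := by
    intro n
    induction n with
    | zero => intro v; simp
    | succ n ih =>
      intro v
      rw [pow_succ, pow_succ]
      show β₂ ((g₁ ^ n) (g₁ v)) = _
      rw [ih, hβ₂g]; ring
  have hpowl : ∀ u : GaloisField 2 m, u ≠ 0 → ∃ n : ℕ, u = lam ^ n := by
    intro u hu
    obtain ⟨⟨z, hz⟩, rfl⟩ := hβ₂bij.2 u
    have hz1 : z ≠ 1 := fun h => hu (by subst h; exact hβ₂one)
    obtain ⟨k, hk, -⟩ := hreg z₀ z hz₀ hz₀2 hz1 (hc z hz)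
    obtain ⟨n, rfl⟩ := hξpow k
    refine ⟨n, ?_⟩
    have : (⟨z, hz⟩ : Subgroup.center P) = (g₁ ^ n) ⟨z₀, hz₀c⟩ :=
      Subtype.ext (by rw [hg₁pow]; exact hk.symm)
    rw [this, hβ₂pow, hβ₂1, mul_one]
  refine ⟨GaloisField 2 m, inferInstance, inferInstance, inferInstance,
    fun x => if h : x ∈ Subgroup.center P then β₂ ⟨x, h⟩ else 0, lam, ξ, hξpow, ?_, ?_, ?_, ?_,
    hpowl, ?_, ?_, ?_⟩
  · intro z hz w hw
    beta_reduce
    rw [dif_pos hz, dif_pos hw, dif_pos (mul_mem hz hw), ← hβ₂add]; rfl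
  · intro z hz h
    beta_reduce at h
    rw [dif_pos hz] at h
    exact congrArg Subtype.val (hβ₂zero _ h)
  · intro v
    obtain ⟨⟨z, hz⟩, rfl⟩ := hβ₂bij.2 v
    exact ⟨z, hz, dif_pos hz⟩
  · intro z hz
    beta_reduce
    rw [dif_pos hz, dif_pos (aut_mem_center _ hz), ← hβ₂g]; rfl
  · intro h
    have h1 := hβ₂g ⟨z₀, hz₀c⟩
    rw [h, zero_mul] at h1
    have h2' := congrArg Subtype.val (hβ₂zero _ h1)
    have h3 : (ξ : MulAut P) z₀ = 1 := h2'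
    exact hz₀ (by simpa using h3)
  · intro h
    have hz₁c : z₁ ∈ Subgroup.center P := hic z₁ hz₁2
    obtain ⟨k, hk, -⟩ := hreg z₀ z₁ hz₀ hz₀2 hz₁ hz₁2
    obtain ⟨n, rfl⟩ := hξpow k
    have h1 : (⟨z₁, hz₁c⟩ : Subgroup.center P) = (g₁ ^ n) ⟨z₀, hz₀c⟩ :=
      Subtype.ext (by rw [hg₁pow]; exact hk.symm)
    have h2' : β₂ ⟨z₁, hz₁c⟩ = β₂ ⟨z₀, hz₀c⟩ := by
      rw [h1, hβ₂pow, h, one_pow, one_mul]
    exact hz01 (congrArg Subtype.val (hβ₂bij.1 h2')).symm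
  · intro j hj
    have h1 : (g₁ ^ j) ⟨z₀, hz₀c⟩ = ⟨z₀, hz₀c⟩ := by
      apply Subtype.ext
      rw [hg₁pow, ← hξcoe, hj]; rfl
    have h2' := hβ₂pow j ⟨z₀, hz₀c⟩
    rw [h1, hβ₂1, mul_one] at h2'
    exact h2'.symm

/-- `D` is a minimal `K`-invariant subgroup properly containing `C` -/
def IsMinOver {P : Type*} [Group P] (K : Subgroup (MulAut P)) (C D : Subgroup P) : Prop :=
  KInv K D ∧ C ≤ D ∧ (∃ g ∈ D, g ∉ C) ∧
    ∀ Y : Subgroup P, KInv K Y → C ≤ Y → Y ≤ D → (∃ y ∈ Y, y ∉ C) → D ≤ Y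

theorem exists_minOver {P : Type*} [Group P] [Finite P] (K : Subgroup (MulAut P))
    (C M : Subgroup P) (hM : KInv K M) (hCM : C ≤ M) (hne : ∃ x ∈ M, x ∉ C) :
    ∃ D, IsMinOver K C D ∧ D ≤ M := by
  classical
  obtain ⟨D, hD, hmin⟩ := WellFounded.has_min
    (measure (fun Y : Subgroup P => Nat.card Y)).wf
    {Y : Subgroup P | KInv K Y ∧ C ≤ Y ∧ Y ≤ M ∧ ∃ y ∈ Y, y ∉ C} ⟨M, hM, hCM, le_refl _, hne⟩
  obtain ⟨hDK, hCD, hDM, hDne⟩ := hD
  refine ⟨D, ⟨hDK, hCD, hDne, ?_⟩, hDM⟩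
  intro Y hYK hCY hYD hYne
  have h1 := hmin Y ⟨hYK, hCY, hYD.trans hDM, hYne⟩
  have h2 : Nat.card D ≤ Nat.card Y := not_lt.mp h1
  exact (Subgroup.eq_of_le_of_card_ge hYD h2).ge

section minover

variable {P : Type u} [Group P] [Finite P] (h2 : IsPGroup 2 P) (K : Subgroup (MulAut P))
  [IsCyclic K] (hreg : Reg K)
  (hinv : ∃ x y : P, x ≠ y ∧ x ≠ 1 ∧ x * x = 1 ∧ y ≠ 1 ∧ y * y = 1)
  (hc : ∀ z ∈ Subgroup.center P, z * z = 1)
  (A C : Subgroup P) (hAK : KInv K A)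
  (hA1 : ∀ a ∈ A, ∀ g : P, ⁅g, a⁆ ∈ Subgroup.center P)
  (hAab : ∀ a ∈ A, ∀ b ∈ A, a * b = b * a)
  (hAsurj : ∀ z ∈ Subgroup.center P, ∃ a ∈ A, a * a = z)
  (hAsq : ∀ a ∈ A, a * a ∈ Subgroup.center P)
  (hC : ∀ g : P, g ∈ C ↔ ∀ a ∈ A, g * a = a * g)

include h2 hreg hinv hc hAK hA1 hAab hAsurj hAsq hC in
theorem min_over (D : Subgroup P) (hD : IsMinOver K C D) :
    (∀ g ∈ D, g ∉ C → ∀ a ∈ A, g * a = a * g → a ∈ Subgroup.center P) ∧
    (∀ g ∈ D, g ∉ C → ∀ a₁ ∈ A, ∀ a₂ ∈ A, a₁ ∉ Subgroup.center P → a₂ ∉ Subgroup.center P →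
      ⁅g, a₁⁆ = a₁ * a₁ → ⁅g, a₂⁆ = a₂ * a₂ → a₁ * a₁ = a₂ * a₂) ∧
    (∀ g ∈ D, g ∉ C → ∀ g' ∈ D, g' ∉ C → ∃ k : K, g'⁻¹ * (k : MulAut P) g ∈ C) ∧
    (∃ g ∈ D, ∃ h ∈ D, g ∉ C ∧ h ∉ C ∧ g * h ∉ C) := by
  classical
  obtain ⟨hDK, hCD, hDne, hDmin⟩ := hD
  have hic : ∀ x : P, x * x = 1 → x ∈ Subgroup.center P := sq_one_central h2 K hreg
  obtain ⟨F, _, _, _, β, lam, ξ, hξpow, hβadd, hβzero, hβsurj, hβξ, hlamgen, hlam0, hlam1,
    hξlam⟩ := center_coord h2 K hreg hinv hc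
  have h2F : (2 : F) = 0 := CharP.cast_eq_zero F 2
  have hβ1 : β 1 = 0 := by
    have := hβadd 1 (one_mem _) 1 (one_mem _)
    rw [one_mul] at this
    exact add_eq_left.mp this.symm
  have hβinj : ∀ z ∈ Subgroup.center P, ∀ w ∈ Subgroup.center P, β z = β w → z = w := by
    intro z hz w hw h
    have h1 : β (z * w) = 0 := by rw [hβadd z hz w hw, h, ← two_mul, h2F, zero_mul]
    have h3 := hβzero _ (mul_mem hz hw) h1
    have h4 : z = w⁻¹ := eq_inv_of_mul_eq_one_left h3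
    rw [h4]; exact inv_eq_of_mul_eq_one_right (hc w hw)
  have hKC : KInv K C := by
    intro k x hx
    rw [hC] at hx ⊢
    intro a ha
    have h1 := hx _ (hAK k⁻¹ a ha)
    have h2' := congrArg (k : MulAut P) h1
    simpa [map_mul] using h2'
  have hex : ∀ v : F, ∃ a ∈ A, β (a * a) = v := by
    intro v
    obtain ⟨z, hz, hzv⟩ := hβsurj v
    obtain ⟨a, ha, haa⟩ := hAsurj z hz
    exact ⟨a, ha, by rw [haa, hzv]⟩
  choose sa hsaA hsa using hex
  let d : P → F → F := fun g v => β ⁅g, sa v⁆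
  have hsame : ∀ a ∈ A, ∀ b ∈ A, a * a = b * b → ∀ g : P, ⁅g, a⁆ = ⁅g, b⁆ := by
    intro a ha b hb h g
    have hz : a * b⁻¹ ∈ Subgroup.center P := by
      apply hic
      have hab := hAab a ha b hb
      have hab' : b⁻¹ * a = a * b⁻¹ := by
        rw [inv_mul_eq_iff_eq_mul, ← mul_assoc, ← hab, mul_assoc, mul_inv_cancel, mul_one]
      calc a * b⁻¹ * (a * b⁻¹) = a * (b⁻¹ * a) * b⁻¹ := by group
        _ = a * (a * b⁻¹) * b⁻¹ := by rw [hab']
        _ = (a * a) * (b * b)⁻¹ := by group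
        _ = 1 := by rw [h, mul_inv_cancel]
    have hzc := Subgroup.mem_center_iff.mp hz
    have e : a = a * b⁻¹ * b := by group
    rw [e]
    generalize a * b⁻¹ = z at hzc
    simp only [commutatorElement_def]
    calc g * (z * b) * g⁻¹ * (z * b)⁻¹ = (g * z) * b * g⁻¹ * b⁻¹ * z⁻¹ := by group
      _ = (z * g) * b * g⁻¹ * b⁻¹ * z⁻¹ := by rw [hzc g]
      _ = z * (g * b * g⁻¹ * b⁻¹) * z⁻¹ := by group
      _ = (g * b * g⁻¹ * b⁻¹) * z * z⁻¹ := by rw [← hzc]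
      _ = g * b * g⁻¹ * b⁻¹ := by group
  have hdkey : ∀ g : P, ∀ a ∈ A, d g (β (a * a)) = β ⁅g, a⁆ := by
    intro g a ha
    show β ⁅g, sa (β (a * a))⁆ = β ⁅g, a⁆
    rw [hsame (sa (β (a * a))) (hsaA _) a ha
      (hβinj _ (hAsq _ (hsaA _)) _ (hAsq a ha) (hsa _)) g]
  have hd1 : ∀ u u' v, d (u * u') v = d u v + d u' v := by
    intro u u' v
    show β ⁅u * u', sa v⁆ = β ⁅u, sa v⁆ + β ⁅u', sa v⁆
    rw [comm_mul_left_of_central u u' _ (hA1 _ (hsaA v) u'),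
      hβadd _ (hA1 _ (hsaA v) u) _ (hA1 _ (hsaA v) u')]
  have hd2 : ∀ u v v', d u (v + v') = d u v + d u v' := by
    intro u v v'
    have hsq : (sa v * sa v') * (sa v * sa v') = (sa v * sa v) * (sa v' * sa v') := by
      have := hAab _ (hsaA v) _ (hsaA v')
      calc sa v * sa v' * (sa v * sa v') = sa v * (sa v' * sa v) * sa v' := by group
        _ = sa v * (sa v * sa v') * sa v' := by rw [← this]
        _ = _ := by group
    have h1 : v + v' = β ((sa v * sa v') * (sa v * sa v')) := by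
      rw [hsq, hβadd _ (hAsq _ (hsaA v)) _ (hAsq _ (hsaA v')), hsa, hsa]
    have h3 : d u (v + v') = β ⁅u, sa v * sa v'⁆ := by
      rw [h1]; exact hdkey u _ (A.mul_mem (hsaA v) (hsaA v'))
    rw [h3, comm_mul_right_of_central u _ _ (hA1 _ (hsaA v') u),
      hβadd _ (hA1 _ (hsaA v) u) _ (hA1 _ (hsaA v') u)]
  have heq : ∀ u v, d ((ξ : MulAut P) u) (lam * v) = lam * d u v := by
    intro u v
    have h1 : lam * v = β ((ξ : MulAut P) (sa v) * (ξ : MulAut P) (sa v)) := by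
      rw [← map_mul, hβξ _ (hAsq _ (hsaA v)), hsa]
    have h3 : d ((ξ : MulAut P) u) (lam * v) = β ⁅(ξ : MulAut P) u, (ξ : MulAut P) (sa v)⁆ := by
      rw [h1]; exact hdkey _ _ (hAK ξ _ (hsaA v))
    have h4 : ⁅(ξ : MulAut P) u, (ξ : MulAut P) (sa v)⁆ = (ξ : MulAut P) ⁅u, sa v⁆ := by
      simp only [commutatorElement_def, map_mul, map_inv]
    rw [h3, h4, hβξ _ (hA1 _ (hsaA v) u)]
  have hdC : ∀ g : P, (∀ v, d g v = 0) ↔ g ∈ C := by
    intro g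
    rw [hC]
    constructor
    · intro h a ha
      have h1 := h (β (a * a))
      rw [hdkey g a ha] at h1
      have h3 := hβzero _ (hA1 a ha g) h1
      exact commutatorElement_eq_one_iff_mul_comm.mp h3
    · intro h v
      show β ⁅g, sa v⁆ = 0
      rw [commutatorElement_eq_one_iff_mul_comm.mpr (h _ (hsaA v)), hβ1]
  have hξcoe : ∀ n : ℕ, ((ξ ^ n : K) : MulAut P) = (ξ : MulAut P) ^ n := fun n => rfl
  have hKpow : ∀ Y : Subgroup P, (∀ y ∈ Y, (ξ : MulAut P) y ∈ Y) → KInv K Y := by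
    intro Y hY k y hy
    obtain ⟨n, rfl⟩ := hξpow k
    rw [hξcoe]
    induction n generalizing y with
    | zero => simpa using hy
    | succ n ih =>
      rw [pow_succ]
      exact ih _ (hY y hy)
  obtain ⟨c, E, ρ, hcadd, hcsurj, hform, hfix, hcρ, hρgen⟩ :=
    pair_single (F := F) (U := P) (ξ : MulAut P) D (fun u hu => hDK ξ u hu) lam hlamgen hlam0
      hlam1 d hd1 hd2 heq
      (by
        rintro j ⟨u, huD, ⟨v, hv⟩, hall⟩
        apply hξlam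
        have huC : u ∉ C := fun h => hv ((hdC u).mpr h v)
        have hcC : u⁻¹ * ((ξ : MulAut P) ^ j) u ∈ C := by
          rw [← hdC]
          intro v'
          rw [hd1, hall v', ← hd1, inv_mul_cancel]
          exact (hdC 1).mpr C.one_mem v'
        exact free_mod h2 K hreg C hKC (ξ ^ j) u _ huC hcC (by
          rw [hξcoe]; group))
      (by
        intro Y hYD hYξ hker
        have hYK := hKpow Y hYξ
        have hCY : C ≤ Y := fun x hx => hker x (hCD hx) ((hdC x).mpr hx)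
        by_cases hex : ∃ y ∈ Y, y ∉ C
        · right; exact hDmin Y hYK hCY hYD hex
        · left
          push_neg at hex
          intro u hu v
          exact (hdC u).mpr (hex u hu) v)
      (by
        obtain ⟨g, hgD, hgC⟩ := hDne
        refine ⟨g, hgD, ?_⟩
        by_contra hcon
        push_neg at hcon
        exact hgC ((hdC g).mp hcon))
  have hc1 : c 1 = 0 := by
    have := hcadd 1 1
    rw [one_mul] at this
    exact add_eq_left.mp this.symm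
  have hcinv : ∀ u, c u⁻¹ = c u := by
    intro u
    have := hcadd u u⁻¹
    rw [mul_inv_cancel, hc1] at this
    have h3 : c u + c u = 0 := by rw [← two_mul, h2F, zero_mul]
    linear_combination -this - h3
  have hcC : ∀ g ∈ D, (c g = 0 ↔ g ∈ C) := by
    intro g hg
    rw [← hdC]
    constructor
    · intro h v; rw [hform g hg, h, zero_mul]
    · intro h
      have := h 1
      rw [hform g hg, map_one, mul_one] at this
      exact this
  refine ⟨?_, ?_, ?_, ?_⟩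
  · intro g hg hgC a ha hcomm
    have h1 : d g (β (a * a)) = 0 := by
      rw [hdkey g a ha, commutatorElement_eq_one_iff_mul_comm.mpr hcomm, hβ1]
    rw [hform g hg] at h1
    rcases mul_eq_zero.mp h1 with h | h
    · exact absurd ((hcC g hg).mp h) hgC
    · have h3 : β (a * a) = 0 := (map_eq_zero_iff E E.injective).mp h
      exact hic a (hβzero _ (hAsq a ha) h3)
  · intro g hg hgC a₁ ha₁ a₂ ha₂ hz₁ hz₂ h₁ h₂
    have hv : ∀ a ∈ A, a ∉ Subgroup.center P → ⁅g, a⁆ = a * a →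
        β (a * a) ≠ 0 ∧ c g * E (β (a * a)) = β (a * a) := by
      intro a ha hz h
      refine ⟨fun h0 => hz (hic a (hβzero _ (hAsq a ha) h0)), ?_⟩
      rw [← hform g hg, hdkey g a ha, h]
    obtain ⟨hv₁, he₁⟩ := hv a₁ ha₁ hz₁ h₁
    obtain ⟨hv₂, he₂⟩ := hv a₂ ha₂ hz₂ h₂
    have hfx : E (β (a₁ * a₁) / β (a₂ * a₂)) = β (a₁ * a₁) / β (a₂ * a₂) := by
      rw [map_div₀]
      have hE₂ : E (β (a₂ * a₂)) ≠ 0 := fun h => hv₂ ((map_eq_zero_iff E E.injective).mp h)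
      rw [div_eq_div_iff hE₂ hv₂]
      linear_combination (E (β (a₂ * a₂))) * he₁ - (E (β (a₁ * a₁))) * he₂
    rcases hfix _ hfx with h | h
    · exact absurd ((div_eq_zero_iff.mp h).resolve_right hv₂) hv₁
    · have h3 : β (a₁ * a₁) = β (a₂ * a₂) := (div_eq_one_iff_eq hv₂).mp h
      exact hβinj _ (hAsq a₁ ha₁) _ (hAsq a₂ ha₂) h3
  · intro g hg hgC g' hg' hg'C
    have hcg : c g ≠ 0 := fun h => hgC ((hcC g hg).mp h)
    have hcg' : c g' ≠ 0 := fun h => hg'C ((hcC g' hg').mp h)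
    obtain ⟨m, hm⟩ := hρgen (c g' / c g) (div_ne_zero hcg' hcg)
    have hcpow : ∀ (n : ℕ) u, c (((ξ : MulAut P) ^ n) u) = ρ ^ n * c u := by
      intro n
      induction n with
      | zero => intro u; simp
      | succ n ih =>
        intro u
        rw [pow_succ]
        show c (((ξ : MulAut P) ^ n) ((ξ : MulAut P) u)) = _
        rw [ih, hcρ, pow_succ]; ring
    refine ⟨ξ ^ m, ?_⟩
    have hmem : g'⁻¹ * ((ξ : MulAut P) ^ m) g ∈ D :=
      D.mul_mem (D.inv_mem hg') (hDK (ξ ^ m) g hg)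
    rw [hξcoe, ← hcC _ hmem, hcadd, hcinv, hcpow, ← hm, div_mul_cancel₀ _ hcg, ← two_mul, h2F,
      zero_mul]
  · obtain ⟨g, hg, hg1⟩ := hcsurj 1
    obtain ⟨h, hh, hh1⟩ := hcsurj lam
    refine ⟨g, hg, h, hh, ?_, ?_, ?_⟩
    · intro hC'
      have := (hcC g hg).mpr hC'
      rw [hg1] at this
      exact one_ne_zero this
    · intro hC'
      have := (hcC h hh).mpr hC'
      rw [hh1] at this
      exact hlam0 this
    · intro hC'
      have := (hcC _ (D.mul_mem hg hh)).mpr hC'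
      rw [hcadd, hg1, hh1] at this
      apply hlam1
      have h3 : (1 : F) + 1 = 0 := by rw [one_add_one_eq_two]; exact h2F
      linear_combination this - h3

end minover

end Cfsg.Agent.H14.Suz
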