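import Mathlib
import Cfsg.Agent.H99.ElKUM

/-!
# helper14: S5982-KUM2 -- no element with non-square square when the 2-valuation of `n` is small
(adapted from helper16's `SubKUMNONE` to `r = 2`)
-/

set_option autoImplicit false

open scoped MatrixGroups

namespace Cfsg.Agent.H14.Uni

variable {F : Type*} [Field F] [Fintype F]

theorem no_nonsquare_of_val_le (n : ℕ) (hn : 0 < n) (h4 : 4 ∣ Fintype.card F - 1)
    (hv : padicValNat 2 n ≤ padicValNat 2 (Fintype.card F - 1))
    (x : Matrix (Fin n) (Fin n) F) (hdet : x.det = 1) (z : F) (hz : ∀ y : F, y ^ 2 ≠ z)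
    (hx : x ^ 2 = z • (1 : Matrix (Fin n) (Fin n) F)) : False := by
  classical
  have hr : Nat.Prime 2 := Nat.prime_two
  obtain ⟨T, hTdef⟩ : ∃ T : Module.End F (Fin n → F), T = Matrix.toLin' x := ⟨_, rfl⟩
  have hT : T ^ 2 = z • 1 := by
    rw [hTdef]
    have h1 := congrArg (Matrix.toLinAlgEquiv' (R := F) (n := Fin n)) hx
    rw [map_pow, map_smul, map_one] at h1
    exact h1
  have hfr : Module.finrank F (Fin n → F) = n := by simp
  have hrn : 2 ∣ n := by
    have h1 := Cfsg.Agent.H99.Kum.kummer_dvd_finrank T 2 hr z hz hT ⊤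
      (fun v _ => Submodule.mem_top)
    rw [finrank_top, hfr] at h1
    exact h1
  have hdetT : LinearMap.det T = 1 := by
    rw [hTdef, LinearMap.det_toLin', hdet]
  have hw1 : (-z) ^ (n / 2) = 1 := by
    have h1 := Cfsg.Agent.H99.Kum.kummer_det T 2 hr z hz hT
    rw [hdetT, hfr] at h1
    have h2 : ((-1 : F) ^ (2 + 1) * z) = -z := by ring
    rw [h2] at h1
    exact h1.symm
  -- `-1` is a square
  have hcard : Fintype.card F % 4 ≠ 3 := by
    have h2 : 1 < Fintype.card F := Fintype.one_lt_card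
    obtain ⟨k, hk⟩ := h4
    omega
  obtain ⟨i, hi⟩ := FiniteField.isSquare_neg_one_iff.mpr hcard
  have hw : ∀ y : F, y ^ 2 ≠ -z := by
    intro y hy
    apply hz (i * y)
    rw [mul_pow, hy, pow_two, ← hi]
    ring
  have hw0 : -z ≠ 0 := by
    intro h0
    exact hw 0 (by rw [h0]; exact zero_pow two_ne_zero)
  obtain ⟨zu, hzu⟩ : ∃ zu : Fˣ, (zu : F) = -z := ⟨Units.mk0 (-z) hw0, rfl⟩
  have hcardU : Nat.card Fˣ = Fintype.card F - 1 := by
    rw [Nat.card_eq_fintype_card, Fintype.card_units]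
  have hnotpow : ∀ y : Fˣ, y ^ 2 ≠ zu := by
    intro y hy
    apply hw (y : F)
    rw [← hzu, ← hy, Units.val_pow_eq_pow_val]
  obtain ⟨g, hg⟩ := IsCyclic.exists_generator (α := Fˣ)
  have hog : orderOf g = Fintype.card F - 1 := by
    rw [← hcardU]
    exact orderOf_eq_card_of_forall_mem_zpowers hg
  obtain ⟨k, hk⟩ : ∃ k : ℕ, g ^ k = zu := by
    have h1 := hg zu
    rw [← mem_powers_iff_mem_zpowers] at h1
    exact h1
  have hrk : ¬ 2 ∣ k := by
    rintro ⟨j, rfl⟩
    apply hnotpow (g ^ j)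
    rw [← pow_mul, mul_comm, hk]
  have hozu : orderOf zu * Nat.gcd (Fintype.card F - 1) k = Fintype.card F - 1 := by
    rw [← hk, orderOf_pow, hog]
    exact Nat.div_mul_cancel (Nat.gcd_dvd_left _ _)
  have hzun : zu ^ (n / 2) = 1 := by
    apply Units.ext
    rw [Units.val_pow_eq_pow_val, hzu, hw1, Units.val_one]
  have hdvd1 : orderOf zu ∣ n / 2 := orderOf_dvd_of_pow_eq_one hzun
  have hpa : 2 ^ padicValNat 2 (Fintype.card F - 1) ∣ orderOf zu := by
    have h1 : 2 ^ padicValNat 2 (Fintype.card F - 1) ∣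
        orderOf zu * Nat.gcd (Fintype.card F - 1) k := by
      rw [hozu]
      exact pow_padicValNat_dvd
    have hc : Nat.Coprime (2 ^ padicValNat 2 (Fintype.card F - 1))
        (Nat.gcd (Fintype.card F - 1) k) := by
      apply Nat.Coprime.pow_left
      rw [Nat.Prime.coprime_iff_not_dvd hr]
      intro h
      exact hrk (h.trans (Nat.gcd_dvd_right _ _))
    exact hc.dvd_of_dvd_mul_right h1
  have h2 : 2 ^ (padicValNat 2 (Fintype.card F - 1) + 1) ∣ n := by
    have h3 := hpa.trans hdvd1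
    have h4 : 2 ^ (padicValNat 2 (Fintype.card F - 1) + 1) ∣ (n / 2) * 2 := by
      rw [pow_succ]
      exact Nat.mul_dvd_mul h3 dvd_rfl
    rwa [Nat.div_mul_cancel hrn] at h4
  have h3 : padicValNat 2 (Fintype.card F - 1) + 1 ≤ padicValNat 2 n :=
    (padicValNat_dvd_iff_le hn.ne').mp h2
  omega

end Cfsg.Agent.H14.Uni
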