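import Mathlib
import Cfsg.Agent.H46.UnivDefs

/-!
# S2398, piece MAP: good lists are transported by a monomial element
-/

set_option autoImplicit false

namespace Cfsg.Agent.H14.Univ

open Cfsg.Agent.H46.Univ

variable {G E K ι : Type*} [Group G] [Group E] [Field K]

theorem conj_GX_le (x : ι → K → G) (n : G) (f : ι → ι) (κ : ι → K) (L : List ι)
    (hn : ∀ q ∈ L, ∀ t : K, n * x q t * n⁻¹ = x (f q) (κ q * t)) :
    ∀ g ∈ GX x L, n * g * n⁻¹ ∈ GX x (L.map f) := by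
  have h : GX x L ≤ (GX x (L.map f)).comap (MulAut.conj n).toMonoidHom := by
    unfold GX
    rw [Subgroup.closure_le]
    rintro g ⟨q, t, hq, rfl⟩
    show n * x q t * n⁻¹ ∈ Subgroup.closure {g | ∃ (q : ι) (t : K), q ∈ L.map f ∧ g = x q t}
    rw [hn q hq t]
    exact Subgroup.subset_closure ⟨f q, κ q * t, List.mem_map.mpr ⟨q, hq, rfl⟩, rfl⟩
  intro g hg
  exact h hg

theorem conj_inv_GX_le (x : ι → K → G) (n : G) (f : ι → ι) (κ : ι → K) (L : List ι)
    (hκ : ∀ q ∈ L, κ q ≠ 0)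
    (hn : ∀ q ∈ L, ∀ t : K, n * x q t * n⁻¹ = x (f q) (κ q * t)) :
    ∀ g ∈ GX x (L.map f), n⁻¹ * g * n ∈ GX x L := by
  have h : GX x (L.map f) ≤ (GX x L).comap (MulAut.conj n⁻¹).toMonoidHom := by
    unfold GX
    rw [Subgroup.closure_le]
    rintro g ⟨q', t, hq', rfl⟩
    obtain ⟨q, hq, rfl⟩ := List.mem_map.mp hq'
    show n⁻¹ * x (f q) t * n⁻¹⁻¹ ∈ Subgroup.closure {g | ∃ (q : ι) (t : K), q ∈ L ∧ g = x q t}
    have hk := hκ q hq
    have e : x (f q) t = n * x q (t / κ q) * n⁻¹ := by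
      rw [hn q hq]
      congr 1
      field_simp
    rw [e]
    have e2 : n⁻¹ * (n * x q (t / κ q) * n⁻¹) * n⁻¹⁻¹ = x q (t / κ q) := by group
    rw [e2]
    exact Subgroup.subset_closure ⟨q, t / κ q, hq, rfl⟩
  intro g hg
  have h2 : n⁻¹ * g * n⁻¹⁻¹ ∈ GX x L := h hg
  rwa [inv_inv] at h2

theorem goodL_map (x : ι → K → G) (T : Set G) (n : G) (f : ι → ι) (κ : ι → K) (L : List ι)
    (hκ : ∀ q ∈ L, κ q ≠ 0)
    (hn : ∀ q ∈ L, ∀ t : K, n * x q t * n⁻¹ = x (f q) (κ q * t))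
    (hT : ∀ g ∈ T, n * g * n⁻¹ ∈ T)
    (hL : GoodL x T L) : GoodL x T (L.map f) := by
  induction L with
  | nil => exact trivial
  | cons e L' ih =>
    rw [GoodL] at hL
    obtain ⟨h1, h2, h3, h4⟩ := hL
    have hκ' : ∀ q ∈ L', κ q ≠ 0 := fun q hq => hκ q (List.mem_cons_of_mem _ hq)
    have hn' : ∀ q ∈ L', ∀ t : K, n * x q t * n⁻¹ = x (f q) (κ q * t) :=
      fun q hq => hn q (List.mem_cons_of_mem _ hq)
    have hκe : κ e ≠ 0 := hκ e List.mem_cons_self
    have hne : ∀ t : K, x (f e) t = n * x e (t / κ e) * n⁻¹ := by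
      intro t
      rw [hn e List.mem_cons_self]
      congr 1
      field_simp
    have hne' : ∀ q ∈ L', ∀ t : K, x (f q) t = n * x q (t / κ q) * n⁻¹ := by
      intro q hq t
      rw [hn' q hq]
      have hk := hκ' q hq
      congr 1
      field_simp
    rw [List.map_cons, GoodL]
    refine ⟨?_, ?_, ?_, ih hκ' hn' h4⟩
    · intro e'' he'' t u
      obtain ⟨e', he', rfl⟩ := List.mem_map.mp he''
      rw [hne t, hne' e' he' u]
      have e1 : n * x e (t / κ e) * n⁻¹ * (n * x e' (u / κ e') * n⁻¹) *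
          (n * x e (t / κ e) * n⁻¹)⁻¹ =
          n * (x e (t / κ e) * x e' (u / κ e') * (x e (t / κ e))⁻¹) * n⁻¹ := by group
      rw [e1]
      exact conj_GX_le x n f κ L' hn' _ (h1 e' he' _ _)
    · intro t ht
      rw [hne t] at ht
      have h5 := conj_inv_GX_le x n f κ L' hκ' hn' _ ht
      have e1 : n⁻¹ * (n * x e (t / κ e) * n⁻¹) * n = x e (t / κ e) := by group
      rw [e1] at h5
      have h6 := h2 _ h5
      rcases div_eq_zero_iff.mp h6 with h | h
      · exact h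
      · exact absurd h hκe
    · intro e'' he''
      obtain ⟨e', he', rfl⟩ := List.mem_map.mp he''
      obtain ⟨h₀, hh₀, c, hc, hfix, hsc⟩ := h3 e' he'
      refine ⟨n * h₀ * n⁻¹, hT h₀ hh₀, c, hc, ?_, ?_⟩
      · intro t
        rw [hne t]
        have e1 : n * h₀ * n⁻¹ * (n * x e (t / κ e) * n⁻¹) * (n * h₀ * n⁻¹)⁻¹ =
            n * (h₀ * x e (t / κ e) * h₀⁻¹) * n⁻¹ := by group
        rw [e1, hfix]
      · intro u
        have hk := hκ' e' he'
        have e0 : x (f e') u = n * x e' (u / κ e') * n⁻¹ := hne' e' he' u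
        have e1 : n * h₀ * n⁻¹ * (n * x e' (u / κ e') * n⁻¹) * (n * h₀ * n⁻¹)⁻¹ =
            n * (h₀ * x e' (u / κ e') * h₀⁻¹) * n⁻¹ := by group
        rw [e0, e1, hsc, hn' e' he']
        congr 1
        field_simp

end Cfsg.Agent.H14.Univ
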